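import Cfsg.Agent.Lib.Lie.Chev.Poincare

/-!
# Lemmas on the sets of inversions and on the subgroups `Uinv`, `Ukeep`
-/

set_option autoImplicit false

namespace CfsgLib.Lie.Chev

open Cfsg.Lie
open scoped MatrixGroups

variable {D : ChevalleyDatum} {K : Type*} [Field K]

/-- the root is supported in the set of nodes -/
def InJ (G : Good D) (J : Finset (Fin D.rank)) (r : Fin D.nroots) : Prop :=
  ∀ m, m ∉ J → G.rho r m = 0

namespace Good

variable (G : Good D)

include G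

theorem inJ_simp {J : Finset (Fin D.rank)} {i : Fin D.rank} (hi : i ∈ J) : InJ G J (G.simp' i) :=
  fun m hm => by rw [G.rho_simp, Pi.single_eq_of_ne (fun e : m = i => hm (e ▸ hi))]

theorem inJ_negr {J : Finset (Fin D.rank)} {r : Fin D.nroots} (h : InJ G J r) :
    InJ G J (G.negr r) :=
  fun m hm => by rw [G.rho_negr, Pi.neg_apply, h m hm, neg_zero]

theorem inJ_pw {J : Finset (Fin D.rank)} {l : List (Fin D.rank)} (hl : ∀ i ∈ l, i ∈ J)
    {r : Fin D.nroots} : InJ G J (G.pw l r) ↔ InJ G J r :=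
  forall_congr' fun m => imp_congr_right fun hm => by rw [G.rho_pw_outside J l hl r m hm]

theorem pos_pw_of_not_inJ {J : Finset (Fin D.rank)} {l : List (Fin D.rank)} (hl : ∀ i ∈ l, i ∈ J)
    {r : Fin D.nroots} (hr : D.IsPosRoot r.val) (h : ¬ InJ G J r) :
    D.IsPosRoot (G.pw l r).val := by
  simp only [InJ, not_forall] at h
  obtain ⟨m, hm, h0⟩ := h
  refine G.isPosRoot_of_coord (j := m) ?_
  rw [G.rho_pw_outside J l hl r m hm]
  exact lt_of_le_of_ne (G.rho_nonneg hr m) (Ne.symm h0)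

theorem ht_pw (l : List (Fin D.rank)) (r : Fin D.nroots) :
    G.ht (G.rho (G.pw l r)) = ∑ j, G.rho r j * G.ht (G.rho (G.pw l (G.simp' j))) := by
  rw [G.rho_pw]
  induction (Finset.univ : Finset (Fin D.rank)) using Finset.induction with
  | empty => simpa using G.ht_smul 0 0
  | insert a s ha ih => rw [Finset.sum_insert ha, Finset.sum_insert ha, G.ht_add, ih, G.ht_smul]

theorem neg_posJ {J : Finset (Fin D.rank)} {l : List (Fin D.rank)}
    (hu : ∀ j ∈ J, ¬ D.IsPosRoot (G.pw l (G.simp' j)).val) {r : Fin D.nroots}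
    (hsupp : InJ G J r) (hr : D.IsPosRoot r.val) : ¬ D.IsPosRoot (G.pw l r).val := by
  rw [G.isPosRoot_iff, G.ht_pw, not_lt]
  refine Finset.sum_nonpos fun j _ => ?_
  by_cases hj : j ∈ J
  · have := hu j hj
    rw [G.isPosRoot_iff, not_lt] at this
    exact mul_nonpos_of_nonneg_of_nonpos (G.rho_nonneg hr j) this
  · rw [hsupp j hj, zero_mul]

theorem ninv_inv (π : Equiv.Perm (Fin D.nroots)) (hπ : ∀ r, π (G.negr r) = G.negr (π r)) :
    ninv G π⁻¹ = ninv G π := by
  classical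
  refine Finset.card_bij (fun r _ => G.negr (π⁻¹ r)) ?_ ?_ ?_
  · intro r hr
    simp only [Finset.mem_filter, Finset.mem_univ, true_and] at hr ⊢
    refine ⟨(G.negr_pos_iff _).2 hr.2, ?_⟩
    rw [hπ, show π (π⁻¹ r) = r from π.apply_symm_apply r, G.negr_pos_iff]
    exact not_not.2 hr.1
  · intro a _ b _ e
    exact π⁻¹.injective (by simpa [G.negr_negr] using congrArg G.negr e)
  · intro r hr
    simp only [Finset.mem_filter, Finset.mem_univ, true_and] at hr
    refine ⟨π (G.negr r), ?_, ?_⟩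
    · simp only [Finset.mem_filter, Finset.mem_univ, true_and]
      refine ⟨by rw [hπ]; exact (G.negr_pos_iff _).2 hr.2, ?_⟩
      rw [show π⁻¹ (π (G.negr r)) = G.negr r from π.symm_apply_apply _, G.negr_pos_iff]
      exact not_not.2 hr.1
    · rw [show π⁻¹ (π (G.negr r)) = G.negr r from π.symm_apply_apply _, G.negr_negr]

theorem Wg_negr {π : Equiv.Perm (Fin D.nroots)} (hπ : π ∈ G.Wg) (r : Fin D.nroots) :
    π (G.negr r) = G.negr (π r) := by
  obtain ⟨l, rfl⟩ := G.exists_pw hπ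
  exact G.pw_negr l r

theorem ninv_mul_le (σ τ : Equiv.Perm (Fin D.nroots)) :
    ninv G (σ * τ) ≤ ninv G σ + ninv G τ := by
  classical
  set B := Finset.univ.filter fun r : Fin D.nroots => D.IsPosRoot r.val ∧ ¬ D.IsPosRoot (τ r).val
  set A := (Finset.univ.filter fun r : Fin D.nroots =>
    D.IsPosRoot r.val ∧ ¬ D.IsPosRoot (σ r).val).image τ.symm
  refine le_trans (Finset.card_le_card (t := A ∪ B) fun r hr => ?_) ?_
  · replace hr := (Finset.mem_filter.1 hr).2
    rw [Equiv.Perm.mul_apply] at hr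
    by_cases h : D.IsPosRoot (τ r).val
    · exact Finset.mem_union_left _ (Finset.mem_image.2
        ⟨τ r, by simp [h, hr.2], τ.symm_apply_apply r⟩)
    · exact Finset.mem_union_right _ (by simp [B, hr.1, h])
  · refine le_trans (Finset.card_union_le _ _) (Nat.add_le_add ?_ le_rfl)
    exact Finset.card_image_le

end Good

namespace Full

variable (C : Full D)

include C

theorem mem_Uinv_of_conj {n : GL D.Idx K} {π : Equiv.Perm (Fin D.nroots)} (hn : C.G.NPerm n π)
    {v : GL D.Idx K} (hv : v ∈ D.posUnipotent K) (h : n * v * n⁻¹ ∈ D.negUnipotent K) :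
    v ∈ (Uinv C.G π : Subgroup (GL D.Idx K)) := by
  obtain ⟨a, ha, b, hb, rfl⟩ := C.exists_keep_mul_inv π hv
  have e : n * a * n⁻¹ = (n * (a * b) * n⁻¹) * (n * b * n⁻¹)⁻¹ := by group
  have h1 : n * a * n⁻¹ = 1 := Subgroup.mem_bot.1 (C.G.U_inf_V_eq (K := K) ▸ Subgroup.mem_inf.2
    ⟨C.G.conj_Ukeep hn a ha, e ▸ mul_mem h (inv_mem (C.G.conj_Uinv hn b hb))⟩)
  rw [mul_inv_eq_one] at h1
  rw [mul_left_cancel (h1.trans (mul_one n).symm), one_mul]
  exact hb

theorem mem_Ukeep_of_conj {n : GL D.Idx K} {π : Equiv.Perm (Fin D.nroots)} (hn : C.G.NPerm n π)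
    {v : GL D.Idx K} (hv : v ∈ D.posUnipotent K) (h : n * v * n⁻¹ ∈ D.posUnipotent K) :
    v ∈ (Ukeep C.G π : Subgroup (GL D.Idx K)) := by
  obtain ⟨a, ha, b, hb, rfl⟩ := C.exists_keep_mul_inv π hv
  have e : n * b * n⁻¹ = (n * a * n⁻¹)⁻¹ * (n * (a * b) * n⁻¹) := by group
  have h1 : n * b * n⁻¹ = 1 := Subgroup.mem_bot.1 (C.G.U_inf_V_eq (K := K) ▸ Subgroup.mem_inf.2
    ⟨e ▸ mul_mem (inv_mem (C.G.conj_Ukeep hn a ha)) h, C.G.conj_Uinv hn b hb⟩)
  rw [mul_inv_eq_one] at h1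
  rw [mul_left_cancel (h1.trans (mul_one n).symm), mul_one]
  exact ha

end Full

end CfsgLib.Lie.Chev
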