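import Cfsg.Agent.Lib.Lie.Chev.Tw.Tools2
import Cfsg.Agent.Lib.Lie.Chev.Simple
import Cfsg.Agent.Lib.Lie.Chev.Unip2
import Cfsg.Agent.Lib.Lie.Chev.Cent
import Cfsg.Agent.S0319

/-!
# Trivial core, perfectness and simplicity of the twisted groups
-/

set_option autoImplicit false

namespace CfsgLib.Lie.Chev

open Cfsg.Lie
open scoped MatrixGroups commutatorElement

variable {D : ChevalleyDatum} {K : Type*} [Field K]

namespace Full

variable (C : Full D)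

include C

theorem tor_conj_uprod (c : Fin D.rank → Kˣ) (t : Fin D.nroots → K) :
    C.G.tor c * C.uprod 0 t * (C.G.tor c)⁻¹ =
      C.uprod 0 fun r => (C.G.chi c (C.G.rho r) : K) * t r := by
  unfold uprod
  generalize ((List.finRange D.nroots).filter _) = l
  induction l with
  | nil => simp
  | cons a l ih =>
    rw [List.map_cons, List.map_cons, List.prod_cons, List.prod_cons, ← ih, ← C.G.tor_conj_xu]
    group

theorem torθ_conj_list (c : Fin D.rank → Kˣ) (t : Fin D.nroots → K) (L : List (Fin D.nroots)) :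
    C.G.torθ c * (L.map fun r => C.G.xu r (t r)).prod * (C.G.torθ c)⁻¹ =
      (L.map fun r => C.G.xu r (((∏ i, c i ^ cart D i r : Kˣ) : K) * t r)).prod := by
  induction L with
  | nil => simp
  | cons a l ih =>
    rw [List.map_cons, List.map_cons, List.prod_cons, List.prod_cons, ← ih, ← C.G.torθ_conj_xu]
    group

/-- the coefficient vector of an element of an inversion group -/
theorem exists_full {π : Equiv.Perm (Fin D.nroots)} {L : List (Fin D.nroots)}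
    (hL : (List.finRange D.nroots).filter
      (fun r => decide (D.IsPosRoot r.val ∧ ¬ D.IsPosRoot (π r).val)) = L)
    {H : Subgroup (GL D.Idx K)} (t : Fin D.nroots → K) (ht : (L.map fun r => C.G.xu r (t r)).prod ∈ H)
    {r : Fin D.nroots} (hr : r ∈ L) (hne : t r ≠ 0) :
    ∃ t' : Fin D.nroots → K, C.uprod 0 t' ∈ H ∧ t' r ≠ 0 := by
  classical
  have hS : ∀ r ∈ L, ¬ D.IsPosRoot (π r).val := fun r hr => by
    rw [← hL] at hr
    simp only [List.mem_filter, decide_eq_true_eq] at hr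
    exact hr.2.2
  refine ⟨fun r => if D.IsPosRoot (π r).val then 0 else t r, ?_, by simp only [if_neg (hS r hr)]; exact hne⟩
  rw [C.uprod_support (fun r => ¬ D.IsPosRoot (π r).val) hL _ fun r _ h => if_pos (not_not.1 h)]
  rwa [List.map_congr_left fun r hr => by rw [if_neg (hS r hr)]]

end Full

namespace Orbits

variable {G : Good D} {p : Equiv.Perm (Fin D.nroots)}

/-- non-commuting pairs of longest elements, from the tables -/
theorem irred_of_tab {S : OrbData} (O : Orbits G p (Fin S.no))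
    (hO : ∀ (o : Fin S.no) (r : Fin D.nroots), (O.wO o r).val = digit (S.tab.get o.val) r.val)
    (h : ∀ J : Finset (Fin S.no), J.Nonempty → J ≠ Finset.univ → ∃ i ∈ J, ∃ j, j ∉ J ∧
      ∃ r : Fin D.nroots, tabPow (S.tab.get i.val) (S.tab.get j.val) 2 r.val ≠ r.val)
    (J : Set (Fin S.no)) (hne : J.Nonempty) (hne' : Jᶜ.Nonempty) :
    ∃ i ∈ J, ∃ j ∉ J, (O.wO i * O.wO j) ^ 2 ≠ 1 := by
  classical
  obtain ⟨i, hi, j, hj, r, hr⟩ := h J.toFinset (Set.toFinset_nonempty.2 hne) (fun e => by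
    obtain ⟨x, hx⟩ := hne'
    exact hx (Set.mem_toFinset.1 (e ▸ Finset.mem_univ x)))
  refine ⟨i, Set.mem_toFinset.1 hi, j, fun h' => hj (Set.mem_toFinset.2 h'), fun e => hr ?_⟩
  have := congrArg (fun π : Equiv.Perm (Fin D.nroots) => (π r).val) e
  simp only [pow_two, Equiv.Perm.mul_apply, hO, Equiv.Perm.one_apply] at this
  exact this

end Orbits

namespace Good

variable (G : Good D)

include G

/-- a group generated by one-signed words is generated by its positive and negative parts -/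
theorem gen_le_UV {S : Set (List (ℕ × K))}
    (h : ∀ w ∈ S, ∃ l : List (Fin D.nroots × K), w = (l.map fun p => (p.1.val, p.2)) ∧
      ((∀ p ∈ l, D.IsPosRoot p.1.val) ∨ (∀ p ∈ l, ¬ D.IsPosRoot p.1.val))) :
    D.genSubgroup K S ≤ Subgroup.closure
      (((D.genSubgroup K S ⊓ D.posUnipotent K : Subgroup (GL D.Idx K)) : Set (GL D.Idx K)) ∪
        ((D.genSubgroup K S ⊓ D.negUnipotent K : Subgroup (GL D.Idx K)) : Set (GL D.Idx K))) := by
  refine G.gen_le fun w hw => ?_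
  obtain ⟨l, rfl, hl⟩ := h w hw
  refine ⟨l, rfl, Subgroup.subset_closure ?_⟩
  have hm := G.mem_gen l hw
  rcases hl with hl | hl
  · exact Or.inl ⟨hm, list_prod_mem fun x hx => by
      obtain ⟨p, hp, rfl⟩ := List.mem_map.1 hx
      exact G.xu_mem_U (hl p hp) _⟩
  · exact Or.inr ⟨hm, list_prod_mem fun x hx => by
      obtain ⟨p, hp, rfl⟩ := List.mem_map.1 hx
      exact G.xu_mem_V ((G.isNegRoot_iff_not_pos _).2 (hl p hp)) _⟩

end Good

namespace TwGp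

variable {C : Full D} {T : Twist C.G K} {ι : Type} {O : Orbits C.G T.p ι}
  {Γ : Subgroup (GL D.Idx K)} (P : TwGp O Γ)

include P

/-- a normal subgroup of the Borel subgroup of the fixed group is trivial -/
theorem eq_bot_of_le_borel
    (hfull : ∀ j, ∃ t : Fin D.nroots → K, C.uprod 0 t ∈ T.Fix ∧ t (C.G.simp' j) ≠ 0)
    (N : Subgroup ↥Γ) [N.Normal] (hN : N ≤ (D.borelSubgroup K ⊓ Γ).subgroupOf Γ) : N = ⊥ := by
  obtain ⟨π, hπ, hl⟩ := T.exists_longest_Wp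
  obtain ⟨n, hn, hnπ⟩ := P.toPre.exists_n hπ
  obtain ⟨hnΓ, hnN⟩ := P.toPre.closure_nk_le hn
  have hH : ∀ k ∈ N, (k : GL D.Idx K) ∈ D.diagonalSubgroup K := by
    intro k hk
    let m : ↥Γ := ⟨n, hnΓ⟩
    have hb : (k : GL D.Idx K) ∈ D.borelSubgroup K := (Subgroup.mem_subgroupOf.1 (hN hk)).1
    have hb2 : ((m⁻¹ * k * m⁻¹⁻¹ : ↥Γ) : GL D.Idx K) ∈ D.borelSubgroup K :=
      (Subgroup.mem_subgroupOf.1 (hN (Subgroup.Normal.conj_mem ‹_› k hk m⁻¹))).1
    simp only [Subgroup.coe_mul, Subgroup.coe_inv, inv_inv, m] at hb2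
    obtain ⟨v, hv, d, hd, e⟩ := C.G.mem_borel_iff.1 hb2
    have hv' : v ∈ (Uinv C.G π : Subgroup (GL D.Idx K)) := by
      rw [C.G.posUnipotent_eq_closure] at hv
      refine Subgroup.closure_mono ?_ hv
      rintro x ⟨r, t, hr, hx⟩
      exact ⟨r, t, ⟨hr, hl r hr⟩, hx⟩
    have hVH : (k : GL D.Idx K) ∈ D.negUnipotent K ⊔ D.diagonalSubgroup K := by
      rw [show (k : GL D.Idx K) = n * (n⁻¹ * (k : GL D.Idx K) * n) * n⁻¹ by group, e,
        show n * (v * d) * n⁻¹ = (n * v * n⁻¹) * (n * d * n⁻¹) by group]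
      exact mul_mem (Subgroup.mem_sup_left (C.G.conj_Uinv hnπ v hv'))
        (Subgroup.mem_sup_right ((Subgroup.mem_normalizer_iff.1
          (C.G.monomial_le_normalizer hnN) d).1 hd))
    exact C.G.B_inf_VH (K := K) ▸ Subgroup.mem_inf.2 ⟨hb, hVH⟩
  rw [eq_bot_iff]
  intro k hk
  obtain ⟨c, hc⟩ := C.G.exists_tor (hH k hk)
  have hc1 : c = 1 := by
    funext j
    obtain ⟨t, hF, ht⟩ := hfull j
    have hxU : C.uprod 0 t ∈ D.posUnipotent K := C.G.posUnipotent_eq (K := K) ▸ C.uprod_mem 0 t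
    set x : ↥Γ := ⟨C.uprod 0 t, P.toPre.U_le (Subgroup.mem_inf.2 ⟨hF, hxU⟩)⟩
    have h1 : ((k * (x * k⁻¹ * x⁻¹) : ↥Γ) : GL D.Idx K) ∈ D.diagonalSubgroup K :=
      hH _ (mul_mem hk (Subgroup.Normal.conj_mem ‹_› _ (inv_mem hk) x))
    simp only [Subgroup.coe_mul, Subgroup.coe_inv, x] at h1
    rw [← mul_assoc, ← mul_assoc, hc, C.tor_conj_uprod] at h1
    set y := C.uprod 0 fun r => (C.G.chi c (C.G.rho r) : K) * t r
    have hyU : y ∈ D.posUnipotent K := C.G.posUnipotent_eq (K := K) ▸ C.uprod_mem 0 _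
    have h2 : y * (C.uprod 0 t)⁻¹ = 1 :=
      (C.G.eq_one_of_U_H (mul_mem hyU (inv_mem hxU)) (inv_mem h1) (mul_inv_cancel _)).1
    have h3 := C.uprod_inj D.nroots 0 (Nat.zero_add _) _ _ (mul_inv_eq_one.1 h2) (C.G.simp' j)
      (Nat.zero_le _) (C.G.simp_pos j)
    rw [C.G.rho_simp, C.G.chi_single] at h3
    exact Units.ext ((mul_eq_right₀ ht).1 h3)
  rw [hc1, map_one] at hc
  exact Subgroup.mem_bot.2 (Subtype.ext hc)

theorem normalCore_eq_bot
    (hfull : ∀ j, ∃ t : Fin D.nroots → K, C.uprod 0 t ∈ T.Fix ∧ t (C.G.simp' j) ≠ 0) :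
    ((D.borelSubgroup K ⊓ Γ).subgroupOf Γ).normalCore = ⊥ :=
  P.eq_bot_of_le_borel hfull _ (Subgroup.normalCore_le _)

omit P in
theorem derived_conj {g x : GL D.Idx K} (hg : g ∈ Γ) (hx : x ∈ ⁅Γ, Γ⁆) : g * x * g⁻¹ ∈ ⁅Γ, Γ⁆ := by
  have hle : ⁅Γ, Γ⁆ ≤ Γ := Subgroup.commutator_le.2 fun a ha b hb =>
    mul_mem (mul_mem (mul_mem ha hb) (inv_mem ha)) (inv_mem hb)
  have h1 := Subgroup.commutator_mem_commutator hg (hle hx)
  have := mul_mem h1 hx
  simpa [commutatorElement_def, mul_assoc] using this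

theorem X_mem_derived (hX : ∀ k, T.Fix ⊓ Uinv C.G (O.wO k) ≤ ⁅Γ, Γ⁆) {π : Equiv.Perm (Fin D.nroots)}
    (hπ : π ∈ Wp C.G T.p) : T.Fix ⊓ Uinv C.G π ≤ ⁅Γ, Γ⁆ := by
  refine O.induction_on (P := fun π => T.Fix ⊓ Uinv C.G π ≤ ⁅Γ, Γ⁆) hπ ?_ ?_
  · rintro g ⟨-, hg⟩
    have : g = 1 := by
      have h := C.G.conj_Uinv (Good.NPerm.one C.G) g hg
      simp only [one_mul, inv_one, mul_one] at h
      exact Subgroup.mem_bot.1 (C.G.U_inf_V_eq (K := K) ▸
        Subgroup.mem_inf.2 ⟨C.G.Uinv_le _ hg, h⟩)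
    exact this ▸ one_mem _
  · intro π' hπ' k hk _ ih g hg
    obtain ⟨n, hn, hnπ⟩ := P.toPre.exists_n hπ'
    obtain ⟨x, hx, b, hb, rfl⟩ := (P.toPre.step_bij hπ' hk ((P.toPre.closure_nk_le hn).1) hnπ).1 g hg
    refine mul_mem ?_ (hX k hb)
    simpa using derived_conj (inv_mem (P.toPre.nk_mem k)) (ih hx)

theorem commutator_eq_top
    (hgen : Γ ≤ Subgroup.closure (((Γ ⊓ D.posUnipotent K : Subgroup (GL D.Idx K)) : Set (GL D.Idx K)) ∪
      ((Γ ⊓ D.negUnipotent K : Subgroup (GL D.Idx K)) : Set (GL D.Idx K))))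
    (hX : ∀ k, T.Fix ⊓ Uinv C.G (O.wO k) ≤ ⁅Γ, Γ⁆) : commutator ↥Γ = ⊤ := by
  obtain ⟨π, hπ, hl⟩ := T.exists_longest_Wp
  obtain ⟨n, hn, hnπ⟩ := P.toPre.exists_n hπ
  obtain ⟨hnΓ, hnN⟩ := P.toPre.closure_nk_le hn
  have hU : ∀ g ∈ Γ, g ∈ D.posUnipotent K → g ∈ ⁅Γ, Γ⁆ := by
    intro g hg hgU
    refine P.X_mem_derived hX hπ (Subgroup.mem_inf.2 ⟨P.le hg, ?_⟩)
    rw [C.G.posUnipotent_eq_closure] at hgU
    refine Subgroup.closure_mono ?_ hgU
    rintro x ⟨r, t, hr, hx⟩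
    exact ⟨r, t, ⟨hr, hl r hr⟩, hx⟩
  have hVU : ∀ g ∈ D.negUnipotent K, n⁻¹ * g * n ∈ D.posUnipotent K := by
    intro g hg
    rw [C.G.negUnipotent_eq_closure] at hg
    induction hg using Subgroup.closure_induction with
    | one => simp
    | mul a b _ _ ha hb =>
      rw [show n⁻¹ * (a * b) * n = (n⁻¹ * a * n) * (n⁻¹ * b * n) by group]; exact mul_mem ha hb
    | inv a _ ha => rw [show n⁻¹ * a⁻¹ * n = (n⁻¹ * a * n)⁻¹ by group]; exact inv_mem ha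
    | mem y hy =>
      obtain ⟨r, t, hr, rfl⟩ := hy
      obtain ⟨a, ha⟩ := Good.NPerm.inv C.G hnπ r
      rw [inv_inv] at ha
      rw [ha]
      refine C.G.xu_mem_U ?_ _
      by_contra hneg
      have h2 := hl (C.G.negr (π⁻¹ r)) ((C.G.negr_pos_iff _).2 hneg)
      rw [C.G.Wg_negr (mem_Wp.1 hπ).1, show π (π⁻¹ r) = r from π.apply_symm_apply r,
        C.G.negr_pos_iff, not_not] at h2
      exact (C.G.isNegRoot_iff_not_pos r).1 hr h2
  have hle : Γ ≤ ⁅Γ, Γ⁆ := by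
    refine hgen.trans ((Subgroup.closure_le _).2 ?_)
    rintro g (⟨hg, hgU⟩ | ⟨hg, hgV⟩)
    · exact hU g hg hgU
    · have h := derived_conj hnΓ (hU _ (mul_mem (mul_mem (inv_mem hnΓ) hg) hnΓ) (hVU g hgV))
      simpa [mul_assoc] using h
  rw [eq_top_iff]
  intro g _
  have h1 := hle g.2
  rw [← Γ.map_subtype_commutator] at h1
  obtain ⟨x, hx, e⟩ := h1
  exact Subtype.ext e ▸ hx

theorem X_derived_of_torus [Finite K] {k : ι} {L : List (Fin D.nroots)}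
    (hL : (List.finRange D.nroots).filter
      (fun r => decide (D.IsPosRoot r.val ∧ ¬ D.IsPosRoot (O.wO k r).val)) = L)
    (c : Fin D.rank → Kˣ) (hc : C.G.torθ c ∈ T.Fix)
    (hne : ∀ r ∈ L, ((∏ i, c i ^ cart D i r : Kˣ) : K) ≠ 1) :
    T.Fix ⊓ Uinv C.G (O.wO k) ≤ ⁅Γ, Γ⁆ := by
  classical
  set h := C.G.torθ c
  have hH : h ∈ D.diagonalSubgroup K := (C.G.diagonal_eq_range (K := K)).symm ▸ ⟨c, rfl⟩
  have hhΓ : h ∈ Γ := P.H_le ⟨hc, hH⟩
  have hmem : ∀ x ∈ T.Fix ⊓ Uinv C.G (O.wO k), h * x * h⁻¹ * x⁻¹ ∈ T.Fix ⊓ Uinv C.G (O.wO k) :=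
    fun x hx => mul_mem (Subgroup.mem_inf.2 ⟨mul_mem (mul_mem hc hx.1) (inv_mem hc),
      C.G.Uinv_congr_H hH _ hx.2⟩) (inv_mem hx)
  let f : ↥(T.Fix ⊓ Uinv C.G (O.wO k)) → ↥(T.Fix ⊓ Uinv C.G (O.wO k)) := fun x =>
    ⟨h * x.1 * h⁻¹ * x.1⁻¹, hmem x.1 x.2⟩
  haveI : Finite (GL D.Idx K) := inferInstance
  have hinj : Function.Injective f := by
    intro x y e
    have e' : h * x.1 * h⁻¹ * x.1⁻¹ = h * y.1 * h⁻¹ * y.1⁻¹ := congrArg Subtype.val e
    have e2 : h * (y.1⁻¹ * x.1) * h⁻¹ = y.1⁻¹ * x.1 := by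
      calc h * (y.1⁻¹ * x.1) * h⁻¹ = (h * y.1 * h⁻¹)⁻¹ * (h * x.1 * h⁻¹ * x.1⁻¹) * x.1 := by group
        _ = _ := by rw [e']; group
    obtain ⟨u, hu⟩ := C.Uinv_normal (C.G.nPerm_nw _) hL
      (mul_mem (inv_mem y.2.2) x.2.2 : y.1⁻¹ * x.1 ∈ (Uinv C.G (O.wO k) : Subgroup (GL D.Idx K)))
    rw [hu, C.torθ_conj_list] at e2
    have hz : ∀ r ∈ L, u r = 0 := fun r hr => by
      have h1 := C.normal_inj hL _ _ e2 hr
      by_contra h0
      exact hne r hr ((mul_eq_right₀ h0).1 h1)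
    refine Subtype.ext (inv_mul_eq_one.1 (hu.trans (List.prod_eq_one fun z hz' => ?_))).symm
    obtain ⟨r, hr, rfl⟩ := List.mem_map.1 hz'
    rw [hz r hr, C.G.xu_zero]
  intro g hg
  obtain ⟨x, hx⟩ := Finite.surjective_of_injective hinj ⟨g, hg⟩
  rw [show g = h * x.1 * h⁻¹ * x.1⁻¹ from (congrArg Subtype.val hx).symm]
  exact Subgroup.commutator_mem_commutator hhΓ (P.toPre.X_le k x.2)

/-- root elements that are commutators, and their conjugates -/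
theorem single_mem_derived {π : Equiv.Perm (Fin D.nroots)} (hπ : π ∈ Wp C.G T.p)
    {r s a b : Fin D.nroots} (θ : K ≃+* K) (hπr : π r = s)
    (hfix : ∀ x ∈ [r, s, a, b], T.p x = x ∧ T.eps x = 1 ∧ T.σ x = θ)
    (hab : b ≠ a) (hab' : b ≠ C.G.negr a) {z : ℤ} (hz : z * z = 1)
    (hl : D.commTerms a.val b.val = [(s.val, z, 1, 1)]) {t : K} (ht : θ t = t) :
    C.G.xu r t ∈ ⁅Γ, Γ⁆ := by
  have hF : ∀ x ∈ [r, s, a, b], ∀ u : K, θ u = u → C.G.xu x u ∈ Γ := by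
    intro x hx u hu
    obtain ⟨h1, h2, h3⟩ := hfix x hx
    rw [P.eq_Fix]
    have := T.mem_Fix_list [(x, u)] (by simp [h1, h2, h3, hu])
    simpa using this
  obtain ⟨n, hn, hnπ⟩ := P.toPre.exists_n hπ
  obtain ⟨hnΓ, -⟩ := P.toPre.closure_nk_le hn
  obtain ⟨e, he⟩ := hnπ r
  have hconj : n * C.G.xu r t * n⁻¹ = C.G.xu s ((e : K) * t) := by rw [he, hπr]
  set t' := (e : K) * t
  have ht' : θ t' = t' := by
    have hmF : ([(s, t')].map fun p => C.G.xu p.1 p.2).prod ∈ T.Fix := by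
      simp only [List.map_cons, List.map_nil, List.prod_cons, List.prod_nil, mul_one]
      rw [← hconj]
      exact P.le (mul_mem (mul_mem hnΓ (hF r (by simp) t ht)) (inv_mem hnΓ))
    have h := T.fix_list hmF
    obtain ⟨h1, h2, h3⟩ := hfix s (by simp)
    simp only [List.map_cons, List.map_nil, List.prod_cons, List.prod_nil, mul_one, h1, h2, h3,
      one_mul] at h
    exact C.G.xu_injective _ h
  set u := -((z : K) * t') with hu
  have hu' : θ u = u := by rw [hu, map_neg, map_mul, map_intCast, ht']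
  have hc := C.commAt a b hab hab' u (1 : K)
  unfold CommAt at hc
  rw [cwR, hl, List.map_cons, List.map_nil, wordR_cons, wordR_nil, mul_one, xN, dif_pos s.isLt] at hc
  have hval : (z : K) * (-u) ^ 1 * (1 : K) ^ 1 = t' := by
    have hzK : (z : K) * (z : K) = 1 := by rw [← Int.cast_mul, hz, Int.cast_one]
    rw [hu]
    linear_combination t' * hzK
  simp only [hval] at hc
  have hc' : C.G.xu b 1 * C.G.xu a u = C.G.xu a u * C.G.xu b 1 * C.G.xu s t' := Units.ext hc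
  have hs : C.G.xu s t' ∈ ⁅Γ, Γ⁆ := by
    rw [show C.G.xu s t' = ⁅(C.G.xu b (1 : K))⁻¹, (C.G.xu a u)⁻¹⁆ by
      rw [commutatorElement_def, inv_inv, inv_inv,
        show (C.G.xu b 1)⁻¹ * (C.G.xu a u)⁻¹ * C.G.xu b 1 * C.G.xu a u =
          (C.G.xu b 1)⁻¹ * (C.G.xu a u)⁻¹ * (C.G.xu b 1 * C.G.xu a u) by group, hc']
      group]
    exact Subgroup.commutator_mem_commutator (inv_mem (hF b (by simp) 1 (map_one θ)))
      (inv_mem (hF a (by simp) u hu'))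
  have := derived_conj (inv_mem hnΓ) hs
  rw [← hconj] at this
  simpa [mul_assoc] using this

theorem irreducible
    (hirr : ∀ J : Set ι, J.Nonempty → Jᶜ.Nonempty → ∃ i ∈ J, ∃ j ∉ J, (O.wO i * O.wO j) ^ 2 ≠ 1) :
    P.bnPair.Irreducible := by
  intro J hJ hne hne'
  have hne1 : (P.sGp ⁻¹' J).Nonempty := by
    obtain ⟨x, hx⟩ := hne
    obtain ⟨i, rfl⟩ := hJ hx
    exact ⟨i, hx⟩
  have hne2 : (P.sGp ⁻¹' J)ᶜ.Nonempty := by
    obtain ⟨x, ⟨i, rfl⟩, hx⟩ := hne'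
    exact ⟨i, hx⟩
  obtain ⟨i, hi, j, hj, hij⟩ := hirr _ hne1 hne2
  refine ⟨P.sGp i, hi, P.sGp j, ⟨⟨j, rfl⟩, hj⟩, fun hB => hij ?_⟩
  have hB' : (P.toPre.nk i * P.toPre.nk j * (P.toPre.nk i)⁻¹ * (P.toPre.nk j)⁻¹ : GL D.Idx K) ∈
      D.borelSubgroup K := (Subgroup.mem_subgroupOf.1 hB).1
  have hN : (P.toPre.nk i * P.toPre.nk j * (P.toPre.nk i)⁻¹ * (P.toPre.nk j)⁻¹ : GL D.Idx K) ∈
      D.monomialSubgroup K :=
    mul_mem (mul_mem (mul_mem (P.toPre.nk_monomial i) (P.toPre.nk_monomial j))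
      (inv_mem (P.toPre.nk_monomial i))) (inv_mem (P.toPre.nk_monomial j))
  have hH := C.G.B_inf_N (K := K) ▸ Subgroup.mem_inf.2 ⟨hB', hN⟩
  have e := Good.NPerm.unique C.G (C.G.nPerm_H hH)
    (Good.NPerm.mul C.G (Good.NPerm.mul C.G (Good.NPerm.mul C.G (P.toPre.nk_perm i) (P.toPre.nk_perm j))
      (Good.NPerm.inv C.G (P.toPre.nk_perm i))) (Good.NPerm.inv C.G (P.toPre.nk_perm j)))
  rw [O.wO_inv, O.wO_inv] at e
  rw [pow_two, ← mul_assoc]
  exact e.symm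

theorem solvable_borel : Group.IsSolvable ↥(P.bnPair.B) := by
  haveI := C.posUnipotent_nilpotent (K := K)
  haveI : Group.IsSolvable ↥(D.borelSubgroup K) := C.G.isSolvable_borel
  let f : ↥(P.bnPair.B) →* ↥(D.borelSubgroup K) :=
    (Γ.subtype.comp P.bnPair.B.subtype).codRestrict (D.borelSubgroup K)
      fun x => (Subgroup.mem_subgroupOf.1 x.2).1
  refine Group.isSolvable_of_isSolvable_injective (f := f) fun x y h => ?_
  have h' : ((f x : ↥(D.borelSubgroup K)) : GL D.Idx K) = ((f y : ↥(D.borelSubgroup K)) : GL D.Idx K) := by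
    rw [h]
  exact Subtype.ext (Subtype.ext h')

/-- simplicity, by the lemma of Tits -/
theorem simple (k0 : ι)
    (hfull : ∀ j, ∃ t : Fin D.nroots → K, C.uprod 0 t ∈ T.Fix ∧ t (C.G.simp' j) ≠ 0)
    (hperf : commutator ↥Γ = ⊤)
    (hirr : ∀ J : Set ι, J.Nonempty → Jᶜ.Nonempty → ∃ i ∈ J, ∃ j ∉ J, (O.wO i * O.wO j) ^ 2 ≠ 1) :
    IsSimpleGroup ↥Γ ∧ ¬ IsMulCommutative ↥Γ := by
  obtain ⟨x, hx, hx1⟩ := P.X_ne k0
  haveI : Nontrivial ↥Γ := ⟨⟨⟨x, P.toPre.X_le k0 hx⟩, 1, fun h => hx1 (congrArg Subtype.val h)⟩⟩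
  refine ⟨Cfsg.Agent.S0319.result P.bnPair (P.irreducible hirr) P.solvable_borel hperf
    (P.normalCore_eq_bot hfull), fun hcomm => ?_⟩
  have : commutator ↥Γ = ⊥ := by
    rw [commutator_def, Subgroup.commutator_eq_bot_iff_le_centralizer]
    exact fun x _ => Subgroup.mem_centralizer_iff.2 fun y _ => hcomm.is_comm.comm y x
  exact bot_ne_top (this.symm.trans hperf)

end TwGp

end CfsgLib.Lie.Chev
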