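import Cfsg.Agent.Lib.Lie.Chev.Tw.BNPair
import Cfsg.Agent.Lib.Lie.Chev.CoxCert

/-!
# Certificates for the orbits of a diagram permutation and its centraliser in the Weyl group
-/

set_option autoImplicit false

namespace CfsgLib.Lie.Chev

open Cfsg.Lie

/-- tabulated orbits: the root permutation, the nodes, words and tables of the longest elements -/
structure OrbData where
  no : ℕ
  P : ℕ
  orb : Tree (List ℕ)
  word : Tree (List ℕ)
  tab : Tree ℕ
  oidx : Tree ℕ

/-- the `n`-th iterate of the permutation -/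
noncomputable def itP (P n r : ℕ) : ℕ := Nat.rec r (fun _ ih => digit P ih) n

/-- the checks on the orbits -/
noncomputable def chkOrb (D : ChevalleyDatum) (f : Fast) (S : OrbData) : Bool :=
  let h := D.nroots / 2
  (allLt D.nroots fun r => Nat.blt (digit S.P r) D.nroots &&
    cond (Nat.ble h r) (Nat.ble h (digit S.P r)) (Nat.blt (digit S.P r) h)) &&
  (allLt S.no fun o =>
    !(Nat.beq (S.orb.get o).length 0) &&
    allList (S.word.get o) (fun i => memB (S.orb.get o) i) &&
    allList (S.orb.get o) (fun j => Nat.blt j D.rank && Nat.beq (S.oidx.get j) o &&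
      Nat.beq (digit (S.tab.get o) (f.simples.get j)) (f.negs.get (f.simples.get j))) &&
    (allLt D.nroots fun r => Nat.beq (digit (S.tab.get o) r) (wordF f (S.word.get o) r)) &&
    (allLt D.nroots fun r =>
      Nat.beq (digit S.P (digit (S.tab.get o) r)) (digit (S.tab.get o) (digit S.P r))) &&
    allList (S.orb.get o) (fun a => allList (S.orb.get o) fun b =>
      !(allLt 4 fun n => !(Nat.beq (itP S.P n (f.simples.get a)) (f.simples.get b))))) &&
  (allLt D.rank fun i => Nat.blt (S.oidx.get i) S.no && memB (S.orb.get (S.oidx.get i)) i)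

namespace OrbData

variable {D : ChevalleyDatum} {f : Fast}

theorem spec {S : OrbData} (h : chkOrb D f S = true) (o : ℕ) (ho : o < S.no) :
    (S.orb.get o).length ≠ 0 ∧ (∀ i ∈ S.word.get o, i ∈ S.orb.get o) ∧
    (∀ j ∈ S.orb.get o, j < D.rank ∧ S.oidx.get j = o ∧
      digit (S.tab.get o) (f.simples.get j) = f.negs.get (f.simples.get j)) ∧
    (∀ r < D.nroots, digit (S.tab.get o) r = wordF f (S.word.get o) r) ∧
    (∀ r < D.nroots, digit S.P (digit (S.tab.get o) r) = digit (S.tab.get o) (digit S.P r)) ∧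
    (∀ a ∈ S.orb.get o, ∀ b ∈ S.orb.get o, ∃ n,
      itP S.P n (f.simples.get a) = f.simples.get b) := by
  simp only [chkOrb, Bool.and_eq_true] at h
  have ho' := allLt_spec h.1.2 o ho
  simp only [Bool.and_eq_true, Bool.not_eq_true'] at ho'
  obtain ⟨⟨⟨⟨⟨h1, h2⟩, h3⟩, h4⟩, h5⟩, h6⟩ := ho'
  refine ⟨fun e => ?_, fun i hi => memB_spec (allList_spec h2 i hi), fun j hj => ?_,
    fun r hr => Nat.eq_of_beq_eq_true (allLt_spec h4 r hr),
    fun r hr => Nat.eq_of_beq_eq_true (allLt_spec h5 r hr), fun a ha b hb => ?_⟩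
  · rw [natBeq_true e] at h1; exact Bool.false_ne_true h1.symm
  · have := allList_spec h3 j hj
    simp only [Bool.and_eq_true, Nat.blt_eq, Nat.beq_eq] at this
    exact ⟨this.1.1, this.1.2, this.2⟩
  · have := allList_spec (allList_spec h6 a ha) b hb
    simp only [Bool.not_eq_true'] at this
    by_contra hne
    simp only [not_exists] at hne
    rw [allLt_eq_true fun n _ => by rw [natBeq_false (hne n)]; rfl] at this
    exact Bool.false_ne_true this.symm

end OrbData

/-- the nodes of a tabulated orbit -/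
noncomputable def OrbData.nodes (D : ChevalleyDatum) (S : OrbData) (o : Fin S.no) : Finset (Fin D.rank) :=
  idxSet D (S.orb.get o.val)

/-- the word of a tabulated orbit -/
noncomputable def OrbData.wl (D : ChevalleyDatum) (S : OrbData) (o : Fin S.no) : List (Fin D.rank) :=
  (S.word.get o.val).filterMap fun i => if h : i < D.rank then some ⟨i, h⟩ else none

variable {D : ChevalleyDatum} {f : Fast}

theorem OrbData.wl_val {S : OrbData} (h : chkOrb D f S = true) (o : Fin S.no) :
    (S.wl D o).map Fin.val = S.word.get o.val := by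
  obtain ⟨-, hw, hj, -⟩ := OrbData.spec h o.val o.isLt
  unfold OrbData.wl
  have : ∀ l : List ℕ, (∀ i ∈ l, i < D.rank) →
      (l.filterMap fun i => if h : i < D.rank then some (⟨i, h⟩ : Fin D.rank) else none).map Fin.val = l := by
    intro l
    induction l with
    | nil => intro _; rfl
    | cons a l ih =>
      intro hl
      rw [List.filterMap_cons, dif_pos (hl a List.mem_cons_self)]
      simp only [List.map_cons, ih fun i hi => hl i (List.mem_cons_of_mem _ hi)]
  exact this _ fun i hi => (hj i (hw i hi)).1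

/-- the orbits from the tables -/
noncomputable def OrbData.orbits (S : OrbData) {G : Good D} (c : Checks D f) (h : chkOrb D f S = true)
    (p : Equiv.Perm (Fin D.nroots)) (hp : ∀ r : Fin D.nroots, (p r).val = digit S.P r.val) :
    Orbits G p (Fin S.no) where
  J := S.nodes D
  wl := S.wl D
  wl_mem o i hi := by
    obtain ⟨-, hw, -⟩ := OrbData.spec h o.val o.isLt
    have : i.val ∈ (S.wl D o).map Fin.val := List.mem_map.2 ⟨i, hi, rfl⟩
    rw [OrbData.wl_val h] at this
    simp [OrbData.nodes, idxSet, hw _ this]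
  wl_simp o j hj := by
    obtain ⟨-, -, hjj, htab, -⟩ := OrbData.spec h o.val o.isLt
    simp only [OrbData.nodes, idxSet, Finset.mem_filter, Finset.mem_univ, true_and] at hj
    refine ⟨j, by simp [OrbData.nodes, idxSet, hj], Fin.ext ?_⟩
    rw [G.pw_val c, OrbData.wl_val h, ← htab _ (G.simp' j).isLt, ← G.simples_eq' c j, (hjj _ hj).2.2,
      G.simples_eq' c j, G.negr_val, (rowsOK c.rows).negs _ (G.simp' j).isLt]
    rfl
  nonempty o := by
    obtain ⟨hne, -, hjj, -⟩ := OrbData.spec h o.val o.isLt
    obtain ⟨a, ha⟩ := List.exists_mem_of_length_pos (Nat.pos_of_ne_zero hne)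
    exact ⟨⟨a, (hjj a ha).1⟩, by simp [OrbData.nodes, idxSet, ha]⟩
  cover i := by
    have h' := h
    simp only [chkOrb, Bool.and_eq_true] at h'
    have := allLt_spec h'.2 i.val i.isLt
    simp only [Bool.and_eq_true, Nat.blt_eq] at this
    exact ⟨⟨_, this.1⟩, by simp [OrbData.nodes, idxSet, memB_spec this.2]⟩
  disjoint o o' i hi hi' := by
    simp only [OrbData.nodes, idxSet, Finset.mem_filter, Finset.mem_univ, true_and] at hi hi'
    obtain ⟨-, -, h1, -⟩ := OrbData.spec h o.val o.isLt
    obtain ⟨-, -, h2, -⟩ := OrbData.spec h o'.val o'.isLt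
    exact Fin.ext ((h1 _ hi).2.1.symm.trans (h2 _ hi').2.1)
  comm o := Equiv.ext fun r => Fin.ext (by
    obtain ⟨-, -, -, htab, hc, -⟩ := OrbData.spec h o.val o.isLt
    rw [Equiv.Perm.mul_apply, Equiv.Perm.mul_apply, hp, G.pw_val c, G.pw_val c, OrbData.wl_val h,
      ← htab _ r.isLt, ← htab _ (p r).isLt, hp]
    exact hc _ r.isLt)
  pos r := by
    have h' := h
    simp only [chkOrb, Bool.and_eq_true] at h'
    have := allLt_spec h'.1.1 r.val r.isLt
    simp only [Bool.and_eq_true] at this
    rw [G.pos_iff_half, G.pos_iff_half, hp]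
    by_cases hr : D.nroots / 2 ≤ r.val
    · rw [Nat.ble_eq_true_of_le hr, cond_true] at this
      exact ⟨fun _ => hr, fun _ => Nat.le_of_ble_eq_true this.2⟩
    · rw [show Nat.ble (D.nroots / 2) r.val = false from Bool.eq_false_iff.2 fun e => hr (Nat.le_of_ble_eq_true e),
        cond_false] at this
      have := Nat.blt_eq.mp this.2
      exact ⟨fun h1 => absurd h1 (by omega), fun h1 => absurd h1 hr⟩
  trans o a ha b hb := by
    simp only [OrbData.nodes, idxSet, Finset.mem_filter, Finset.mem_univ, true_and] at ha hb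
    obtain ⟨-, -, -, -, -, ht⟩ := OrbData.spec h o.val o.isLt
    obtain ⟨n, hn⟩ := ht _ ha _ hb
    have key : ∀ n, ((p ^ n) (G.simp' a)).val = itP S.P n (G.simp' a).val := by
      intro n
      induction n with
      | zero => rfl
      | succ n ih => rw [pow_succ', Equiv.Perm.mul_apply, hp, ih]; rfl
    rw [G.simples_eq' c, G.simples_eq' c] at hn
    exact ⟨n, Fin.ext ((key n).trans hn)⟩

/-- tabulated elements of the centraliser -/
structure EnumData where
  m : ℕ
  P : Tree ℕ
  par : Tree (ℕ × ℕ)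
  ch : Tree (List ℕ)
  ord : Tree ℕ
  rk : Tree ℕ
  len : Tree ℕ

/-- an identifier of a tabulated permutation -/
noncomputable def imgKey (P : ℕ) : ℕ → ℕ :=
  Nat.rec 0 fun i acc => Nat.add (Nat.mul acc 65536) (digit P i)

/-- the count of the inversions of a tabulated permutation -/
noncomputable def cntInv (P h : ℕ) : ℕ → ℕ :=
  Nat.rec 0 fun i acc => cond (Nat.blt (digit P (h + i)) h) 1 0 + acc

/-- the checks on the enumeration -/
noncomputable def chkEnum (D : ChevalleyDatum) (S : OrbData) (E : EnumData) : Bool :=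
  Nat.blt 0 E.m &&
  (allLt D.nroots fun r => Nat.beq (digit (E.P.get 0) r) r) &&
  (allLt E.m fun k => cond (Nat.beq k 0) true
    (Nat.blt (E.par.get k).1 S.no && Nat.blt (E.par.get k).2 k &&
      allLt D.nroots fun r => Nat.beq (digit (S.tab.get (E.par.get k).1) (digit (E.P.get (E.par.get k).2) r))
        (digit (E.P.get k) r))) &&
  (allLt E.m fun k => allLt S.no fun o => Nat.blt ((E.ch.get k).getD o 0) E.m &&
    allLt D.nroots fun r => Nat.beq (digit (S.tab.get o) (digit (E.P.get k) r))
      (digit (E.P.get ((E.ch.get k).getD o 0)) r)) &&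
  (allLt E.m fun k => Nat.blt (E.rk.get k) E.m && Nat.beq (E.ord.get (E.rk.get k)) k) &&
  (allLt E.m fun j => cond (Nat.blt (j + 1) E.m)
    (Nat.blt (imgKey (E.P.get (E.ord.get j)) D.nroots) (imgKey (E.P.get (E.ord.get (j + 1))) D.nroots))
    true) &&
  (allLt E.m fun k => Nat.beq (cntInv (E.P.get k) (D.nroots / 2) (D.nroots - D.nroots / 2)) (E.len.get k))

open scoped Classical in
/-- the length generating function of the centraliser -/
noncomputable def PsumP (G : Good D) (p : Equiv.Perm (Fin D.nroots)) {R : Type*} [CommSemiring R]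
    (w : ℕ → R) : R :=
  ∑ π ∈ Finset.univ.filter (· ∈ Wp G p), w (ninv G π)

/-- the length generating function from the enumeration -/
theorem PsumP_of_chk {S : OrbData} {E : EnumData} {G : Good D} {p : Equiv.Perm (Fin D.nroots)}
    (O : Orbits G p (Fin S.no))
    (hO : ∀ (o : Fin S.no) (r : Fin D.nroots), (O.wO o r).val = digit (S.tab.get o.val) r.val)
    (hE : chkEnum D S E = true) {R : Type*} [CommSemiring R] (q : ℕ → R) :
    PsumP G p q = ((List.range E.m).map fun k => q (E.len.get k)).sum := by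
  classical
  simp only [chkEnum, Bool.and_eq_true, Nat.blt_eq] at hE
  obtain ⟨⟨⟨⟨⟨⟨hm, h0⟩, hpar⟩, hch⟩, hrk⟩, hkey⟩, hlen⟩ := hE
  have hex : ∀ k, k < E.m → ∃ π ∈ Wp G p, ∀ r : Fin D.nroots, (π r).val = digit (E.P.get k) r.val := by
    intro k
    induction k using Nat.strong_induction_on with
    | _ k ih =>
      intro hk
      by_cases hk0 : k = 0
      · subst hk0
        exact ⟨1, one_mem _, fun r => (Nat.eq_of_beq_eq_true (allLt_spec h0 r.val r.isLt)).symm⟩
      · have := allLt_spec hpar k hk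
        rw [natBeq_false hk0, cond_false] at this
        simp only [Bool.and_eq_true, Nat.blt_eq] at this
        obtain ⟨⟨hi, hk'⟩, he⟩ := this
        obtain ⟨π, hπ, hπr⟩ := ih _ hk' (hk'.trans hk)
        refine ⟨O.wO ⟨_, hi⟩ * π, mul_mem (O.wO_mem _) hπ, fun r => ?_⟩
        rw [Equiv.Perm.mul_apply, hO, hπr]
        exact Nat.eq_of_beq_eq_true (allLt_spec he r.val r.isLt)
  let u : Fin E.m → Equiv.Perm (Fin D.nroots) := fun k => (hex k.val k.isLt).choose
  have hu : ∀ k r, (u k r).val = digit (E.P.get k.val) r.val := fun k =>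
    (hex k.val k.isLt).choose_spec.2
  have huW : ∀ k, u k ∈ Wp G p := fun k => (hex k.val k.isLt).choose_spec.1
  have hcomp : ∀ π ∈ Wp G p, ∃ k, u k = π⁻¹ := by
    intro π hπ
    refine O.induction_on (P := fun π => ∃ k, u k = π⁻¹) hπ ⟨⟨0, hm⟩, Equiv.ext fun r => Fin.ext ?_⟩ ?_
    · rw [hu, inv_one]
      exact Nat.eq_of_beq_eq_true (allLt_spec h0 r.val r.isLt)
    · rintro π' - o - - ⟨k, hk⟩
      have := allLt_spec (allLt_spec hch k.val k.isLt) o.val o.isLt
      simp only [Bool.and_eq_true, Nat.blt_eq] at this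
      refine ⟨⟨_, this.1⟩, Equiv.ext fun r => Fin.ext ?_⟩
      rw [mul_inv_rev, O.wO_inv, ← hk, Equiv.Perm.mul_apply, hO, hu, hu]
      exact (Nat.eq_of_beq_eq_true (allLt_spec this.2 r.val r.isLt)).symm
  have hmono : ∀ d j, j + d + 1 < E.m → imgKey (E.P.get (E.ord.get j)) D.nroots <
      imgKey (E.P.get (E.ord.get (j + d + 1))) D.nroots := by
    intro d
    induction d with
    | zero =>
      intro j hj
      have := allLt_spec hkey j (by omega)
      rw [natBlt_true (by omega), cond_true, Nat.blt_eq] at this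
      exact this
    | succ d ih =>
      intro j hj
      have h2 := allLt_spec hkey (j + d + 1) (by omega)
      rw [natBlt_true (by omega), cond_true, Nat.blt_eq] at h2
      exact (ih j (by omega)).trans h2
  have hinj : Function.Injective u := by
    intro a b e
    have hk : ∀ n, n ≤ D.nroots → imgKey (E.P.get a.val) n = imgKey (E.P.get b.val) n := by
      intro n
      induction n with
      | zero => intro _; rfl
      | succ n ih =>
        intro hn
        show Nat.add (Nat.mul (imgKey (E.P.get a.val) n) 65536) (digit (E.P.get a.val) n) =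
          Nat.add (Nat.mul (imgKey (E.P.get b.val) n) 65536) (digit (E.P.get b.val) n)
        rw [ih (by omega), ← hu a ⟨n, by omega⟩, ← hu b ⟨n, by omega⟩, e]
    have ha := allLt_spec hrk a.val a.isLt
    have hb := allLt_spec hrk b.val b.isLt
    simp only [Bool.and_eq_true, Nat.blt_eq, Nat.beq_eq] at ha hb
    rcases lt_trichotomy (E.rk.get a.val) (E.rk.get b.val) with l | l | l
    · obtain ⟨d, hd⟩ : ∃ d, E.rk.get b.val = E.rk.get a.val + d + 1 := ⟨_, (Nat.add_sub_cancel' (Nat.succ_le_iff.2 l)).symm.trans (Nat.succ_add _ _)⟩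
      have := hmono d _ (hd ▸ hb.1)
      rw [← hd, ha.2, hb.2, hk _ le_rfl] at this
      exact absurd this (lt_irrefl _)
    · exact Fin.ext (ha.2 ▸ hb.2 ▸ congrArg E.ord.get l)
    · obtain ⟨d, hd⟩ : ∃ d, E.rk.get a.val = E.rk.get b.val + d + 1 := ⟨_, (Nat.add_sub_cancel' (Nat.succ_le_iff.2 l)).symm.trans (Nat.succ_add _ _)⟩
      have := hmono d _ (hd ▸ ha.1)
      rw [← hd, ha.2, hb.2, hk _ le_rfl] at this
      exact absurd this (lt_irrefl _)
  have hset : Finset.univ.filter (· ∈ Wp G p) = Finset.univ.image u := by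
    ext π
    simp only [Finset.mem_filter, Finset.mem_univ, true_and, Finset.mem_image]
    refine ⟨fun hπ => ?_, fun ⟨k, hk⟩ => hk ▸ huW k⟩
    obtain ⟨k, hk⟩ := hcomp π⁻¹ (inv_mem hπ)
    exact ⟨k, by rw [hk, inv_inv]⟩
  have hcnt : ∀ k : Fin E.m, ninv G (u k) = E.len.get k.val := by
    intro k
    rw [← Nat.eq_of_beq_eq_true (allLt_spec hlen k.val k.isLt),
      ← G.countNeg_eq ⟨[], [], 0, E.P, .leaf (0, 0), .leaf [], []⟩ (u k) (hu k)]
    rfl
  rw [PsumP, hset, Finset.sum_image fun a _ b _ e => hinj e]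
  simp only [hcnt]
  rw [← List.sum_ofFn]
  congr 1
  exact List.ext_getElem (by simp) fun i h1 h2 => by simp

end CfsgLib.Lie.Chev
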