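import Cfsg.Agent.Lib.Lie.Chev.Tw.BNPair
import Cfsg.Agent.Lib.Lie.Chev.Tw.Cert

/-!
# The order of the fixed group and the quotient of its monomial group
-/

set_option autoImplicit false

namespace CfsgLib.Lie.Chev

open Cfsg.Lie
open scoped MatrixGroups

variable {D : ChevalleyDatum} {K : Type*} [Field K] {C : Full D} {T : Twist C.G K} {ι : Type}

namespace Orbits

variable (O : Orbits C.G T.p ι)

include O

theorem dvd_ninv {e : ℕ} (he : ∀ k, e ∣ ninv C.G (O.wO k)) {π : Equiv.Perm (Fin D.nroots)}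
    (hπ : π ∈ Wp C.G T.p) : e ∣ ninv C.G π := by
  refine O.induction_on (P := fun π => e ∣ ninv C.G π) hπ ?_ ?_
  · simp [ninv]
  · intro π' _ k _ hadd ih
    rw [hadd]
    exact dvd_add ih (he k)

end Orbits

namespace TwGp

variable {O : Orbits C.G T.p ι} {Γ : Subgroup (GL D.Idx K)} (P : TwGp O Γ)

include P

theorem U_eq : D.posUnipotent K ⊓ Γ = T.Fix ⊓ D.posUnipotent K := by
  rw [P.eq_Fix, inf_comm]

theorem H_eq : D.diagonalSubgroup K ⊓ Γ = T.Fix ⊓ D.diagonalSubgroup K := by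
  rw [P.eq_Fix, inf_comm]

theorem N_eq : D.monomialSubgroup K ⊓ Γ = T.Fix ⊓ D.monomialSubgroup K := by
  rw [P.eq_Fix, inf_comm]

theorem card_X_eq [Finite K] {Q e : ℕ} (he0 : e ≠ 0) (hd : ∀ k, e ∣ ninv C.G (O.wO k))
    (hQ : ∀ k, Nat.card ↥(T.Fix ⊓ Uinv C.G (O.wO k)) = Q ^ (ninv C.G (O.wO k) / e))
    {π : Equiv.Perm (Fin D.nroots)} (hπ : π ∈ Wp C.G T.p) :
    Nat.card ↥(T.Fix ⊓ Uinv C.G π) = Q ^ (ninv C.G π / e) := by
  have h := P.toPre.card_X (Q := Q) (e := e)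
    (fun k => by rw [hQ, ← pow_mul, Nat.div_mul_cancel (hd k)]) hπ
  refine Nat.pow_left_injective he0 ?_
  show Nat.card ↥(T.Fix ⊓ Uinv C.G π) ^ e = _
  show _ = (Q ^ (ninv C.G π / e)) ^ e
  rw [h, ← pow_mul, Nat.div_mul_cancel (O.dvd_ninv hd hπ)]

theorem card_U_eq [Finite K] {Q e : ℕ} (he0 : e ≠ 0) (hd : ∀ k, e ∣ ninv C.G (O.wO k))
    (hQ : ∀ k, Nat.card ↥(T.Fix ⊓ Uinv C.G (O.wO k)) = Q ^ (ninv C.G (O.wO k) / e)) :
    Nat.card ↥(D.posUnipotent K ⊓ Γ) = Q ^ (D.nroots / 2 / e) := by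
  obtain ⟨π, hπ, hneg⟩ := T.exists_longest_Wp
  rw [P.U_eq]
  have h1 : (Uinv C.G π : Subgroup (GL D.Idx K)) = D.posUnipotent K := by
    refine le_antisymm (C.G.Uinv_le π) ?_
    rw [C.G.posUnipotent_eq_closure]
    refine Subgroup.closure_mono ?_
    rintro x ⟨r, t, hr, hx⟩
    exact ⟨r, t, ⟨hr, hneg r hr⟩, hx⟩
  have h2 : ninv C.G π = D.nroots / 2 := by
    classical
    rw [ninv, ← C.nPos_eq, Fintype.card_subtype]
    congr 1
    ext r
    simp only [Finset.mem_filter, Finset.mem_univ, true_and]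
    exact ⟨And.left, fun h => ⟨h, hneg r h⟩⟩
  rw [← h1, ← h2]
  exact P.card_X_eq he0 hd hQ hπ

open scoped Classical in
theorem card_eq_sum [Fintype K] :
    Nat.card ↥Γ = Nat.card ↥(D.posUnipotent K ⊓ Γ) * Nat.card ↥(D.diagonalSubgroup K ⊓ Γ) *
      ∑ π ∈ Finset.univ.filter (· ∈ Wp C.G T.p), Nat.card ↥(T.Fix ⊓ Uinv C.G π) := by
  classical
  haveI : Finite (GL D.Idx K) := inferInstance
  rw [P.U_eq, P.H_eq]
  let W := {π : Equiv.Perm (Fin D.nroots) // π ∈ Wp C.G T.p}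
  let nr : W → GL D.Idx K := fun w => (P.toPre.exists_n w.2).choose
  have hnr : ∀ w : W, C.G.NPerm (nr w) w.1 := fun w => (P.toPre.exists_n w.2).choose_spec.2
  have hnrN : ∀ w : W, nr w ∈ Γ ⊓ D.monomialSubgroup K := fun w =>
    P.toPre.closure_nk_le (P.toPre.exists_n w.2).choose_spec.1
  let Φ : (↥(T.Fix ⊓ D.posUnipotent K) × ↥(T.Fix ⊓ D.diagonalSubgroup K)) ×
      (Σ w : W, ↥(T.Fix ⊓ Uinv C.G w.1)) → ↥Γ :=
    fun x => ⟨(x.1.1 : GL D.Idx K) * x.1.2 * nr x.2.1 * (x.2.2 : GL D.Idx K),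
      mul_mem (mul_mem (mul_mem (P.toPre.U_le x.1.1.2) (P.H_le x.1.2.2)) (hnrN _).1)
        (P.toPre.X_mem x.2.1.2 x.2.2.2)⟩
  have hΦ : Function.Bijective Φ := by
    constructor
    · rintro ⟨⟨v, d⟩, w, u⟩ ⟨⟨v', d'⟩, w', u'⟩ h
      have h' := congrArg Subtype.val h
      simp only [Φ] at h'
      have hB : ∀ (a : ↥(T.Fix ⊓ D.posUnipotent K)) (b : ↥(T.Fix ⊓ D.diagonalSubgroup K)),
          (a : GL D.Idx K) * b ∈ D.borelSubgroup K := fun a b =>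
        mul_mem (Subgroup.mem_sup_left a.2.2) (Subgroup.mem_sup_right b.2.2)
      have e := C.eqv_mem_H (hnrN w).2 (hnrN w').2 (hB v d) (hB v' d')
        (Subgroup.mem_sup_left (C.G.Uinv_le _ u.2.2)) (Subgroup.mem_sup_left (C.G.Uinv_le _ u'.2.2)) h'
      have e2 := Good.NPerm.unique C.G (C.G.nPerm_H e)
        (Good.NPerm.mul C.G (Good.NPerm.inv C.G (hnr w)) (hnr w'))
      rw [eq_comm, inv_mul_eq_one] at e2
      have : w = w' := Subtype.ext e2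
      subst this
      obtain ⟨e3, e4⟩ := C.refined_unique (hB v d) (hB v' d') (hnr w) u.2.2 u'.2.2 h'
      obtain ⟨e5, e6⟩ := C.G.eq_one_of_U_H (u := (v' : GL D.Idx K)⁻¹ * (v : GL D.Idx K))
        (h := (d : GL D.Idx K) * (d' : GL D.Idx K)⁻¹) (Subgroup.mul_mem _ (Subgroup.inv_mem _ v'.2.2) v.2.2)
        (Subgroup.mul_mem _ d.2.2 (Subgroup.inv_mem _ d'.2.2)) (by
          calc (v' : GL D.Idx K)⁻¹ * (v : GL D.Idx K) * ((d : GL D.Idx K) * (d' : GL D.Idx K)⁻¹)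
              = (v' : GL D.Idx K)⁻¹ * ((v : GL D.Idx K) * d) * (d' : GL D.Idx K)⁻¹ := by group
            _ = 1 := by rw [e3]; group)
      have e5' : v = v' := Subtype.ext (inv_mul_eq_one.1 e5).symm
      have e6' : d = d' := Subtype.ext (mul_inv_eq_one.1 e6)
      have e4' : u = u' := Subtype.ext e4
      rw [e5', e6', e4']
    · intro g
      obtain ⟨v, m, u, π, hv, hm, hπ, hmπ, hu, e⟩ := T.fix_bruhat (P.le g.2)
      let w : W := ⟨π, hπ⟩
      have hh : m * (nr w)⁻¹ ∈ T.Fix ⊓ D.diagonalSubgroup K := by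
        refine Subgroup.mem_inf.2 ⟨mul_mem hm.1 (inv_mem (P.le (hnrN w).1)),
          C.G.mem_H_of_nPerm_one (mul_mem hm.2 (inv_mem (hnrN w).2)) ?_⟩
        have := Good.NPerm.mul C.G hmπ (Good.NPerm.inv C.G (hnr w))
        rwa [show π * w.1⁻¹ = 1 from mul_inv_cancel π] at this
      exact ⟨((⟨v, hv⟩, ⟨_, hh⟩), ⟨w, ⟨u, hu⟩⟩), Subtype.ext (by simp [Φ, e, mul_assoc, w])⟩
  rw [← Nat.card_eq_of_bijective Φ hΦ, Nat.card_prod, Nat.card_prod, Nat.card_sigma]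
  congr 1
  exact (Finset.sum_subtype (Finset.univ.filter (· ∈ Wp C.G T.p)) (p := (· ∈ Wp C.G T.p)) (by simp)
    fun π => Nat.card ↥(T.Fix ⊓ Uinv C.G π)).symm

/-- the order, from an enumeration of the centraliser in the Weyl group -/
theorem card_eq [Fintype K] {Q e : ℕ} (he0 : e ≠ 0) (hd : ∀ k, e ∣ ninv C.G (O.wO k))
    (hQ : ∀ k, Nat.card ↥(T.Fix ⊓ Uinv C.G (O.wO k)) = Q ^ (ninv C.G (O.wO k) / e))
    :
    Nat.card ↥Γ = Nat.card ↥(D.posUnipotent K ⊓ Γ) * Nat.card ↥(D.diagonalSubgroup K ⊓ Γ) *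
      PsumP C.G T.p (fun n => Q ^ (n / e)) := by
  classical
  rw [P.card_eq_sum, PsumP]
  congr 1
  refine Finset.sum_congr rfl fun π hπ => ?_
  exact P.card_X_eq he0 hd hQ (Finset.mem_filter.1 hπ).2

theorem perm_exists (m : ↥(D.monomialSubgroup K ⊓ Γ)) :
    ∃ π, π ∈ Wp C.G T.p ∧ C.G.NPerm (m : GL D.Idx K) π := by
  obtain ⟨l, hl⟩ := C.G.exists_nPerm m.2.1
  exact ⟨_, T.mem_Wp_of_fix (P.le m.2.2) m.2.1 hl, hl⟩

/-- the map onto the centraliser in the Weyl group -/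
noncomputable def wHom : ↥(D.monomialSubgroup K ⊓ Γ) →* ↥(Wp C.G T.p) where
  toFun m := ⟨(P.perm_exists m).choose, (P.perm_exists m).choose_spec.1⟩
  map_one' := Subtype.ext (Good.NPerm.unique C.G (P.perm_exists 1).choose_spec.2 (Good.NPerm.one C.G))
  map_mul' a b := Subtype.ext (Good.NPerm.unique C.G (P.perm_exists (a * b)).choose_spec.2
    (Good.NPerm.mul C.G (P.perm_exists a).choose_spec.2 (P.perm_exists b).choose_spec.2))

theorem wHom_surjective : Function.Surjective P.wHom := by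
  rintro ⟨π, hπ⟩
  obtain ⟨n, hn, hnπ⟩ := P.toPre.exists_n hπ
  obtain ⟨h1, h2⟩ := P.toPre.closure_nk_le hn
  exact ⟨⟨n, h2, h1⟩, Subtype.ext (Good.NPerm.unique C.G (P.perm_exists _).choose_spec.2 hnπ)⟩

theorem wHom_ker : P.wHom.ker =
    (D.diagonalSubgroup K ⊓ Γ).subgroupOf (D.monomialSubgroup K ⊓ Γ) := by
  ext m
  rw [MonoidHom.mem_ker, Subgroup.mem_subgroupOf]
  constructor
  · intro h
    have h' : (P.perm_exists m).choose = 1 := congrArg Subtype.val h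
    exact ⟨C.G.mem_H_of_nPerm_one m.2.1 (h' ▸ (P.perm_exists m).choose_spec.2), m.2.2⟩
  · intro h
    exact Subtype.ext (Good.NPerm.unique C.G (P.perm_exists m).choose_spec.2 (C.G.nPerm_H h.1))

/-- the quotient in terms of an abstract group -/
theorem exists_weyl_hom {W : Type*} [Group W] (e : ↥(Wp C.G T.p) ≃* W) :
    ∃ ψ : ↥(D.monomialSubgroup K ⊓ Γ) →* W, Function.Surjective ψ ∧
      ψ.ker = (D.diagonalSubgroup K ⊓ Γ).subgroupOf (D.monomialSubgroup K ⊓ Γ) :=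
  ⟨e.toMonoidHom.comp P.wHom, e.surjective.comp P.wHom_surjective,
    by
      ext m
      rw [← P.wHom_ker, MonoidHom.mem_ker, MonoidHom.mem_ker]
      exact e.map_eq_one_iff⟩

end TwGp

end CfsgLib.Lie.Chev
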