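import Mathlib

/-!
# The power map of a prime power on a finite field
-/

set_option autoImplicit false

namespace CfsgLib.Lie.Chev.Frob

variable {K : Type*} [Field K] [Fintype K] {q e : ℕ}

theorem exists_prime (hq : IsPrimePow q) (hK : Fintype.card K = q ^ e) :
    ∃ p a : ℕ, p.Prime ∧ 0 < a ∧ q = p ^ a ∧ CharP K p := by
  obtain ⟨p, a, hp, ha, rfl⟩ := (isPrimePow_nat_iff q).1 hq
  obtain ⟨c, hc⟩ := CharP.exists K
  haveI := hc
  obtain ⟨n, hcp, hn⟩ := FiniteField.card K c
  rw [← pow_mul] at hK
  have h : c ^ (n : ℕ) = p ^ (a * e) := hn.symm.trans hK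
  have hcp' : c = p := by
    refine (Nat.prime_dvd_prime_iff_eq hcp hp).1 (hcp.dvd_of_dvd_pow (n := a * e) ?_)
    rw [← h]
    exact dvd_pow_self c n.pos.ne'
  exact ⟨p, a, hp, ha, rfl, hcp' ▸ hc⟩

theorem exists_powEquiv (hq : IsPrimePow q) (hK : Fintype.card K = q ^ e) :
    ∃ θ : K ≃+* K, ∀ x, θ x = x ^ q := by
  obtain ⟨p, a, hp, -, rfl, hc⟩ := exists_prime hq hK
  haveI := hc
  haveI := Fact.mk hp
  exact ⟨iterateFrobeniusEquiv K p a, fun x => by
    rw [coe_iterateFrobeniusEquiv, iterateFrobenius_def]⟩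

/-- the number of fixed points of the power map -/
theorem card_fixed (hq : IsPrimePow q) (hK : Fintype.card K = q ^ e) :
    Nat.card {x : K // x ^ q = x} = q := by
  classical
  have h1 : 1 < q := hq.one_lt
  have hu : Nat.card {u : Kˣ // u ^ (q - 1) = 1} = q - 1 := by
    rw [show Nat.card {u : Kˣ // u ^ (q - 1) = 1} = Nat.card ↥(powMonoidHom (q - 1) : Kˣ →* Kˣ).ker from
      Nat.card_congr (Equiv.subtypeEquivRight fun u => by simp [MonoidHom.mem_ker]),
      IsCyclic.card_powMonoidHom_ker, Nat.card_units, Nat.card_eq_fintype_card, hK]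
    exact Nat.gcd_eq_right (Nat.sub_one_dvd_pow_sub_one q e)
  let f : {x : K // x ^ q = x} ≃ Option {u : Kˣ // u ^ (q - 1) = 1} :=
    { toFun := fun x => if h : x.1 = 0 then none else some ⟨Units.mk0 x.1 h, by
        refine Units.ext ?_
        have := x.2
        rw [← pow_sub_one_mul (show q ≠ 0 by omega) x.1] at this
        simpa using mul_right_cancel₀ h (this.trans (one_mul _).symm)⟩
      invFun := fun o => o.elim ⟨0, zero_pow (by omega)⟩ fun u => ⟨(u.1 : K), by
        have := congrArg Units.val u.2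
        rw [Units.val_pow_eq_pow_val, Units.val_one] at this
        rw [← pow_sub_one_mul (show q ≠ 0 by omega) (u.1 : K), this, one_mul]⟩
      left_inv := fun x => by
        by_cases h : x.1 = 0
        · simp only [h, dite_true, Option.elim_none]; exact Subtype.ext h.symm
        · simp [h]
      right_inv := fun o => by
        cases o with
        | none => simp
        | some u => simp }
  rw [Nat.card_congr f, Finite.card_option, hu]
  omega

end CfsgLib.Lie.Chev.Frob
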