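import Cfsg.Agent.Lib.Lie.Chev.Tw.Make
import Cfsg.Agent.Lib.Lie.Chev.Tw.Frob
import Cfsg.Prelude.Def_ChevWords

/-!
# Tools for the individual twisted types
-/

set_option autoImplicit false

namespace CfsgLib.Lie.Chev

open Cfsg.Lie
open scoped MatrixGroups

variable {D : ChevalleyDatum} {K : Type*} [Field K]

/-- an interleaved product of commuting factors -/
theorem sandwich {M : Type*} [Monoid M] {a b a' b' : M} (h1 : Commute a' b) (h2 : Commute a a')
    (h3 : Commute b' a) :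
    (a * b * a) * (a' * b' * a') = (a * a') * (b * b') * (a * a') := by
  calc (a * b * a) * (a' * b' * a') = a * b * (a * a') * b' * a' := by simp only [mul_assoc]
    _ = a * b * (a' * a) * b' * a' := by rw [h2.eq]
    _ = a * (b * a') * (a * b') * a' := by simp only [mul_assoc]
    _ = a * (a' * b) * (b' * a) * a' := by rw [← h1.eq, ← h3.eq]
    _ = _ := by simp only [mul_assoc]

namespace Good

variable (G : Good D)

include G

theorem wordMat_eq (l : List (Fin D.nroots × K)) :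
    D.wordMat K (l.map fun p => (p.1.val, p.2)) =
      ((l.map fun p => G.xu p.1 p.2).prod : GL D.Idx K) := by
  induction l with
  | nil => simp [ChevalleyDatum.wordMat]
  | cons a l ih =>
    rw [List.map_cons, List.map_cons, List.prod_cons, Units.val_mul, ← ih, ← G.x_eq_xu]
    simp [ChevalleyDatum.wordMat]

/-- a product of root elements given by a generating word -/
theorem mem_gen {S : Set (List (ℕ × K))} (l : List (Fin D.nroots × K))
    (hl : (l.map fun p => (p.1.val, p.2)) ∈ S) :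
    (l.map fun p => G.xu p.1 p.2).prod ∈ D.genSubgroup K S :=
  Subgroup.subset_closure ⟨_, hl, (G.wordMat_eq l).symm⟩

/-- a group generated by words is contained in any subgroup containing their products -/
theorem gen_le {S : Set (List (ℕ × K))} {H : Subgroup (GL D.Idx K)}
    (h : ∀ w ∈ S, ∃ l : List (Fin D.nroots × K),
      w = (l.map fun p => (p.1.val, p.2)) ∧ (l.map fun p => G.xu p.1 p.2).prod ∈ H) :
    D.genSubgroup K S ≤ H := by
  rw [ChevalleyDatum.genSubgroup, Subgroup.closure_le]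
  rintro g ⟨w, hw, hg⟩
  obtain ⟨l, rfl, hl⟩ := h w hw
  exact (Units.ext (hg.trans (G.wordMat_eq l)) : g = _) ▸ hl

end Good

namespace Full

variable (C : Full D)

include C

theorem xu_commute {r s : Fin D.nroots} (hsr : s ≠ r) (hsn : s ≠ C.G.negr r)
    (hl : D.commTerms r.val s.val = []) (t u : K) : Commute (C.G.xu r t) (C.G.xu s u) := by
  have h := C.commAt r s hsr hsn t u
  unfold CommAt at h
  rw [cwR, hl, List.map_nil, wordR_nil, mul_one] at h
  exact Units.ext h.symm

/-- roots whose root subgroups commute with both signs -/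
def Orth (r s : Fin D.nroots) : Prop :=
  ∀ a ∈ [r, C.G.negr r], ∀ b ∈ [s, C.G.negr s], b ≠ a ∧ b ≠ C.G.negr a ∧ D.commTerms a.val b.val = []

theorem orth_commute {r s : Fin D.nroots} (h : C.Orth r s) {a b : Fin D.nroots}
    (ha : a ∈ [r, C.G.negr r]) (hb : b ∈ [s, C.G.negr s]) (t u : K) :
    Commute (C.G.xu a t) (C.G.xu b u) :=
  C.xu_commute (h a ha b hb).1 (h a ha b hb).2.1 (h a ha b hb).2.2 t u

theorem nE_pair {r s : Fin D.nroots} (h : C.Orth r s) (t u : K) :
    C.G.nE r t * C.G.nE s u = (C.G.xu r t * C.G.xu s u) *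
      (C.G.xu (C.G.negr r) (-t⁻¹) * C.G.xu (C.G.negr s) (-u⁻¹)) * (C.G.xu r t * C.G.xu s u) :=
  sandwich (C.orth_commute h (by simp) (by simp) _ _).symm (C.orth_commute h (by simp) (by simp) _ _)
    (C.orth_commute h (by simp) (by simp) _ _).symm

theorem nE_triple {r s w : Fin D.nroots} (h : C.Orth r s) (h1 : C.Orth r w) (h2 : C.Orth s w)
    (t u v : K) :
    C.G.nE r t * C.G.nE s u * C.G.nE w v = (C.G.xu r t * C.G.xu s u * C.G.xu w v) *
      (C.G.xu (C.G.negr r) (-t⁻¹) * C.G.xu (C.G.negr s) (-u⁻¹) * C.G.xu (C.G.negr w) (-v⁻¹)) *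
      (C.G.xu r t * C.G.xu s u * C.G.xu w v) := by
  rw [C.nE_pair h]
  refine sandwich (Commute.mul_right ?_ ?_) (Commute.mul_left ?_ ?_) (Commute.mul_right ?_ ?_)
  · exact (C.orth_commute h1 (by simp) (by simp) _ _).symm
  · exact (C.orth_commute h2 (by simp) (by simp) _ _).symm
  · exact C.orth_commute h1 (by simp) (by simp) _ _
  · exact C.orth_commute h2 (by simp) (by simp) _ _
  · exact (C.orth_commute h1 (by simp) (by simp) _ _).symm
  · exact (C.orth_commute h2 (by simp) (by simp) _ _).symm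

end Full

namespace Twist

variable {C : Full D} (T : Twist C.G K)

include T

theorem φ_list (l : List (Fin D.nroots × K)) (h : (l.map fun p => C.G.xu p.1 p.2).prod ∈ D.group K) :
    (T.φ ⟨_, h⟩ : GL D.Idx K) =
      (l.map fun p => C.G.xu (T.p p.1) (T.eps p.1 * T.σ p.1 p.2)).prod := by
  induction l with
  | nil =>
    rw [show (⟨_, h⟩ : ↥(D.group K)) = 1 from rfl, map_one]
    rfl
  | cons a l ih =>
    have hl : (l.map fun p => C.G.xu p.1 p.2).prod ∈ D.group K :=
      list_prod_mem fun x hx => by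
        obtain ⟨p, -, rfl⟩ := List.mem_map.1 hx
        exact C.G.xu_mem _ _
    rw [show (⟨_, h⟩ : ↥(D.group K)) = ⟨C.G.xu a.1 a.2, C.G.xu_mem _ _⟩ * ⟨_, hl⟩ from rfl, map_mul,
      Subgroup.coe_mul, ih hl, T.φ_xu, List.map_cons, List.prod_cons]

theorem mem_Fix_list (l : List (Fin D.nroots × K))
    (h : (l.map fun p => C.G.xu (T.p p.1) (T.eps p.1 * T.σ p.1 p.2)).prod =
      (l.map fun p => C.G.xu p.1 p.2).prod) :
    (l.map fun p => C.G.xu p.1 p.2).prod ∈ T.Fix := by
  have hm : (l.map fun p => C.G.xu p.1 p.2).prod ∈ D.group K :=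
    list_prod_mem fun x hx => by
      obtain ⟨p, -, rfl⟩ := List.mem_map.1 hx
      exact C.G.xu_mem _ _
  exact T.mem_Fix.2 ⟨hm, Subtype.ext ((T.φ_list l hm).trans h)⟩

theorem fix_list {l : List (Fin D.nroots × K)} (h : (l.map fun p => C.G.xu p.1 p.2).prod ∈ T.Fix) :
    (l.map fun p => C.G.xu (T.p p.1) (T.eps p.1 * T.σ p.1 p.2)).prod =
      (l.map fun p => C.G.xu p.1 p.2).prod := by
  rw [← T.φ_list l (T.Fix_le h), T.fix_eq h]

/-- the kernel of the torus map is stable -/
theorem σT_ker {z : Fin D.rank → Kˣ} (hz : C.G.torθ z = 1) : C.G.torθ (T.σT z) = 1 := by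
  have h : C.G.torθ z ∈ D.group K := hz ▸ one_mem _
  rw [← T.φ_torθ z h, show (⟨_, h⟩ : ↥(D.group K)) = 1 from Subtype.ext hz, map_one]
  rfl

theorem σT_mul (a b : Fin D.rank → Kˣ) : T.σT (a * b) = T.σT a * T.σT b :=
  funext fun j => by simp [σT]

theorem σT_one : T.σT 1 = 1 := funext fun j => by simp [σT]

/-- the torus parameters of a fixed diagonal element -/
theorem fix_tor {g : GL D.Idx K} (hg : g ∈ T.Fix ⊓ D.diagonalSubgroup K) :
    ∃ c z, g = C.G.torθ c ∧ C.G.torθ z = 1 ∧ T.σT c = c * z := by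
  have hH : g ∈ D.diagonalSubgroup K := hg.2
  rw [C.G.diagonal_eq_range] at hH
  obtain ⟨c, rfl⟩ := hH
  refine ⟨c, c⁻¹ * T.σT c, rfl, ?_, by rw [mul_inv_cancel_left]⟩
  rw [map_mul, map_inv, ← T.φ_torθ c (T.Fix_le hg.1), T.fix_eq hg.1, inv_mul_cancel]

theorem torθ_mem_Fix {c : Fin D.rank → Kˣ} (hc : T.σT c = c) :
    C.G.torθ c ∈ T.Fix ⊓ D.diagonalSubgroup K := by
  have hH : C.G.torθ c ∈ D.diagonalSubgroup K := by rw [C.G.diagonal_eq_range]; exact ⟨c, rfl⟩
  have hg := C.G.diagonal_le_group hH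
  exact ⟨T.mem_Fix.2 ⟨hg, Subtype.ext (by rw [T.φ_torθ c hg, hc])⟩, hH⟩

/-- kernels of exponent two and twists of order three: fixed elements have fixed parameters -/
theorem exists_fixed_tor_three {g : GL D.Idx K} (hg : g ∈ T.Fix ⊓ D.diagonalSubgroup K)
    (h3 : ∀ c, T.σT (T.σT (T.σT c)) = c) (h2 : ∀ z : Fin D.rank → Kˣ, C.G.torθ z = 1 → z * z = 1) :
    ∃ c, g = C.G.torθ c ∧ T.σT c = c := by
  obtain ⟨c, z, rfl, hz, e⟩ := T.fix_tor hg
  refine ⟨c * T.σT z, by rw [map_mul, T.σT_ker hz, mul_one], ?_⟩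
  have e3 := h3 c
  simp only [e, T.σT_mul, mul_assoc, mul_eq_left] at e3
  -- the product over the orbit of `z` is one, and all squares vanish
  rw [T.σT_mul, e, mul_assoc]
  congr 1
  have e4 : T.σT z * T.σT z = 1 := h2 _ (T.σT_ker hz)
  calc z * T.σT (T.σT z) = z * (T.σT z * T.σT z) * T.σT (T.σT z) := by rw [e4, mul_one]
    _ = T.σT z * (z * (T.σT z * T.σT (T.σT z))) := by ac_rfl
    _ = T.σT z := by rw [e3, mul_one]

/-- kernels of exponent three and twists of order two: fixed elements have fixed parameters -/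
theorem exists_fixed_tor_two {g : GL D.Idx K} (hg : g ∈ T.Fix ⊓ D.diagonalSubgroup K)
    (h2 : ∀ c, T.σT (T.σT c) = c) (h3 : ∀ z : Fin D.rank → Kˣ, C.G.torθ z = 1 → z * z * z = 1) :
    ∃ c, g = C.G.torθ c ∧ T.σT c = c := by
  obtain ⟨c, z, rfl, hz, e⟩ := T.fix_tor hg
  refine ⟨c * (z * z), by rw [map_mul, map_mul, hz, one_mul, mul_one], ?_⟩
  have e2 := h2 c
  simp only [e, T.σT_mul, mul_assoc, mul_eq_left] at e2
  rw [T.σT_mul, T.σT_mul, e, eq_inv_of_mul_eq_one_right e2, mul_assoc]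
  congr 1
  have := h3 z hz
  rw [← inv_eq_of_mul_eq_one_left this]
  group

/-- a trivial kernel: fixed elements have fixed parameters -/
theorem exists_fixed_tor_one {g : GL D.Idx K} (hg : g ∈ T.Fix ⊓ D.diagonalSubgroup K)
    (h1 : ∀ z : Fin D.rank → Kˣ, C.G.torθ z = 1 → z = 1) :
    ∃ c, g = C.G.torθ c ∧ T.σT c = c := by
  obtain ⟨c, z, rfl, hz, e⟩ := T.fix_tor hg
  exact ⟨c, rfl, by rw [e, h1 z hz, mul_one]⟩

end Twist

/-- a power of a kernel element from an integral combination of the Cartan rows -/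
theorem Good.ker_pow (G : Good D) {d : ℤ} (M : Fin D.rank → Fin D.rank → ℤ)
    (hM : ∀ i j, ∑ l, M i l * cmat D j l = if j = i then d else 0)
    {z : Fin D.rank → Kˣ} (hz : G.torθ z = 1) (i : Fin D.rank) : z i ^ d = 1 := by
  have h : ∏ j, z j ^ (∑ l, M i l * cmat D j l) = 1 := by
    simp only [prod_zpow_sum]
    rw [Finset.prod_comm]
    refine Finset.prod_eq_one fun l _ => ?_
    simp only [mul_comm (M i l), zpow_mul, Finset.prod_zpow]
    rw [(G.torθ_ker z).1 (MonoidHom.mem_ker.2 hz) l, one_zpow]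
  simp only [hM i] at h
  rwa [Finset.prod_eq_single i (fun b _ hb => by simp [hb]) (by simp), if_pos rfl] at h

end CfsgLib.Lie.Chev
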