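import Cfsg.Agent.Lib.Lie.Chev.Tw.Card
import Cfsg.Agent.Lib.Lie.Chev.Tw.Cert
import Cfsg.Agent.Lib.Lie.Chev.Tw.Tools
import Cfsg.Agent.Lib.Lie.Chev.Tw.Frob

/-!
# More tools for the twisted groups: non-triviality certificates, commuting elements, Weyl groups
-/

set_option autoImplicit false

namespace CfsgLib.Lie.Chev

open Cfsg.Lie
open scoped MatrixGroups

variable {D : ChevalleyDatum} {K : Type*} [Field K]

/-- the integral matrix of a product of root elements -/
def zprod (D : ChevalleyDatum) (l : List (Fin D.nroots × ℤ)) : Matrix D.Idx D.Idx ℤ :=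
  (l.map fun p => xg ℤ p.1 p.2).prod

namespace Good

variable (G : Good D)

include G

/-- a product of root elements with an off-diagonal entry `±1` over the integers is not trivial -/
theorem prod_ne_one (l : List (Fin D.nroots × ℤ)) (a b : D.Idx)
    (h : a ≠ b ∧ (zprod D l a b = 1 ∨ zprod D l a b = -1)) :
    (l.map fun p => G.xu p.1 (p.2 : K)).prod ≠ 1 := by
  intro e
  have key : ∀ l' : List (Fin D.nroots × ℤ),
      (((l'.map fun p => G.xu p.1 (p.2 : K)).prod : GL D.Idx K) : Matrix D.Idx D.Idx K) =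
        (zprod D l').map (Int.castRingHom K) := by
    intro l'
    induction l' with
    | nil => simp [zprod]
    | cons p l' ih =>
      simp only [zprod, List.map_cons, List.prod_cons, Units.val_mul, coe_xu, Matrix.map_mul,
        xg_map] at ih ⊢
      rw [ih]
      rfl
  have h1 := congrFun (congrFun ((key l).symm.trans (congrArg Units.val e)) a) b
  rw [Matrix.map_apply, Units.val_one, Matrix.one_apply_ne h.1] at h1
  rcases h.2 with h2 | h2 <;> rw [h2] at h1 <;> simp at h1

end Good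

namespace Full

variable (C : Full D)

include C

theorem nE_commute {r s : Fin D.nroots} (h : C.Orth r s) (t u : K) :
    Commute (C.G.nE r t) (C.G.nE s u) := by
  have hc : ∀ a ∈ [r, C.G.negr r], ∀ b ∈ [s, C.G.negr s], ∀ x y : K,
      Commute (C.G.xu a x) (C.G.xu b y) := fun a ha b hb x y => C.orth_commute h ha hb x y
  simp only [Good.nE]
  refine Commute.mul_left (Commute.mul_left ?_ ?_) ?_ <;>
    refine Commute.mul_right (Commute.mul_right ?_ ?_) ?_ <;>
    exact hc _ (by simp) _ (by simp) _ _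

theorem hd_eq (r : Fin D.nroots) (t : Kˣ) :
    C.G.hd r t = C.G.nE r (t : K) * C.G.nE r (-1) := (C.G.hE_eq r t).symm

theorem hd_pair {r s : Fin D.nroots} (h : C.Orth r s) (t u : Kˣ) :
    C.G.hd r t * C.G.hd s u =
      (C.G.nE r (t : K) * C.G.nE s (u : K)) * (C.G.nE r (-1) * C.G.nE s (-1)) := by
  rw [C.hd_eq, C.hd_eq]
  simp only [mul_assoc]
  rw [← mul_assoc (C.G.nE r (-1)), (C.nE_commute h (-1) (u : K)).eq, mul_assoc]

theorem hd_triple {r s w : Fin D.nroots} (h : C.Orth r s) (h1 : C.Orth r w) (h2 : C.Orth s w)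
    (t u v : Kˣ) :
    C.G.hd r t * C.G.hd s u * C.G.hd w v =
      (C.G.nE r (t : K) * C.G.nE s (u : K) * C.G.nE w (v : K)) *
        (C.G.nE r (-1) * C.G.nE s (-1) * C.G.nE w (-1)) := by
  rw [C.hd_pair h, C.hd_eq]
  have hc : Commute (C.G.nE r (-1 : K) * C.G.nE s (-1)) (C.G.nE w (v : K)) :=
    Commute.mul_left (C.nE_commute h1 _ _) (C.nE_commute h2 _ _)
  rw [mul_assoc (C.G.nE r (t : K) * C.G.nE s (u : K)) (C.G.nE r (-1) * C.G.nE s (-1)),
    ← mul_assoc (C.G.nE r (-1) * C.G.nE s (-1)), hc.eq]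
  simp only [mul_assoc]

end Full

/-- the units fixed by the power map -/
theorem card_fixed_units [Fintype K] {q e : ℕ} (hq : IsPrimePow q) (hK : Fintype.card K = q ^ e) :
    Nat.card {u : Kˣ // (u : K) ^ q = (u : K)} = q - 1 := by
  classical
  have h1 : 1 < q := hq.one_lt
  have hiff : ∀ u : Kˣ, (u : K) ^ q = u ↔ u ∈ (powMonoidHom (q - 1) : Kˣ →* Kˣ).ker := by
    intro u
    rw [MonoidHom.mem_ker, powMonoidHom_apply, ← Units.val_pow_eq_pow_val, Units.val_inj]
    conv_lhs => rw [← pow_sub_one_mul (show q ≠ 0 by omega) u]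
    exact mul_eq_right
  rw [Nat.card_congr (Equiv.subtypeEquivRight hiff)]
  change Nat.card ↥(powMonoidHom (q - 1) : Kˣ →* Kˣ).ker = q - 1
  rw [IsCyclic.card_powMonoidHom_ker, Nat.card_units, Nat.card_eq_fintype_card, hK]
  exact Nat.gcd_eq_right (Nat.sub_one_dvd_pow_sub_one q e)

/-- the iterate of a product of two tabulated permutations -/
noncomputable def tabPow (P Q n r : ℕ) : ℕ := Nat.rec r (fun _ ih => digit P (digit Q ih)) n

namespace Orbits

variable {G : Good D} {p : Equiv.Perm (Fin D.nroots)} {ι : Type} (O : Orbits G p ι)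

theorem pow_eq_one_of_tab (tab : ι → ℕ)
    (hO : ∀ (k : ι) (r : Fin D.nroots), (O.wO k r).val = digit (tab k) r.val) (i j : ι) (n : ℕ)
    (h : ∀ r < D.nroots, tabPow (tab i) (tab j) n r = r) : (O.wO i * O.wO j) ^ n = 1 := by
  refine Equiv.ext fun r => Fin.ext ?_
  have key : ∀ m, (((O.wO i * O.wO j) ^ m) r).val = tabPow (tab i) (tab j) m r.val := by
    intro m
    induction m with
    | zero => rfl
    | succ m ih =>
      rw [pow_succ', Equiv.Perm.mul_apply, Equiv.Perm.mul_apply, hO, hO, ih]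
      rfl
  rw [key, h _ r.isLt, Equiv.Perm.one_apply]

/-- the centraliser in the Weyl group as a Coxeter group -/
theorem exists_coxeter_equiv {B : Type} (M : CoxeterMatrix B) (e : B → ι) (he : Function.Surjective e)
    (hrel : ∀ i j, (O.wO (e i) * O.wO (e j)) ^ M i j = 1)
    (hne : Nat.card M.Group ≠ 0) (hcard : Nat.card ↥(Wp G p) = Nat.card M.Group) :
    Nonempty (↥(Wp G p) ≃* M.Group) := by
  haveI : Finite M.Group := Nat.finite_of_card_ne_zero hne
  have hl : M.IsLiftable fun i => (⟨O.wO (e i), O.wO_mem (e i)⟩ : ↥(Wp G p)) := fun i j =>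
    Subtype.ext (by simpa using hrel i j)
  let f : M.Group →* ↥(Wp G p) := M.toCoxeterSystem.lift ⟨_, hl⟩
  have hf : ∀ i, f (M.simple i) = ⟨O.wO (e i), O.wO_mem (e i)⟩ := fun i =>
    M.toCoxeterSystem.lift_apply_simple hl i
  have hs : Function.Surjective f := by
    rintro ⟨π, hπ⟩
    refine O.induction_on (P := fun π => ∀ h : π ∈ Wp G p, ∃ x, f x = ⟨π, h⟩) hπ
      (fun h => ⟨1, Subtype.ext (by rw [map_one]; rfl)⟩) ?_ hπ
    rintro π' hπ' k - - ih h
    obtain ⟨x, hx⟩ := ih hπ'
    obtain ⟨i, rfl⟩ := he k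
    exact ⟨x * M.simple i, by rw [map_mul, hx, hf]; rfl⟩
  have hb : Function.Bijective f :=
    (Nat.bijective_iff_surjective_and_card f).2 ⟨hs, hcard.symm⟩
  exact ⟨(MulEquiv.ofBijective f hb).symm⟩

theorem card_Wp {S : OrbData} {E : EnumData} (O : Orbits G p (Fin S.no))
    (hO : ∀ (o : Fin S.no) (r : Fin D.nroots), (O.wO o r).val = digit (S.tab.get o.val) r.val)
    (hE : chkEnum D S E = true) : Nat.card ↥(Wp G p) = E.m := by
  classical
  have h := PsumP_of_chk O hO hE (fun _ => (1 : ℕ))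
  simp only [PsumP, Finset.sum_const, smul_eq_mul, mul_one, List.map_const', List.sum_replicate,
    List.length_range] at h
  rw [← h, Nat.card_eq_fintype_card, Fintype.card_subtype]

end Orbits

end CfsgLib.Lie.Chev
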