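import Cfsg.Agent.Lib.Lie.Chev.Tw.D4
import Cfsg.Agent.Lib.Lie.Chev.Tw.Tools2
import Cfsg.Agent.Lib.Lie.Chev.CoxG2

/-!
# The groups of type ³D₄: (B, N)-pair, order, torus, Weyl group
-/

set_option autoImplicit false
set_option maxRecDepth 100000

namespace CfsgLib.Lie.Chev

open Cfsg.Lie
open scoped MatrixGroups

namespace TD4

variable {K : Type*} [Field K] (θ : K ≃+* K)

/-- the central orbit -/
def o0 : Fin orbGraphD4.no := ⟨0, by decide +kernel⟩

/-- the orbit of three outer nodes -/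
def o1 : Fin orbGraphD4.no := ⟨1, by decide +kernel⟩

theorem o_cases (o : Fin orbGraphD4.no) : o = o0 ∨ o = o1 := by
  revert o; decide +kernel

theorem J_mem : nd 1 ∈ (orbits θ).J o0 ∧ nd 0 ∈ (orbits θ).J o1 ∧ nd 2 ∈ (orbits θ).J o1 ∧
    nd 3 ∈ (orbits θ).J o1 := by
  show nd 1 ∈ orbGraphD4.nodes chevD4 o0 ∧ nd 0 ∈ orbGraphD4.nodes chevD4 o1 ∧
    nd 2 ∈ orbGraphD4.nodes chevD4 o1 ∧ nd 3 ∈ orbGraphD4.nodes chevD4 o1
  decide +kernel

theorem xu_neg_ne : C.G.xu (rt 9) (1 : K) ≠ 1 ∧ C.G.xu (rt 14) (1 : K) ≠ 1 := by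
  constructor <;> intro h <;> rw [C.G.xu_eq_one_iff] at h <;> exact one_ne_zero h

theorem x3_ne : x3 θ (rt 5) (rt 10) (rt 11) (1 : K) ≠ 1 ∧ x3 θ (rt 18) (rt 13) (rt 12) (1 : K) ≠ 1 := by
  constructor
  · have h := C.G.prod_ne_one (K := K) [(rt 5, 1), (rt 10, 1), (rt 11, 1)]
      (Sum.inl (nd 0)) (Sum.inr (rt 18)) (by decide +kernel)
    simpa [x3, mul_assoc] using h
  · have h := C.G.prod_ne_one (K := K) [(rt 18, 1), (rt 13, 1), (rt 12, 1)]
      (Sum.inl (nd 0)) (Sum.inr (rt 5)) (by decide +kernel)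
    simpa [x3, mul_assoc] using h

variable {q : ℕ}

theorem triple_mem (hθ : ∀ x, θ x = x ^ q) :
    (∀ t, x3 θ (rt 18) (rt 13) (rt 12) t ∈ twistedD4 K q) ∧
      ∀ t, x3 θ (rt 5) (rt 10) (rt 11) t ∈ twistedD4 K q :=
  ⟨fun t => gen_triple θ hθ 18 13 12 _ _ _ (List.mem_cons_self ..) t,
    fun t => gen_triple θ hθ 5 10 11 _ _ _ (List.mem_cons_of_mem _ (List.mem_cons_self ..)) t⟩

theorem single_mem (hθ : ∀ x, θ x = x ^ q) {t : K} (ht : θ t = t) :
    C.G.xu (rt 14) t ∈ twistedD4 K q ∧ C.G.xu (rt 9) t ∈ twistedD4 K q :=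
  ⟨gen_single θ hθ 14 (List.mem_cons_self ..) _ ht,
    gen_single θ hθ 9 (List.mem_cons_of_mem _ (List.mem_cons_self ..)) _ ht⟩

theorem pre (hθ : ∀ x, θ x = x ^ q) (h3 : ∀ t : K, θ (θ (θ t)) = t) :
    Pre (orbits θ) (twistedD4 K q) where
  le := le_Fix θ hθ h3
  X_le k g hg := by
    rcases o_cases k with rfl | rfl
    · obtain ⟨t, ht, rfl⟩ := X_zero θ hg
      exact (single_mem θ hθ ht).1
    · obtain ⟨t, rfl⟩ := X_one θ h3 hg
      exact (triple_mem θ hθ).1 t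
  V_elt k := by
    obtain ⟨n1, n2, n3, n4⟩ := negr_rt
    obtain ⟨s0, s1, s2, s3⟩ := simp_rt
    obtain ⟨j1, j0, j2, j3⟩ := J_mem θ
    have hn : ∀ r : Fin chevD4.nroots, r.val ∈ [9, 5, 10, 11] → chevD4.IsNegRoot r.val := fun r hr => by
      rw [C.G.isNegRoot_iff_not_pos]; revert r; decide +kernel
    have hL : ∀ (k : Fin orbGraphD4.no) (i : Fin chevD4.rank) (r : Fin chevD4.nroots) (t : K),
        i ∈ (orbits θ).J k → C.G.negr (C.G.simp' i) = r →
        C.G.xu r t ∈ (LJ C.G ((orbits θ).J k) : Subgroup (GL chevD4.Idx K)) :=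
      fun k i r t hi e => Subgroup.subset_closure
        ⟨r, t, e ▸ C.G.inJ_negr (C.G.inJ_simp hi), rfl⟩
    rcases o_cases k with rfl | rfl
    · exact ⟨_, (single_mem θ hθ (map_one θ)).2, hL _ _ _ _ j1 (by rw [s1, n4]),
        C.G.xu_mem_V (hn _ (by decide +kernel)) _, xu_neg_ne.1⟩
    · exact ⟨_, (triple_mem θ hθ).2 1,
        mul_mem (mul_mem (hL _ _ _ _ j0 (by rw [s0, n1])) (hL _ _ _ _ j2 (by rw [s2, n2])))
          (hL _ _ _ _ j3 (by rw [s3, n3])),
        mul_mem (mul_mem (C.G.xu_mem_V (hn _ (by decide +kernel)) _)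
          (C.G.xu_mem_V (hn _ (by decide +kernel)) _)) (C.G.xu_mem_V (hn _ (by decide +kernel)) _),
        (x3_ne θ).1⟩

theorem H_mem (hθ : ∀ x, θ x = x ^ q) (h3 : ∀ t : K, θ (θ (θ t)) = t)
    {g : GL chevD4.Idx K} (hg : g ∈ (twist θ).Fix ⊓ chevD4.diagonalSubgroup K) :
    g ∈ twistedD4 K q := by
  obtain ⟨c, rfl, hc⟩ := (twist θ).exists_fixed_tor_three hg (σT_three θ h3)
    fun z hz => ker_sq hz
  obtain ⟨f1, f2, f3⟩ := fixed_params θ hc
  have e : c = par θ (c (nd 1)) (c (nd 0)) := by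
    funext j
    have hi : ∀ i : Fin chevD4.rank, i = nd 0 ∨ i = nd 1 ∨ i = nd 2 ∨ i = nd 3 := by decide +kernel
    have hne : (nd 0 : Fin chevD4.rank) ≠ nd 1 ∧ (nd 2 : Fin chevD4.rank) ≠ nd 1 ∧
        (nd 3 : Fin chevD4.rank) ≠ nd 1 ∧ (nd 2 : Fin chevD4.rank) ≠ nd 0 ∧
        (nd 3 : Fin chevD4.rank) ≠ nd 0 ∧ (nd 3 : Fin chevD4.rank) ≠ nd 2 := by decide +kernel
    obtain ⟨d1, d2, d3, d4, d5, d6⟩ := hne
    rcases hi j with rfl | rfl | rfl | rfl
    · simp [par, d1]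
    · simp [par]
    · exact Units.ext (by simp [par, d2, d4, f2])
    · exact Units.ext (by simp [par, d3, d5, d6, f3])
  rw [e, hd_par]
  obtain ⟨n1, n2, n3, n4⟩ := negr_rt
  obtain ⟨o1, o2, o3⟩ := orth_135
  have hone : ∀ a : K, θ a = a → C.G.nE (rt 14) a ∈ twistedD4 K q := by
    intro a ha
    simp only [Good.nE, n4]
    exact mul_mem (mul_mem (single_mem θ hθ ha).1
      (single_mem θ hθ (by rw [map_neg, map_inv₀, ha])).2) (single_mem θ hθ ha).1
  have hthree : ∀ b : K, C.G.nE (rt 18) b * C.G.nE (rt 13) (θ b) * C.G.nE (rt 12) (θ (θ b)) ∈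
      twistedD4 K q := by
    intro b
    rw [C.nE_triple o1 o2 o3, n1, n2, n3]
    have h2 := (triple_mem θ hθ).2 (-b⁻¹)
    simp only [x3, map_neg, map_inv₀] at h2
    exact mul_mem (mul_mem ((triple_mem θ hθ).1 b) h2) ((triple_mem θ hθ).1 b)
  refine mul_mem ?_ ?_
  · rw [C.hd_eq]
    exact mul_mem (hone _ f1) (hone _ (by rw [map_neg, map_one]))
  · rw [C.hd_triple o1 o2 o3]
    refine mul_mem (hthree (c (nd 0) : K)) ?_
    have := hthree (-1 : K)
    rwa [map_neg, map_one, map_neg, map_one] at this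

theorem twGp (hθ : ∀ x, θ x = x ^ q) (h3 : ∀ t : K, θ (θ (θ t)) = t) :
    TwGp (orbits θ) (twistedD4 K q) where
  toPre := pre θ hθ h3
  H_le g hg := H_mem θ hθ h3 hg
  X_ne k := by
    rcases o_cases k with rfl | rfl
    · refine ⟨C.G.xu (rt 14) 1,
        Subgroup.mem_inf.2 ⟨le_Fix θ hθ h3 (single_mem θ hθ (map_one θ)).1, ?_⟩, xu_neg_ne.2⟩
      have h := C.normal_mem (L_zero θ) (fun _ => (1 : K))
      simpa [o0] using h
    · refine ⟨x3 θ (rt 18) (rt 13) (rt 12) 1,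
        Subgroup.mem_inf.2 ⟨le_Fix θ hθ h3 ((triple_mem θ hθ).1 1), ?_⟩, (x3_ne θ).2⟩
      have hs : ∀ r : Fin chevD4.nroots, r ∈ [rt 12, rt 13, rt 18] →
          C.G.xu r (1 : K) ∈ (Uinv C.G ((orbits θ).wO o1) : Subgroup (GL chevD4.Idx K)) := by
        intro r hr
        refine Subgroup.subset_closure ⟨r, 1, ?_, rfl⟩
        have h2 : r ∈ (List.finRange chevD4.nroots).filter (fun r => decide (chevD4.IsPosRoot r.val ∧
            ¬ chevD4.IsPosRoot ((orbits θ).wO ⟨1, by decide +kernel⟩ r).val)) := by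
          rw [L_one θ]; exact hr
        simpa [o1] using (List.mem_filter.1 h2).2
      simp only [x3, map_one]
      exact mul_mem (mul_mem (hs _ (by simp)) (hs _ (by simp))) (hs _ (by simp))

section

variable [Fintype K] (hq : IsPrimePow q) (hK : Fintype.card K = q ^ 3)

include hq hK

theorem card_orb (hθ : ∀ x, θ x = x ^ q) (h3 : ∀ t : K, θ (θ (θ t)) = t)
    (k : Fin orbGraphD4.no) :
    Nat.card ↥((twist θ).Fix ⊓ Uinv C.G ((orbits θ).wO k)) = q ^ ninv C.G ((orbits θ).wO k) := by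
  classical
  have hn : ∀ k, ninv C.G ((orbits θ).wO k) = (L k).length := by
    intro k
    rw [← L_list θ k, List.length_map, ninv, ← List.toFinset_card_of_nodup
      ((List.nodup_finRange _).filter _)]
    congr 1
    ext r
    simp
  rw [hn]
  rcases o_cases k with rfl | rfl
  · rw [show (L o0).length = 1 from rfl, pow_one, ← Frob.card_fixed hq hK]
    refine (Nat.card_eq_of_bijective (fun t : {x : K // x ^ q = x} =>
      (⟨C.G.xu (rt 14) t.1, Subgroup.mem_inf.2 ⟨le_Fix θ hθ h3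
        (single_mem θ hθ ((hθ _).trans t.2)).1, by
          simpa [o0] using C.normal_mem (L_zero θ) (fun _ => t.1)⟩⟩ :
        ↥((twist θ).Fix ⊓ Uinv C.G ((orbits θ).wO o0)))) ⟨?_, ?_⟩).symm
    · intro t t' e
      exact Subtype.ext (C.G.xu_injective _ (congrArg Subtype.val e))
    · rintro ⟨g, hg⟩
      obtain ⟨t, ht, rfl⟩ := X_zero θ hg
      exact ⟨⟨t, (hθ t).symm.trans ht⟩, rfl⟩
  · rw [show (L o1).length = 3 from rfl, ← hK, ← Nat.card_eq_fintype_card]
    have hmem : ∀ t, x3 θ (rt 18) (rt 13) (rt 12) t ∈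
        (Uinv C.G ((orbits θ).wO o1) : Subgroup (GL chevD4.Idx K)) := by
      intro t
      have hs : ∀ (r : Fin chevD4.nroots) (u : K), r ∈ [rt 12, rt 13, rt 18] →
          C.G.xu r u ∈ (Uinv C.G ((orbits θ).wO o1) : Subgroup (GL chevD4.Idx K)) := by
        intro r u hr
        refine Subgroup.subset_closure ⟨r, u, ?_, rfl⟩
        have h2 : r ∈ (List.finRange chevD4.nroots).filter (fun r => decide (chevD4.IsPosRoot r.val ∧
            ¬ chevD4.IsPosRoot ((orbits θ).wO ⟨1, by decide +kernel⟩ r).val)) := by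
          rw [L_one θ]; exact hr
        simpa [o1] using (List.mem_filter.1 h2).2
      exact mul_mem (mul_mem (hs _ _ (by simp)) (hs _ _ (by simp))) (hs _ _ (by simp))
    refine (Nat.card_eq_of_bijective (fun t : K =>
      (⟨x3 θ (rt 18) (rt 13) (rt 12) t,
        Subgroup.mem_inf.2 ⟨le_Fix θ hθ h3 ((triple_mem θ hθ).1 t), hmem t⟩⟩ :
        ↥((twist θ).Fix ⊓ Uinv C.G ((orbits θ).wO o1)))) ⟨?_, ?_⟩).symm
    · intro t t' e
      have e' : x3 θ (rt 18) (rt 13) (rt 12) t = x3 θ (rt 18) (rt 13) (rt 12) t' :=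
        congrArg Subtype.val e
      obtain ⟨o1', o2', o3'⟩ := orth_135
      have c1 := fun a b : K => C.orth_commute o1' (a := rt 18) (b := rt 13) (by simp) (by simp) a b
      have c2 := fun a b : K => C.orth_commute o2' (a := rt 18) (b := rt 12) (by simp) (by simp) a b
      have c3 := fun a b : K => C.orth_commute o3' (a := rt 13) (b := rt 12) (by simp) (by simp) a b
      let v : K → Fin chevD4.nroots → K := fun t r =>
        if r = rt 12 then θ (θ t) else if r = rt 13 then θ t else t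
      have hne : (rt 13 : Fin chevD4.nroots) ≠ rt 12 ∧ (rt 18 : Fin chevD4.nroots) ≠ rt 12 ∧
          (rt 18 : Fin chevD4.nroots) ≠ rt 13 := by decide +kernel
      have key : ∀ t : K, ([rt 12, rt 13, rt 18].map fun r => C.G.xu r (v t r)).prod =
          x3 θ (rt 18) (rt 13) (rt 12) t := by
        intro t
        simp only [List.map_cons, List.map_nil, List.prod_cons, List.prod_nil, mul_one, v, if_true,
          if_neg hne.1, if_neg hne.2.1, if_neg hne.2.2, x3]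
        rw [← mul_assoc, ← (c3 _ _).eq, mul_assoc, ← (c2 _ _).eq, ← mul_assoc, ← (c1 _ _).eq]
      have := C.normal_inj (L_one θ) (v t) (v t') ((key t).trans (e'.trans (key t').symm))
        (r := rt 18) (by simp)
      simpa [v, hne.2.1, hne.2.2] using this
    · rintro ⟨g, hg⟩
      obtain ⟨t, rfl⟩ := X_one θ h3 hg
      exact ⟨t, rfl⟩

theorem card_H (hθ : ∀ x, θ x = x ^ q) (h3 : ∀ t : K, θ (θ (θ t)) = t) :
    Nat.card ↥((twist θ).Fix ⊓ chevD4.diagonalSubgroup K) = (q - 1) * (q ^ 3 - 1) := by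
  classical
  rw [← card_fixed_units hq hK, ← hK, ← Fintype.card_units, ← Nat.card_eq_fintype_card,
    ← Nat.card_prod]
  refine (Nat.card_eq_of_bijective (fun x : {u : Kˣ // (u : K) ^ q = (u : K)} × Kˣ =>
    (⟨C.G.torθ (par θ x.1.1 x.2),
      (twist θ).torθ_mem_Fix (par_fixed θ h3 ((hθ _).trans x.1.2))⟩ :
      ↥((twist θ).Fix ⊓ chevD4.diagonalSubgroup K))) ⟨?_, ?_⟩).symm
  · intro x y e
    have := torθ_injective_fixed θ h3 (par_fixed θ h3 ((hθ _).trans x.1.2))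
      (par_fixed θ h3 ((hθ _).trans y.1.2)) (congrArg Subtype.val e)
    have hd : (nd 0 : Fin chevD4.rank) ≠ nd 1 := by decide +kernel
    have e1 := congrFun this (nd 1)
    have e2 := congrFun this (nd 0)
    simp only [par, if_true, if_neg hd] at e1 e2
    exact Prod.ext (Subtype.ext e1) e2
  · rintro ⟨g, hg⟩
    obtain ⟨c, rfl, hc⟩ := (twist θ).exists_fixed_tor_three hg (σT_three θ h3)
      fun z hz => ker_sq hz
    obtain ⟨f1, f2, f3⟩ := fixed_params θ hc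
    refine ⟨(⟨c (nd 1), (hθ _).symm.trans f1⟩, c (nd 0)), Subtype.ext ?_⟩
    show C.G.torθ (par θ (c (nd 1)) (c (nd 0))) = C.G.torθ c
    congr 1
    funext j
    have hi : ∀ i : Fin chevD4.rank, i = nd 0 ∨ i = nd 1 ∨ i = nd 2 ∨ i = nd 3 := by decide +kernel
    have hne : (nd 0 : Fin chevD4.rank) ≠ nd 1 ∧ (nd 2 : Fin chevD4.rank) ≠ nd 1 ∧
        (nd 3 : Fin chevD4.rank) ≠ nd 1 ∧ (nd 2 : Fin chevD4.rank) ≠ nd 0 ∧
        (nd 3 : Fin chevD4.rank) ≠ nd 0 ∧ (nd 3 : Fin chevD4.rank) ≠ nd 2 := by decide +kernel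
    obtain ⟨d1, d2, d3, d4, d5, d6⟩ := hne
    rcases hi j with rfl | rfl | rfl | rfl
    · simp [par, d1]
    · simp [par]
    · exact Units.ext (by simp [par, d2, d4, f2])
    · exact Units.ext (by simp [par, d3, d5, d6, f3])

/-- the facts about the group -/
theorem summary :
    (∃ P : Cfsg.BNPair ↥(twistedD4 K q),
      P.B = (chevD4.borelSubgroup K ⊓ twistedD4 K q).subgroupOf (twistedD4 K q) ∧
      P.N = (chevD4.monomialSubgroup K ⊓ twistedD4 K q).subgroupOf (twistedD4 K q)) ∧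
    Nat.card ↥(chevD4.posUnipotent K ⊓ twistedD4 K q) = q ^ 12 ∧
    Nat.card ↥(chevD4.diagonalSubgroup K ⊓ twistedD4 K q) = (q - 1) * (q ^ 3 - 1) ∧
    (Nat.card ↥(twistedD4 K q) = q ^ 12 * ((q - 1) * (q ^ 3 - 1)) *
      (1 + q + q ^ 3 + 2 * q ^ 4 + q ^ 5 + q ^ 7 + 2 * q ^ 8 + q ^ 9 + q ^ 11 + q ^ 12)) ∧
    ∃ φ : ↥(chevD4.monomialSubgroup K ⊓ twistedD4 K q) →* (CoxeterMatrix.G₂).Group,
      Function.Surjective φ ∧ φ.ker = (chevD4.diagonalSubgroup K ⊓ twistedD4 K q).subgroupOf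
        (chevD4.monomialSubgroup K ⊓ twistedD4 K q) := by
  obtain ⟨θ, hθ⟩ := Frob.exists_powEquiv (K := K) hq hK
  have h3 : ∀ t : K, θ (θ (θ t)) = t := h3_of θ hθ hK
  have P := twGp θ hθ h3
  have hd : ∀ k, 1 ∣ ninv C.G ((orbits θ).wO k) := fun _ => one_dvd _
  have hQ : ∀ k, Nat.card ↥((twist θ).Fix ⊓ Uinv C.G ((orbits θ).wO k)) =
      q ^ (ninv C.G ((orbits θ).wO k) / 1) := fun k => by
    rw [Nat.div_one]; exact card_orb θ hq hK hθ h3 k
  have hU := P.card_U_eq one_ne_zero hd hQ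
  rw [show chevD4.nroots / 2 / 1 = 12 from by decide +kernel] at hU
  have hH : Nat.card ↥(chevD4.diagonalSubgroup K ⊓ twistedD4 K q) = (q - 1) * (q ^ 3 - 1) := by
    rw [P.H_eq]; exact card_H θ hq hK hθ h3
  refine ⟨P.exists_bnPair, hU, hH, ?_, ?_⟩
  · rw [P.card_eq one_ne_zero hd hQ, hU, hH, PsumP_of_chk (orbits θ) (wO_val θ) chkEnum_graphD4]
    congr 1
    rw [show (List.range enumGraphD4.m).map (fun k => q ^ (enumGraphD4.len.get k / 1)) =
      ((List.range enumGraphD4.m).map fun k => enumGraphD4.len.get k).map (fun n => q ^ (n / 1)) by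
        rw [List.map_map]; rfl, (lens_graphD4.map fun n => q ^ (n / 1)).sum_eq]
    simp only [List.map_append, List.map_replicate, List.sum_append, List.sum_replicate,
      Nat.div_one, smul_eq_mul]
    ring
  · have hne : Nat.card (CoxeterMatrix.G₂).Group = 12 := by
      obtain ⟨ψ, -⟩ := exists_equivG2 goodG2
      rw [Nat.card_congr ψ.toEquiv, cardWgG2]
    have hrel : ∀ (i j : Fin 2), ∀ r < chevD4.nroots,
        tabPow (orbGraphD4.tab.get i.val) (orbGraphD4.tab.get j.val) (CoxeterMatrix.G₂ i j) r = r := by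
      decide +kernel
    obtain ⟨e⟩ := (orbits θ).exists_coxeter_equiv CoxeterMatrix.G₂
      (fun i : Fin 2 => (⟨i.val, i.isLt⟩ : Fin orbGraphD4.no)) (fun o => ⟨⟨o.val, o.isLt⟩, rfl⟩)
      (fun i j => (orbits θ).pow_eq_one_of_tab (fun o => orbGraphD4.tab.get o.val) (wO_val θ) _ _ _
        (hrel i j))
      (by rw [hne]; norm_num) (by
        rw [(orbits θ).card_Wp (wO_val θ) chkEnum_graphD4, hne]
        rfl)
    exact P.exists_weyl_hom e

end

end TD4

end CfsgLib.Lie.Chev
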