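import Cfsg.Agent.Lib.Lie.Chev.Tw.E6

/-!
# The groups of type ²E₆: order and Weyl group
-/

set_option autoImplicit false
set_option maxRecDepth 100000

namespace CfsgLib.Lie.Chev

open Cfsg.Lie
open scoped MatrixGroups

namespace TE6

variable {K : Type*} [Field K] [Fintype K] {q : ℕ}

theorem poincare (x : ℤ) :
    ((List.range enumGraphE6.m).map fun k => x ^ (enumGraphE6.len.get k)).sum *
      ((x - 1) ^ 2 * (x ^ 2 - 1) ^ 2) =
    (x ^ 2 - 1) * (x ^ 5 + 1) * (x ^ 6 - 1) * (x ^ 8 - 1) * (x ^ 9 + 1) * (x ^ 12 - 1) := by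
  rw [show (List.range enumGraphE6.m).map (fun k => x ^ (enumGraphE6.len.get k)) =
    ((List.range enumGraphE6.m).map fun k => enumGraphE6.len.get k).map (fun n => x ^ n) by
      rw [List.map_map]; rfl, (lens_graphE6.map fun n => x ^ n).sum_eq]
  simp only [List.map_append, List.map_replicate, List.sum_append, List.sum_replicate, nsmul_eq_mul,
    Nat.cast_ofNat, Nat.cast_one]
  ring

/-- the facts about the group -/
theorem summary (hq : IsPrimePow q) (hK : Fintype.card K = q ^ 2) :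
    (∃ P : Cfsg.BNPair ↥(twistedE6 K q),
      P.B = (chevE6.borelSubgroup K ⊓ twistedE6 K q).subgroupOf (twistedE6 K q) ∧
      P.N = (chevE6.monomialSubgroup K ⊓ twistedE6 K q).subgroupOf (twistedE6 K q)) ∧
    Nat.card ↥(chevE6.posUnipotent K ⊓ twistedE6 K q) = q ^ 36 ∧
    Nat.gcd 3 (q + 1) * Nat.card ↥(chevE6.diagonalSubgroup K ⊓ twistedE6 K q) =
      (q - 1) ^ 2 * (q ^ 2 - 1) ^ 2 ∧
    (Nat.gcd 3 (q + 1) * Nat.card ↥(twistedE6 K q) = q ^ 36 * (q ^ 2 - 1) * (q ^ 5 + 1) * (q ^ 6 - 1) *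
      (q ^ 8 - 1) * (q ^ 9 + 1) * (q ^ 12 - 1)) ∧
    ∃ φ : ↥(chevE6.monomialSubgroup K ⊓ twistedE6 K q) →* (CoxeterMatrix.F₄).Group,
      Function.Surjective φ ∧ φ.ker = (chevE6.diagonalSubgroup K ⊓ twistedE6 K q).subgroupOf
        (chevE6.monomialSubgroup K ⊓ twistedE6 K q) := by
  obtain ⟨θ, hθ⟩ := Frob.exists_powEquiv (K := K) hq hK
  have h2 : ∀ t : K, θ (θ t) = t := fun t => by
    rw [hθ, hθ, ← pow_mul, show q * q = q ^ 2 from (pow_two q).symm, ← hK, FiniteField.pow_card]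
  have P := twGp θ hθ h2
  have hd : ∀ k, 1 ∣ ninv C.G ((orbits θ).wO k) := fun _ => one_dvd _
  have hQ : ∀ k, Nat.card ↥((twist θ).Fix ⊓ Uinv C.G ((orbits θ).wO k)) =
      q ^ (ninv C.G ((orbits θ).wO k) / 1) := fun k => by
    rw [Nat.div_one]; exact card_orb θ hq hK hθ h2 k
  have hU := P.card_U_eq one_ne_zero hd hQ
  rw [show chevE6.nroots / 2 / 1 = 36 from by decide +kernel] at hU
  have hH : Nat.gcd 3 (q + 1) * Nat.card ↥(chevE6.diagonalSubgroup K ⊓ twistedE6 K q) =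
      (q - 1) ^ 2 * (q ^ 2 - 1) ^ 2 := by
    rw [P.H_eq]; exact card_H θ hq hK hθ h2
  refine ⟨P.exists_bnPair, hU, hH, ?_, ?_⟩
  · rw [P.card_eq one_ne_zero hd hQ, hU, PsumP_of_chk (orbits θ) (wO_val θ) chkEnum_graphE6,
      ← mul_assoc, mul_left_comm (Nat.gcd 3 (q + 1)), hH]
    simp only [Nat.div_one]
    have h1 : 1 ≤ q := hq.one_lt.le
    set S := ((List.range enumGraphE6.m).map fun k => q ^ (enumGraphE6.len.get k)).sum with hS
    have hp : (S : ℤ) * (((q : ℤ) - 1) ^ 2 * ((q : ℤ) ^ 2 - 1) ^ 2) = ((q : ℤ) ^ 2 - 1) *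
        ((q : ℤ) ^ 5 + 1) * ((q : ℤ) ^ 6 - 1) * ((q : ℤ) ^ 8 - 1) * ((q : ℤ) ^ 9 + 1) * ((q : ℤ) ^ 12 - 1) := by
      rw [← poincare, hS, Nat.cast_list_sum, List.map_map]
      simp only [Function.comp_def, Nat.cast_pow]
    zify [h1, Nat.one_le_pow _ _ h1]
    linear_combination (q : ℤ) ^ 36 * hp
  · have hne : Nat.card (CoxeterMatrix.F₄).Group = 1152 := by
      obtain ⟨ψ, -⟩ := exists_equivF4 goodF4
      rw [Nat.card_congr ψ.toEquiv, cardWgF4]
    have hrel : ∀ (i j : Fin 4), ∀ r < chevE6.nroots,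
        tabPow (orbGraphE6.tab.get i.val) (orbGraphE6.tab.get j.val) (CoxeterMatrix.F₄ i j) r = r := by
      decide +kernel
    obtain ⟨e⟩ := (orbits θ).exists_coxeter_equiv CoxeterMatrix.F₄
      (fun i : Fin 4 => (⟨i.val, i.isLt⟩ : Fin orbGraphE6.no)) (fun o => ⟨⟨o.val, o.isLt⟩, rfl⟩)
      (fun i j => (orbits θ).pow_eq_one_of_tab (fun o => orbGraphE6.tab.get o.val) (wO_val θ) _ _ _
        (hrel i j))
      (by rw [hne]; norm_num) (by
        rw [(orbits θ).card_Wp (wO_val θ) chkEnum_graphE6, hne]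
        rfl)
    exact P.exists_weyl_hom e

end TE6

end CfsgLib.Lie.Chev
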