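import Cfsg.Agent.Lib.Lie.Chev.Tw.Tools2

/-!
# Weyl groups of twisted groups of rank two as dihedral groups
-/

set_option autoImplicit false

namespace CfsgLib.Lie.Chev

open Cfsg.Lie

/-- a group of order `2n` generated by two involutions with product of order dividing `n` -/
theorem exists_dihedral_equiv {W : Type*} [Group W] {n : ℕ} [NeZero n] (x y : W) (hx : x * x = 1)
    (hy : y * y = 1) (hn : (x * y) ^ n = 1) (hgen : ∀ g, g ∈ Subgroup.closure ({x, y} : Set W))
    (hcard : Nat.card W = 2 * n) : Nonempty (W ≃* DihedralGroup n) := by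
  set a := x * y with ha
  let P : ZMod n → W := fun i => a ^ i.val
  have hPadd : ∀ i j, P (i + j) = P i * P j := fun i j => by
    show a ^ (i + j).val = a ^ i.val * a ^ j.val
    rw [← pow_add, ZMod.val_add, ← pow_eq_pow_mod _ hn]
  have hxa : x * a * x = a⁻¹ := by
    rw [ha, mul_inv_rev, inv_eq_of_mul_eq_one_right hy, inv_eq_of_mul_eq_one_right hx,
      ← mul_assoc, hx, one_mul]
  have hxP : ∀ i, P i * x = x * P (-i) := by
    intro i
    have h0 : P (-i) = (P i)⁻¹ := eq_inv_of_mul_eq_one_left (by
      rw [← hPadd, neg_add_cancel]; show a ^ (0 : ZMod n).val = 1; simp)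
    have hpow : ∀ k : ℕ, x * a ^ k * x = (a ^ k)⁻¹ := by
      intro k
      induction k with
      | zero => simpa using hx
      | succ k ih =>
        rw [pow_succ, show x * (a ^ k * a) * x = (x * a ^ k * x) * (x * a * x) by
          simp only [mul_assoc]; rw [← mul_assoc x x, hx, one_mul], ih, hxa, ← mul_inv_rev,
          ← pow_succ', pow_succ]
    rw [h0]
    have := hpow i.val
    show a ^ i.val * x = x * (a ^ i.val)⁻¹
    rw [← this, ← mul_assoc, ← mul_assoc, hx, one_mul]
  let F : DihedralGroup n → W := fun g => match g with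
    | .r i => P i
    | .sr i => x * P i
  let f : DihedralGroup n →* W := MonoidHom.mk' F (by
    rintro (i | i) (j | j)
    · show P (i + j) = P i * P j
      exact hPadd i j
    · show x * P (j - i) = P i * (x * P j)
      rw [← mul_assoc, hxP, mul_assoc, ← hPadd, neg_add_eq_sub]
    · show x * P (i + j) = x * P i * P j
      rw [hPadd, mul_assoc]
    · show P (j - i) = x * P i * (x * P j)
      rw [← mul_assoc, mul_assoc x, hxP, ← mul_assoc, hx, one_mul, ← hPadd, neg_add_eq_sub])
  have hP0 : P 0 = 1 := by show a ^ (0 : ZMod n).val = 1; simp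
  have hP1 : P 1 = a := by
    show a ^ (1 : ZMod n).val = a
    rcases eq_or_ne n 1 with rfl | h
    · rw [pow_one] at hn; rw [hn, one_pow]
    · haveI : Fact (1 < n) := ⟨by have := NeZero.ne n; omega⟩
      rw [ZMod.val_one, pow_one]
  have hs : Function.Surjective f := by
    intro g
    have hle : Subgroup.closure ({x, y} : Set W) ≤ f.range := by
      rw [Subgroup.closure_le]
      rintro z (hz | hz)
      · exact ⟨.sr 0, by show x * P 0 = z; rw [hP0, mul_one, hz]⟩
      · exact ⟨.sr 1, by
          show x * P 1 = z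
          rw [hP1, ha, ← mul_assoc, hx, one_mul, Set.mem_singleton_iff.1 hz]⟩
    exact hle (hgen g)
  haveI : Finite W := Nat.finite_of_card_ne_zero (by rw [hcard]; have := NeZero.ne n; omega)
  exact ⟨(MulEquiv.ofBijective f ((Nat.bijective_iff_surjective_and_card f).2
    ⟨hs, by rw [hcard, DihedralGroup.nat_card]⟩)).symm⟩

end CfsgLib.Lie.Chev
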