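import Cfsg.Agent.Lib.Lie.Chev.Tw.F4
import Cfsg.Agent.Lib.Lie.Chev.Tw.Dihedral

/-!
# The groups of type ²F₄: (B, N)-pair, order, torus, Weyl group
-/

set_option autoImplicit false
set_option maxRecDepth 100000

namespace CfsgLib.Lie.Chev

open Cfsg.Lie
open scoped MatrixGroups

namespace TF4

variable {K : Type*} [Field K] [Fintype K] {m : ℕ}

/-- the field automorphism -/
theorem exists_theta (hK : Fintype.card K = 2 ^ (2 * m + 1)) :
    ∃ _ : CharP K 2, ∃ θ : K ≃+* K, (∀ x, θ.symm x = θ x ^ 2) ∧ ∀ x, θ x = x ^ 2 ^ m := by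
  obtain ⟨p, a, hp, ha, h2, hc⟩ := Frob.exists_prime (show IsPrimePow 2 from Nat.prime_two.isPrimePow) hK
  have hp2 : p = 2 := by
    have : p ∣ 2 := h2 ▸ dvd_pow_self p ha.ne'
    exact (Nat.prime_dvd_prime_iff_eq hp Nat.prime_two).1 this
  subst hp2
  haveI := hc
  haveI := Fact.mk hp
  refine ⟨hc, iterateFrobeniusEquiv K 2 m, fun x => ?_, fun x => by
    rw [coe_iterateFrobeniusEquiv, iterateFrobenius_def]⟩
  rw [RingEquiv.symm_apply_eq, coe_iterateFrobeniusEquiv, iterateFrobenius_def,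
    iterateFrobenius_def, ← pow_mul, ← pow_mul,
    show 2 ^ m * (2 * 2 ^ m) = Fintype.card K by rw [hK]; ring, FiniteField.pow_card]

/-- the facts about the group -/
theorem summary (hK : Fintype.card K = 2 ^ (2 * m + 1)) :
    (∃ P : Cfsg.BNPair ↥(twistedF4 K (2 ^ m)),
      P.B = (chevF4.borelSubgroup K ⊓ twistedF4 K (2 ^ m)).subgroupOf (twistedF4 K (2 ^ m)) ∧
      P.N = (chevF4.monomialSubgroup K ⊓ twistedF4 K (2 ^ m)).subgroupOf (twistedF4 K (2 ^ m))) ∧
    Nat.card ↥(chevF4.posUnipotent K ⊓ twistedF4 K (2 ^ m)) = (2 ^ (2 * m + 1)) ^ 12 ∧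
    Nat.card ↥(chevF4.diagonalSubgroup K ⊓ twistedF4 K (2 ^ m)) = (2 ^ (2 * m + 1) - 1) ^ 2 ∧
    (Nat.card ↥(twistedF4 K (2 ^ m)) =
      (2 ^ (2 * m + 1)) ^ 12 * (2 ^ (2 * m + 1) - 1) * ((2 ^ (2 * m + 1)) ^ 3 + 1) *
        ((2 ^ (2 * m + 1)) ^ 4 - 1) * ((2 ^ (2 * m + 1)) ^ 6 + 1)) ∧
    ∃ φ : ↥(chevF4.monomialSubgroup K ⊓ twistedF4 K (2 ^ m)) →* DihedralGroup 8,
      Function.Surjective φ ∧ φ.ker = (chevF4.diagonalSubgroup K ⊓ twistedF4 K (2 ^ m)).subgroupOf
        (chevF4.monomialSubgroup K ⊓ twistedF4 K (2 ^ m)) := by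
  obtain ⟨hc, θ, hsq, hθ⟩ := exists_theta hK
  have P := twGp θ hsq hθ
  have hqK : Nat.card K = 2 ^ (2 * m + 1) := by rw [Nat.card_eq_fintype_card, hK]
  have hd : ∀ k, 2 ∣ ninv C.G ((orbits θ hsq).wO k) := fun k => by
    have hn : ninv C.G ((orbits θ hsq).wO k) = (L k).length := by
      classical
      rw [← L_eq θ hsq k, ninv, ← List.toFinset_card_of_nodup ((List.nodup_finRange _).filter _)]
      congr 1
      ext r
      simp
    rw [hn]
    rcases o_cases k with rfl | rfl <;> decide +kernel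
  have hQ := card_orb θ hsq hθ
  have hU := P.card_U_eq two_ne_zero hd hQ
  rw [show chevF4.nroots / 2 / 2 = 12 from by decide +kernel, hqK] at hU
  have hH : Nat.card ↥(chevF4.diagonalSubgroup K ⊓ twistedF4 K (2 ^ m)) =
      (2 ^ (2 * m + 1) - 1) ^ 2 := by
    rw [P.H_eq, card_H θ hsq, hqK]
  refine ⟨P.exists_bnPair, hU, hH, ?_, ?_⟩
  · rw [P.card_eq two_ne_zero hd hQ, hU, hH, hqK,
      PsumP_of_chk (orbits θ hsq) (wO_val θ hsq) chkEnum_graphF4]
    have h1 : 1 ≤ 2 ^ (2 * m + 1) := Nat.one_le_two_pow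
    generalize 2 ^ (2 * m + 1) = q at h1 ⊢
    rw [show (List.range enumGraphF4.m).map (fun k => q ^ (enumGraphF4.len.get k / 2)) =
      ((List.range enumGraphF4.m).map fun k => enumGraphF4.len.get k).map (fun n => q ^ (n / 2)) by
        rw [List.map_map]; rfl, (lens_graphF4.map fun n => q ^ (n / 2)).sum_eq]
    simp only [List.map_append, List.map_replicate, List.sum_append, List.sum_replicate,
      smul_eq_mul, Nat.reduceDiv]
    zify [h1, Nat.one_le_pow 4 q h1]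
    ring
  · have hx : ∀ k, (⟨(orbits θ hsq).wO k, (orbits θ hsq).wO_mem k⟩ : ↥(Wp C.G (twist θ hsq).p)) *
        ⟨_, (orbits θ hsq).wO_mem k⟩ = 1 := fun k => Subtype.ext ((orbits θ hsq).wO_mul_self k)
    have hrel : ∀ r < chevF4.nroots,
        tabPow (orbGraphF4.tab.get 0) (orbGraphF4.tab.get 1) 8 r = r := by decide +kernel
    obtain ⟨e⟩ := exists_dihedral_equiv (n := 8) _ _ (hx o0) (hx o1)
      (Subtype.ext (by
        simpa using (orbits θ hsq).pow_eq_one_of_tab (fun o => orbGraphF4.tab.get o.val)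
          (wO_val θ hsq) o0 o1 8 hrel))
      (by
        rintro ⟨π, hπ⟩
        refine (orbits θ hsq).induction_on (P := fun π => ∀ h : π ∈ Wp C.G (twist θ hsq).p,
          (⟨π, h⟩ : ↥(Wp C.G (twist θ hsq).p)) ∈ Subgroup.closure _) hπ
          (fun h => one_mem _) ?_ hπ
        rintro π' hπ' k - - ih h
        rw [show (⟨π' * (orbits θ hsq).wO k, h⟩ : ↥(Wp C.G (twist θ hsq).p)) =
          ⟨π', hπ'⟩ * ⟨_, (orbits θ hsq).wO_mem k⟩ from rfl]
        refine mul_mem (ih hπ') (Subgroup.subset_closure ?_)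
        rcases o_cases k with rfl | rfl
        exacts [Or.inl rfl, Or.inr rfl])
      (by rw [(orbits θ hsq).card_Wp (wO_val θ hsq) chkEnum_graphF4]; rfl)
    exact P.exists_weyl_hom e

end TF4

end CfsgLib.Lie.Chev
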