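import Cfsg.Agent.Lib.Lie.Chev.Tw.Emb
import Cfsg.Agent.Lib.Lie.Chev.GoodD4

/-!
Intertwiner tables for type D4.
-/

set_option autoImplicit false
set_option maxRecDepth 100000

namespace CfsgLib.Lie.Chev

/-- the intertwiner for the node permutation [2, 1, 3, 0] of type D4 -/
noncomputable def graphD4 : EmbData where
  m := 0
  tgt := (.node 14 (.node 7 (.node 3 (.node 1 (.leaf 3) (.node 2 (.leaf 2) (.leaf 4))) (.node 5 (.node 4 (.leaf 1) (.leaf 5)) (.node 6 (.leaf 6) (.leaf 11)))) (.node 10 (.node 8 (.leaf 7) (.node 9 (.leaf 12) (.leaf 15))) (.node 12 (.node 11 (.leaf 8) (.leaf 13)) (.node 13 (.leaf 9) (.leaf 14))))) (.node 21 (.node 17 (.node 15 (.leaf 16) (.node 16 (.leaf 10) (.leaf 23))) (.node 19 (.node 18 (.leaf 17) (.leaf 19)) (.node 20 (.leaf 24) (.leaf 20)))) (.node 24 (.node 22 (.leaf 25) (.node 23 (.leaf 18) (.leaf 21))) (.node 26 (.node 25 (.leaf 26) (.leaf 22)) (.node 27 (.leaf 27) (.leaf 28))))))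
  src := (.node 14 (.node 7 (.node 3 (.node 1 (.leaf 4) (.node 2 (.leaf 2) (.leaf 1))) (.node 5 (.node 4 (.leaf 3) (.leaf 5)) (.node 6 (.leaf 6) (.leaf 8)))) (.node 10 (.node 8 (.leaf 11) (.node 9 (.leaf 13) (.leaf 16))) (.node 12 (.node 11 (.leaf 7) (.leaf 9)) (.node 13 (.leaf 12) (.leaf 14))))) (.node 21 (.node 17 (.node 15 (.leaf 10) (.node 16 (.leaf 15) (.leaf 18))) (.node 19 (.node 18 (.leaf 23) (.leaf 19)) (.node 20 (.leaf 21) (.leaf 24)))) (.node 24 (.node 22 (.leaf 26) (.node 23 (.leaf 17) (.leaf 20))) (.node 26 (.node 25 (.leaf 22) (.leaf 25)) (.node 27 (.leaf 27) (.leaf 28))))))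
  neg := (.node 14 (.node 7 (.node 3 (.node 1 (.leaf false) (.node 2 (.leaf false) (.leaf false))) (.node 5 (.node 4 (.leaf false) (.leaf false)) (.node 6 (.leaf false) (.leaf true)))) (.node 10 (.node 8 (.leaf false) (.node 9 (.leaf true) (.leaf false))) (.node 12 (.node 11 (.leaf true) (.leaf false)) (.node 13 (.leaf true) (.leaf false))))) (.node 21 (.node 17 (.node 15 (.leaf false) (.node 16 (.leaf false) (.leaf false))) (.node 19 (.node 18 (.leaf false) (.leaf false)) (.node 20 (.leaf true) (.leaf false)))) (.node 24 (.node 22 (.leaf true) (.node 23 (.leaf false) (.leaf true))) (.node 26 (.node 25 (.leaf false) (.leaf true)) (.node 27 (.leaf false) (.leaf false))))))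
  p := (.node 12 (.node 6 (.node 3 (.node 1 (.leaf 0) (.node 2 (.leaf 1) (.leaf 6))) (.node 4 (.leaf 2) (.node 5 (.leaf 7) (.leaf 10)))) (.node 9 (.node 7 (.leaf 3) (.node 8 (.leaf 8) (.leaf 4))) (.node 10 (.leaf 9) (.node 11 (.leaf 11) (.leaf 5))))) (.node 18 (.node 15 (.node 13 (.leaf 18) (.node 14 (.leaf 12) (.leaf 14))) (.node 16 (.leaf 19) (.node 17 (.leaf 15) (.leaf 20)))) (.node 21 (.node 19 (.leaf 13) (.node 20 (.leaf 16) (.leaf 21))) (.node 22 (.leaf 17) (.node 23 (.leaf 22) (.leaf 23))))))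
  lam := (.node 12 (.node 6 (.node 3 (.node 1 (.leaf 1) (.node 2 (.leaf 1) (.leaf 1))) (.node 4 (.leaf 1) (.node 5 (.leaf 1) (.leaf 1)))) (.node 9 (.node 7 (.leaf 1) (.node 8 (.leaf 1) (.leaf 1))) (.node 10 (.leaf 1) (.node 11 (.leaf 1) (.leaf 1))))) (.node 18 (.node 15 (.node 13 (.leaf 1) (.node 14 (.leaf 1) (.leaf 1))) (.node 16 (.leaf 1) (.node 17 (.leaf 1) (.leaf 1)))) (.node 21 (.node 19 (.leaf 1) (.node 20 (.leaf 1) (.leaf 1))) (.node 22 (.leaf 1) (.node 23 (.leaf 1) (.leaf 1))))))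
  eps := (.node 12 (.node 6 (.node 3 (.node 1 (.leaf false) (.node 2 (.leaf false) (.leaf true))) (.node 4 (.leaf false) (.node 5 (.leaf true) (.leaf false)))) (.node 9 (.node 7 (.leaf true) (.node 8 (.leaf false) (.leaf true))) (.node 10 (.leaf false) (.node 11 (.leaf false) (.leaf false))))) (.node 18 (.node 15 (.node 13 (.leaf false) (.node 14 (.leaf false) (.leaf false))) (.node 16 (.leaf true) (.node 17 (.leaf false) (.leaf true)))) (.node 21 (.node 19 (.leaf false) (.node 20 (.leaf true) (.leaf false))) (.node 22 (.leaf true) (.node 23 (.leaf false) (.leaf false))))))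

theorem chk_graphD4 : chkEmb Cfsg.Lie.chevD4 fastD4 graphD4 = true := by decide +kernel

theorem emb_graphD4 : Emb goodD4 fastD4 graphD4 := ⟨checksD4, chk_graphD4⟩

/-- the intertwiner for the node permutation [3, 1, 0, 2] of type D4 -/
noncomputable def graphD4i : EmbData where
  m := 0
  tgt := (.node 14 (.node 7 (.node 3 (.node 1 (.leaf 4) (.node 2 (.leaf 2) (.leaf 1))) (.node 5 (.node 4 (.leaf 3) (.leaf 5)) (.node 6 (.leaf 6) (.leaf 8)))) (.node 10 (.node 8 (.leaf 11) (.node 9 (.leaf 13) (.leaf 16))) (.node 12 (.node 11 (.leaf 7) (.leaf 9)) (.node 13 (.leaf 12) (.leaf 14))))) (.node 21 (.node 17 (.node 15 (.leaf 10) (.node 16 (.leaf 15) (.leaf 18))) (.node 19 (.node 18 (.leaf 23) (.leaf 19)) (.node 20 (.leaf 21) (.leaf 24)))) (.node 24 (.node 22 (.leaf 26) (.node 23 (.leaf 17) (.leaf 20))) (.node 26 (.node 25 (.leaf 22) (.leaf 25)) (.node 27 (.leaf 27) (.leaf 28))))))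
  src := (.node 14 (.node 7 (.node 3 (.node 1 (.leaf 3) (.node 2 (.leaf 2) (.leaf 4))) (.node 5 (.node 4 (.leaf 1) (.leaf 5)) (.node 6 (.leaf 6) (.leaf 11)))) (.node 10 (.node 8 (.leaf 7) (.node 9 (.leaf 12) (.leaf 15))) (.node 12 (.node 11 (.leaf 8) (.leaf 13)) (.node 13 (.leaf 9) (.leaf 14))))) (.node 21 (.node 17 (.node 15 (.leaf 16) (.node 16 (.leaf 10) (.leaf 23))) (.node 19 (.node 18 (.leaf 17) (.leaf 19)) (.node 20 (.leaf 24) (.leaf 20)))) (.node 24 (.node 22 (.leaf 25) (.node 23 (.leaf 18) (.leaf 21))) (.node 26 (.node 25 (.leaf 26) (.leaf 22)) (.node 27 (.leaf 27) (.leaf 28))))))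
  neg := (.node 14 (.node 7 (.node 3 (.node 1 (.leaf false) (.node 2 (.leaf false) (.leaf false))) (.node 5 (.node 4 (.leaf false) (.leaf false)) (.node 6 (.leaf false) (.leaf false)))) (.node 10 (.node 8 (.leaf true) (.node 9 (.leaf true) (.leaf false))) (.node 12 (.node 11 (.leaf true) (.leaf true)) (.node 13 (.leaf false) (.leaf false))))) (.node 21 (.node 17 (.node 15 (.leaf false) (.node 16 (.leaf false) (.leaf false))) (.node 19 (.node 18 (.leaf false) (.leaf false)) (.node 20 (.leaf false) (.leaf true)))) (.node 24 (.node 22 (.leaf true) (.node 23 (.leaf false) (.leaf true))) (.node 26 (.node 25 (.leaf true) (.leaf false)) (.node 27 (.leaf false) (.leaf false))))))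
  p := (.node 12 (.node 6 (.node 3 (.node 1 (.leaf 0) (.node 2 (.leaf 1) (.leaf 3))) (.node 4 (.leaf 6) (.node 5 (.leaf 8) (.leaf 11)))) (.node 9 (.node 7 (.leaf 2) (.node 8 (.leaf 4) (.leaf 7))) (.node 10 (.leaf 9) (.node 11 (.leaf 5) (.leaf 10))))) (.node 18 (.node 15 (.node 13 (.leaf 13) (.node 14 (.leaf 18) (.leaf 14))) (.node 16 (.leaf 16) (.node 17 (.leaf 19) (.leaf 21)))) (.node 21 (.node 19 (.leaf 12) (.node 20 (.leaf 15) (.leaf 17))) (.node 22 (.leaf 20) (.node 23 (.leaf 22) (.leaf 23))))))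
  lam := (.node 12 (.node 6 (.node 3 (.node 1 (.leaf 1) (.node 2 (.leaf 1) (.leaf 1))) (.node 4 (.leaf 1) (.node 5 (.leaf 1) (.leaf 1)))) (.node 9 (.node 7 (.leaf 1) (.node 8 (.leaf 1) (.leaf 1))) (.node 10 (.leaf 1) (.node 11 (.leaf 1) (.leaf 1))))) (.node 18 (.node 15 (.node 13 (.leaf 1) (.node 14 (.leaf 1) (.leaf 1))) (.node 16 (.leaf 1) (.node 17 (.leaf 1) (.leaf 1)))) (.node 21 (.node 19 (.leaf 1) (.node 20 (.leaf 1) (.leaf 1))) (.node 22 (.leaf 1) (.node 23 (.leaf 1) (.leaf 1))))))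
  eps := (.node 12 (.node 6 (.node 3 (.node 1 (.leaf false) (.node 2 (.leaf false) (.leaf false))) (.node 4 (.leaf true) (.node 5 (.leaf true) (.leaf false)))) (.node 9 (.node 7 (.leaf true) (.node 8 (.leaf true) (.leaf false))) (.node 10 (.leaf false) (.node 11 (.leaf false) (.leaf false))))) (.node 18 (.node 15 (.node 13 (.leaf false) (.node 14 (.leaf false) (.leaf false))) (.node 16 (.leaf false) (.node 17 (.leaf true) (.leaf true)))) (.node 21 (.node 19 (.leaf false) (.node 20 (.leaf true) (.leaf true))) (.node 22 (.leaf false) (.node 23 (.leaf false) (.leaf false))))))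

theorem chk_graphD4i : chkEmb Cfsg.Lie.chevD4 fastD4 graphD4i = true := by decide +kernel

theorem emb_graphD4i : Emb goodD4 fastD4 graphD4i := ⟨checksD4, chk_graphD4i⟩

end CfsgLib.Lie.Chev
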