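import Cfsg.Agent.Lib.Lie.Chev.Tw.Cert
import Cfsg.Agent.Lib.Lie.Chev.GoodD4

/-!
The orbits of `graphD4` and the centraliser of the root permutation in the Weyl group of type D4.
-/

set_option autoImplicit false
set_option maxRecDepth 100000

namespace CfsgLib.Lie.Chev

open Cfsg.Lie

/-- the orbits -/
noncomputable def orbGraphD4 : OrbData where
  no := 2
  P := 0x170016001100150010000d0014000f0013000e000c00120005000b0009000400080003000a00070002000600010000
  orb := (.node 1 (.leaf [1]) (.leaf [0, 2, 3]))
  word := (.node 1 (.leaf [1]) (.leaf [0, 2, 3]))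
  tab := (.node 1 (.leaf 0x16001700150014001200130011000d000c00090010000f00080007000e000b000a0006000400050003000200000001) (.leaf 0x17000e000f0010001100050013001400150016000a000b000c000d0001000200030004001200060007000800090000))
  oidx := (.node 2 (.node 1 (.leaf 1) (.leaf 0)) (.node 3 (.leaf 1) (.leaf 1)))

/-- the enumeration -/
noncomputable def enumGraphD4 : EnumData where
  m := 12
  P := (.node 6 (.node 3 (.node 1 (.leaf 0x170016001500140013001200110010000f000e000d000c000b000a0009000800070006000500040003000200010000) (.node 2 (.leaf 0x16001700150014001200130011000d000c00090010000f00080007000e000b000a0006000400050003000200000001) (.leaf 0x17000e000f0010001100050013001400150016000a000b000c000d0001000200030004001200060007000800090000))) (.node 4 (.leaf 0xe0017000f0010000500110013000a000b000100140015000200030016000c000d0004000600120007000800000009) (.node 5 (.leaf 0x160009000c000d00110004001200140015001700070008000f0010000000020003000500130006000a000b000e0001) (.leaf 0x90016000c000d00040011001200070008000000140015000200030017000f0010000500060013000a000b0001000e))))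 (.node 9 (.node 7 (.leaf 0xe0001000b000a0013000600050010000f00170003000200150014000000080007001200110004000d000c00160009) (.node 8 (.leaf 0x1000e000b000a0006001300050003000200000010000f00080007001700150014001200040011000d000c00090016) (.leaf 0x9000000080007001200060004000d000c001600030002001500140001000b000a0013001100050010000f0017000e))) (.node 10 (.leaf 0x900080007000600120004000300020001000d000c000b000a0016001500140013000500110010000f000e0017) (.node 11 (.leaf 0x1000000020003000500040006000a000b000e00070008000f00100009000c000d0011001300120014001500170016) (.leaf 0x100020003000400050006000700080009000a000b000c000d000e000f00100011001200130014001500160017)))))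
  par := (.node 6 (.node 3 (.node 1 (.leaf (0, 0)) (.node 2 (.leaf (0, 0)) (.leaf (1, 0)))) (.node 4 (.leaf (1, 1)) (.node 5 (.leaf (0, 2)) (.leaf (0, 3))))) (.node 9 (.node 7 (.leaf (1, 4)) (.node 8 (.leaf (1, 5)) (.leaf (0, 6)))) (.node 10 (.leaf (0, 7)) (.node 11 (.leaf (1, 8)) (.leaf (1, 9))))))
  ch := (.node 6 (.node 3 (.node 1 (.leaf [1, 2]) (.node 2 (.leaf [0, 3]) (.leaf [4, 0]))) (.node 4 (.leaf [5, 1]) (.node 5 (.leaf [2, 6]) (.leaf [3, 7])))) (.node 9 (.node 7 (.leaf [8, 4]) (.node 8 (.leaf [9, 5]) (.leaf [6, 10]))) (.node 10 (.leaf [7, 11]) (.node 11 (.leaf [11, 8]) (.leaf [10, 9])))))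
  ord := (.node 6 (.node 3 (.node 1 (.leaf 0) (.node 2 (.leaf 2) (.leaf 1))) (.node 4 (.leaf 4) (.node 5 (.leaf 3) (.leaf 6)))) (.node 9 (.node 7 (.leaf 5) (.node 8 (.leaf 8) (.leaf 7))) (.node 10 (.leaf 10) (.node 11 (.leaf 9) (.leaf 11)))))
  rk := (.node 6 (.node 3 (.node 1 (.leaf 0) (.node 2 (.leaf 2) (.leaf 1))) (.node 4 (.leaf 4) (.node 5 (.leaf 3) (.leaf 6)))) (.node 9 (.node 7 (.leaf 5) (.node 8 (.leaf 8) (.leaf 7))) (.node 10 (.leaf 10) (.node 11 (.leaf 9) (.leaf 11)))))
  len := (.node 6 (.node 3 (.node 1 (.leaf 0) (.node 2 (.leaf 1) (.leaf 3))) (.node 4 (.leaf 4) (.node 5 (.leaf 4) (.leaf 5)))) (.node 9 (.node 7 (.leaf 7) (.node 8 (.leaf 8) (.leaf 8))) (.node 10 (.leaf 9) (.node 11 (.leaf 11) (.leaf 12)))))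

theorem chkOrb_graphD4 : chkOrb chevD4 fastD4 orbGraphD4 = true := by decide +kernel

theorem chkEnum_graphD4 : chkEnum chevD4 orbGraphD4 enumGraphD4 = true := by decide +kernel

/-- the lengths, counted -/
theorem lens_graphD4 : ((List.range enumGraphD4.m).map fun k => enumGraphD4.len.get k).Perm
    (List.replicate 1 0 ++ List.replicate 1 1 ++ List.replicate 1 3 ++ List.replicate 2 4 ++ List.replicate 1 5 ++ List.replicate 1 7 ++ List.replicate 2 8 ++ List.replicate 1 9 ++ List.replicate 1 11 ++ List.replicate 1 12) := by decide +kernel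

end CfsgLib.Lie.Chev
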