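import Cfsg.Agent.Lib.Lie.Chev.Tw.Tools
import Cfsg.Agent.Lib.Lie.Chev.Tw.DataD4
import Cfsg.Agent.Lib.Lie.Chev.Tw.OrbGraphD4
import Cfsg.Agent.Lib.Lie.Chev.CommD4
import Cfsg.Prelude.Def_LieTwisted

/-!
# The groups of type ³D₄
-/

set_option autoImplicit false
set_option maxRecDepth 100000

namespace CfsgLib.Lie.Chev

open Cfsg.Lie
open scoped MatrixGroups

namespace TD4

/-- the verified datum -/
noncomputable def C : Full chevD4 := ⟨goodD4, fastD4, rowsOK chkRows_D4, chkComm_D4⟩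

theorem emb : Emb C.G fastD4 graphD4 := emb_graphD4

/-- the permutation of the nodes -/
def node : Tree ℕ := .node 2 (.node 1 (.leaf 2) (.leaf 1)) (.node 3 (.leaf 3) (.leaf 0))

theorem chk : chkTwist chevD4 fastD4 graphD4 node = true := by decide +kernel

theorem lam_one : ∀ r : Fin chevD4.nroots, graphD4.lam.get r.val = 1 := by decide +kernel

/-- a root index -/
def rt (i : ℕ) (h : i < chevD4.nroots := by decide +kernel) : Fin chevD4.nroots := ⟨i, h⟩

/-- a node index -/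
def nd (i : ℕ) (h : i < chevD4.rank := by decide +kernel) : Fin chevD4.rank := ⟨i, h⟩

variable {K : Type*} [Field K]

theorem inj : Function.Injective (emb.rtgt (K := K) (hm := Nat.cast_zero)) :=
  emb.rtgt_injective_of_all _ (fun a => by revert a; decide +kernel)

/-- the twist for a field automorphism -/
noncomputable def twist (θ : K ≃+* K) : Twist C.G K :=
  emb.mkTwist chk Nat.cast_zero inj θ (fun _ => θ) fun r x => by rw [lam_one, pow_one]

/-- the orbits -/
noncomputable def orbits (θ : K ≃+* K) : Orbits C.G (twist θ).p (Fin orbGraphD4.no) :=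
  orbGraphD4.orbits checksD4 chkOrb_graphD4 _ fun r => by
    show graphD4.p.get r.val = _
    revert r; decide +kernel

variable (θ : K ≃+* K)

theorem p_eq {r s : Fin chevD4.nroots} (h : graphD4.p.get r.val = s.val) : (twist θ).p r = s :=
  Fin.ext h

theorem eps_one {r : Fin chevD4.nroots} (h : graphD4.eps.get r.val = false) :
    (twist θ).eps r = 1 := by
  show (sgnB (graphD4.eps.get r.val) : K) = 1
  rw [h]; simp [sgnB]

theorem σ_eq (r : Fin chevD4.nroots) (x : K) : (twist θ).σ r x = θ x := rfl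

theorem node_eq : ∀ j : Fin chevD4.rank, ((twist θ).node j).val = node.get j.val := fun _ => rfl

theorem orth_135 : C.Orth (rt 18) (rt 13) ∧ C.Orth (rt 18) (rt 12) ∧ C.Orth (rt 13) (rt 12) := by
  have h : ∀ r ∈ [(18, 13), (18, 12), (13, 12)], ∀ a ∈ [r.1, chevD4.neg r.1],
      ∀ b ∈ [r.2, chevD4.neg r.2], b ≠ a ∧ b ≠ chevD4.neg a ∧ chevD4.commTerms a b = [] := by
    decide +kernel
  have key : ∀ x y : Fin chevD4.nroots, (x.val, y.val) ∈ [(18, 13), (18, 12), (13, 12)] → C.Orth x y := by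
    intro x y hxy a ha b hb
    obtain ⟨h1, h2, h3⟩ := h _ hxy a.val (by
      simp only [List.mem_cons, List.not_mem_nil, or_false] at ha ⊢
      rcases ha with rfl | rfl
      exacts [Or.inl rfl, Or.inr (C.G.negr_val x)]) b.val (by
      simp only [List.mem_cons, List.not_mem_nil, or_false] at hb ⊢
      rcases hb with rfl | rfl
      exacts [Or.inl rfl, Or.inr (C.G.negr_val y)])
    exact ⟨fun e => h1 (congrArg Fin.val e),
      fun e => h2 ((congrArg Fin.val e).trans (C.G.negr_val a)), h3⟩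
  exact ⟨key _ _ (by simp [rt]), key _ _ (by simp [rt]), key _ _ (by simp [rt])⟩

theorem negr_rt : C.G.negr (rt 18) = rt 5 ∧ C.G.negr (rt 13) = rt 10 ∧ C.G.negr (rt 12) = rt 11 ∧
    C.G.negr (rt 14) = rt 9 := by
  refine ⟨?_, ?_, ?_, ?_⟩ <;> refine Fin.ext ((C.G.negr_val _).trans ?_) <;> decide +kernel

theorem simp_rt : C.G.simp' (nd 0) = rt 18 ∧ C.G.simp' (nd 1) = rt 14 ∧ C.G.simp' (nd 2) = rt 13 ∧
    C.G.simp' (nd 3) = rt 12 := by
  refine ⟨?_, ?_, ?_, ?_⟩ <;> refine Fin.ext ((C.G.simp_val _).trans ?_) <;> decide +kernel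

/-- the roots of the two orbits -/
def L : Fin orbGraphD4.no → List ℕ := fun o => if o.val = 0 then [14] else [12, 13, 18]

theorem L_spec : ∀ o : Fin orbGraphD4.no, ((List.range chevD4.nroots).filter fun r =>
    decide (chevD4.nroots / 2 ≤ r) && decide (digit (orbGraphD4.tab.get o.val) r < chevD4.nroots / 2)) =
    L o := by decide +kernel

theorem wO_val (o : Fin orbGraphD4.no) (r : Fin chevD4.nroots) :
    ((orbits θ).wO o r).val = digit (orbGraphD4.tab.get o.val) r.val := by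
  show (C.G.pw (orbGraphD4.wl chevD4 o) r).val = _
  rw [C.G.pw_val checksD4, OrbData.wl_val chkOrb_graphD4]
  exact ((OrbData.spec chkOrb_graphD4 o.val o.isLt).2.2.2.1 r.val r.isLt).symm

theorem L_list (o : Fin orbGraphD4.no) :
    ((List.finRange chevD4.nroots).filter fun r =>
      decide (chevD4.IsPosRoot r.val ∧ ¬ chevD4.IsPosRoot ((orbits θ).wO o r).val)).map Fin.val = L o := by
  rw [← L_spec o, ← List.map_coe_finRange_eq_range, List.filter_map]
  congr 1
  refine List.filter_congr fun r _ => ?_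
  rw [Function.comp_apply, ← wO_val θ]
  simp only [C.G.pos_iff_half, not_le, Bool.decide_and]

theorem L_zero : (List.finRange chevD4.nroots).filter (fun r =>
    decide (chevD4.IsPosRoot r.val ∧ ¬ chevD4.IsPosRoot ((orbits θ).wO ⟨0, by decide +kernel⟩ r).val)) =
    [rt 14] := by
  refine List.map_injective_iff.2 Fin.val_injective ?_
  rw [L_list θ]
  rfl

theorem L_one : (List.finRange chevD4.nroots).filter (fun r =>
    decide (chevD4.IsPosRoot r.val ∧ ¬ chevD4.IsPosRoot ((orbits θ).wO ⟨1, by decide +kernel⟩ r).val)) =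
    [rt 12, rt 13, rt 18] := by
  refine List.map_injective_iff.2 Fin.val_injective ?_
  rw [L_list θ]
  rfl

/-- the element of the triple orbit -/
noncomputable def x3 (a b c : Fin chevD4.nroots) (t : K) : GL chevD4.Idx K :=
  C.G.xu a t * C.G.xu b (θ t) * C.G.xu c (θ (θ t))

theorem x3_fix (h3 : ∀ t : K, θ (θ (θ t)) = t) {a b c : ℕ} (ha : a < chevD4.nroots)
    (hb : b < chevD4.nroots) (hc : c < chevD4.nroots)
    (hd : graphD4.p.get a = b ∧ graphD4.p.get b = c ∧ graphD4.p.get c = a ∧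
      graphD4.eps.get a = false ∧ graphD4.eps.get b = false ∧ graphD4.eps.get c = false)
    (hcomm : ∀ t u : K, Commute (C.G.xu ⟨a, ha⟩ t) (C.G.xu ⟨b, hb⟩ u) ∧
      Commute (C.G.xu ⟨a, ha⟩ t) (C.G.xu ⟨c, hc⟩ u)) (t : K) :
    x3 θ ⟨a, ha⟩ ⟨b, hb⟩ ⟨c, hc⟩ t ∈ (twist θ).Fix := by
  obtain ⟨e1, e2, e3, e4, e5, e6⟩ := hd
  have h := (twist θ).mem_Fix_list [(⟨a, ha⟩, t), (⟨b, hb⟩, θ t), (⟨c, hc⟩, θ (θ t))] (by
    simp only [List.map_cons, List.map_nil, List.prod_cons, List.prod_nil, mul_one,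
      p_eq θ (r := ⟨a, ha⟩) (s := ⟨b, hb⟩) e1, p_eq θ (r := ⟨b, hb⟩) (s := ⟨c, hc⟩) e2,
      p_eq θ (r := ⟨c, hc⟩) (s := ⟨a, ha⟩) e3, eps_one θ (r := ⟨a, ha⟩) e4, eps_one θ (r := ⟨b, hb⟩) e5,
      eps_one θ (r := ⟨c, hc⟩) e6, σ_eq, one_mul, h3]
    rw [← mul_assoc]
    rw [← ((Commute.mul_right (hcomm t (θ t)).1 (hcomm t (θ (θ t))).2)).eq])
  simpa [x3, mul_assoc] using h

section

variable {q : ℕ} (hθ : ∀ x, θ x = x ^ q)

include hθ

theorem gen_single (r : ℕ) (hr : r ∈ [d4p2, d4m2]) (hr' : r < chevD4.nroots) {t : K} (ht : θ t = t) :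
    C.G.xu ⟨r, hr'⟩ t ∈ twistedD4 K q := by
  have h := C.G.mem_gen (S := d4Words K q) [(⟨r, hr'⟩, t)]
    (Or.inl ⟨t, (hθ t).symm.trans ht, r, hr, rfl⟩)
  simpa [twistedD4] using h

theorem gen_triple (a b c : ℕ) (ha : a < chevD4.nroots) (hb : b < chevD4.nroots)
    (hc : c < chevD4.nroots) (h : (a, b, c) ∈ [(d4p1, d4p3, d4p4), (d4m1, d4m3, d4m4)]) (t : K) :
    x3 θ ⟨a, ha⟩ ⟨b, hb⟩ ⟨c, hc⟩ t ∈ twistedD4 K q := by
  have h := C.G.mem_gen (S := d4Words K q) [(⟨a, ha⟩, t), (⟨b, hb⟩, θ t), (⟨c, hc⟩, θ (θ t))]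
    (Or.inr ⟨t, _, h, by simp [hθ, ← pow_mul, pow_two]⟩)
  simpa [twistedD4, x3, mul_assoc] using h

end

theorem h3_of {q : ℕ} (hθ : ∀ x, θ x = x ^ q) [Fintype K] (hK : Fintype.card K = q ^ 3) (t : K) :
    θ (θ (θ t)) = t := by
  rw [hθ, hθ, hθ, ← pow_mul, ← pow_mul, show q * (q * q) = q ^ 3 by ring, ← hK, FiniteField.pow_card]

theorem le_Fix {q : ℕ} (hθ : ∀ x, θ x = x ^ q) (h3 : ∀ t : K, θ (θ (θ t)) = t) :
    twistedD4 K q ≤ (twist θ).Fix := by
  obtain ⟨o1, o2, o3⟩ := orth_135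
  obtain ⟨n1, n2, n3, n4⟩ := negr_rt
  have hp : ∀ t u : K, Commute (C.G.xu (rt 18) t) (C.G.xu (rt 13) u) ∧
      Commute (C.G.xu (rt 18) t) (C.G.xu (rt 12) u) := fun t u =>
    ⟨C.orth_commute o1 (by simp) (by simp) t u, C.orth_commute o2 (by simp) (by simp) t u⟩
  have hn : ∀ t u : K, Commute (C.G.xu (rt 5) t) (C.G.xu (rt 10) u) ∧
      Commute (C.G.xu (rt 5) t) (C.G.xu (rt 11) u) := fun t u =>
    ⟨C.orth_commute o1 (by simp [n1]) (by simp [n2]) t u,
      C.orth_commute o2 (by simp [n1]) (by simp [n3]) t u⟩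
  refine C.G.gen_le fun w hw => ?_
  rcases hw with ⟨t, ht, r, hr, rfl⟩ | ⟨t, rs, hrs, rfl⟩
  · simp only [List.mem_cons, List.not_mem_nil, or_false] at hr
    have hd : ∀ r ∈ [d4p2, d4m2], r < chevD4.nroots ∧ graphD4.p.get r = r ∧
        graphD4.eps.get r = false := by decide +kernel
    obtain ⟨h1, h2, h3'⟩ := hd r (by simpa using hr)
    refine ⟨[(⟨r, h1⟩, t)], rfl, (twist θ).mem_Fix_list _ ?_⟩
    simp [p_eq θ (r := ⟨r, h1⟩) (s := ⟨r, h1⟩) h2, eps_one θ (r := ⟨r, h1⟩) h3', σ_eq, hθ, ht]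
  · simp only [List.mem_cons, List.not_mem_nil, or_false] at hrs
    rcases hrs with rfl | rfl
    · refine ⟨[(rt 18, t), (rt 13, θ t), (rt 12, θ (θ t))], by
        simp [rt, d4p1, d4p3, d4p4, hθ, ← pow_mul, pow_two], ?_⟩
      simpa [x3, mul_assoc, rt] using x3_fix θ h3 (rt 18).isLt (rt 13).isLt (rt 12).isLt
        (by decide +kernel) hp t
    · refine ⟨[(rt 5, t), (rt 10, θ t), (rt 11, θ (θ t))], by
        simp [rt, d4m1, d4m3, d4m4, hθ, ← pow_mul, pow_two], ?_⟩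
      simpa [x3, mul_assoc, rt] using x3_fix θ h3 (rt 5).isLt (rt 10).isLt (rt 11).isLt
        (by decide +kernel) hn t

theorem X_zero {g : GL chevD4.Idx K}
    (hg : g ∈ (twist θ).Fix ⊓ Uinv C.G ((orbits θ).wO ⟨0, by decide +kernel⟩)) :
    ∃ t, θ t = t ∧ g = C.G.xu (rt 14) t := by
  obtain ⟨u, rfl⟩ := C.Uinv_normal (C.G.nPerm_nw _) (L_zero θ) hg.2
  have h := (twist θ).fix_list (l := [(rt 14, u (rt 14))]) (by simpa using hg.1)
  simp only [List.map_cons, List.map_nil, List.prod_cons, List.prod_nil, mul_one, σ_eq] at h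
  rw [p_eq θ (r := rt 14) (s := rt 14) (by decide +kernel),
    eps_one θ (r := rt 14) (by decide +kernel), one_mul] at h
  exact ⟨_, C.G.xu_injective _ h, by simp⟩

theorem X_one (h3 : ∀ t : K, θ (θ (θ t)) = t) {g : GL chevD4.Idx K}
    (hg : g ∈ (twist θ).Fix ⊓ Uinv C.G ((orbits θ).wO ⟨1, by decide +kernel⟩)) :
    ∃ t, g = x3 θ (rt 18) (rt 13) (rt 12) t := by
  obtain ⟨u, rfl⟩ := C.Uinv_normal (C.G.nPerm_nw _) (L_one θ) hg.2
  obtain ⟨o1, o2, o3⟩ := orth_135
  have h := (twist θ).fix_list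
    (l := [(rt 12, u (rt 12)), (rt 13, u (rt 13)), (rt 18, u (rt 18))]) (by simpa using hg.1)
  simp only [List.map_cons, List.map_nil, List.prod_cons, List.prod_nil, mul_one, σ_eq] at h
  rw [p_eq θ (r := rt 12) (s := rt 18) (by decide +kernel),
    p_eq θ (r := rt 13) (s := rt 12) (by decide +kernel),
    p_eq θ (r := rt 18) (s := rt 13) (by decide +kernel),
    eps_one θ (r := rt 12) (by decide +kernel), eps_one θ (r := rt 13) (by decide +kernel),
    eps_one θ (r := rt 18) (by decide +kernel), one_mul, one_mul, one_mul] at h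
  have c1 : ∀ a b : K, Commute (C.G.xu (rt 18) a) (C.G.xu (rt 13) b) := fun a b =>
    C.orth_commute o1 (by simp) (by simp) a b
  have c2 : ∀ a b : K, Commute (C.G.xu (rt 18) a) (C.G.xu (rt 12) b) := fun a b =>
    C.orth_commute o2 (by simp) (by simp) a b
  have c3 : ∀ a b : K, Commute (C.G.xu (rt 13) a) (C.G.xu (rt 12) b) := fun a b =>
    C.orth_commute o3 (by simp) (by simp) a b
  let v : Fin chevD4.nroots → K := fun r =>
    if r = rt 12 then θ (u (rt 13)) else if r = rt 13 then θ (u (rt 18)) else θ (u (rt 12))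
  have hne : (rt 13 : Fin chevD4.nroots) ≠ rt 12 ∧ (rt 18 : Fin chevD4.nroots) ≠ rt 12 ∧
      (rt 18 : Fin chevD4.nroots) ≠ rt 13 := by decide +kernel
  have e : ([rt 12, rt 13, rt 18].map fun r => C.G.xu r (v r)).prod =
      ([rt 12, rt 13, rt 18].map fun r => C.G.xu r (u r)).prod := by
    simp only [List.map_cons, List.map_nil, List.prod_cons, List.prod_nil, mul_one, v, if_true,
      if_neg hne.1, if_neg hne.2.1, if_neg hne.2.2]
    refine Eq.trans ?_ h
    exact ((Commute.mul_right (c2 _ _) (c1 _ _)).eq.trans (mul_assoc _ _ _)).symm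
  have e1 := C.normal_inj (L_one θ) v u e (r := rt 12) (by simp)
  have e2 := C.normal_inj (L_one θ) v u e (r := rt 13) (by simp)
  simp only [v, if_true, if_neg hne.1] at e1 e2
  refine ⟨u (rt 18), ?_⟩
  simp only [List.map_cons, List.map_nil, List.prod_cons, List.prod_nil, mul_one, x3, e2, ← e1]
  rw [← mul_assoc, ← (c3 _ _).eq, mul_assoc, ← (c2 _ _).eq, ← mul_assoc, ← (c1 _ _).eq]

theorem fixed_params {c : Fin chevD4.rank → Kˣ} (hc : (twist θ).σT c = c) :
    θ (c (nd 1) : K) = (c (nd 1) : K) ∧ (c (nd 2) : K) = θ (c (nd 0) : K) ∧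
      (c (nd 3) : K) = θ (θ (c (nd 0) : K)) := by
  have key : ∀ j : Fin chevD4.rank, (c ((twist θ).node j) : K) = θ (c j : K) := by
    intro j
    have := congrArg Units.val (congrFun hc ((twist θ).node j))
    simp only [Twist.σT, Equiv.symm_apply_apply] at this
    exact this.symm
  have hn : ∀ i j : Fin chevD4.rank, node.get i.val = j.val → (twist θ).node i = j := fun i j h =>
    Fin.ext ((node_eq θ i).trans h)
  have a1 := key (nd 1); have a0 := key (nd 0); have a2 := key (nd 2)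
  rw [hn _ (nd 1) (by decide +kernel)] at a1
  rw [hn _ (nd 2) (by decide +kernel)] at a0
  rw [hn _ (nd 3) (by decide +kernel)] at a2
  exact ⟨a1.symm, a0, by rw [a2, a0]⟩

/-- the parameters of the torus -/
noncomputable def par (a b : Kˣ) : Fin chevD4.rank → Kˣ := fun j =>
  if j = nd 1 then a else if j = nd 0 then b else
    if j = nd 2 then Units.map θ.toMonoidHom b else Units.map θ.toMonoidHom (Units.map θ.toMonoidHom b)

theorem par_fixed (h3 : ∀ t : K, θ (θ (θ t)) = t) {a b : Kˣ} (ha : θ (a : K) = a) :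
    (twist θ).σT (par θ a b) = par θ a b := by
  funext j
  obtain ⟨i, rfl⟩ := (twist θ).node.surjective j
  simp only [Twist.σT, Equiv.symm_apply_apply]
  apply Units.ext
  show θ ((par θ a b i : Kˣ) : K) = _
  have hi : ∀ i : Fin chevD4.rank, i = nd 0 ∨ i = nd 1 ∨ i = nd 2 ∨ i = nd 3 := by decide +kernel
  have hn : ∀ i j : Fin chevD4.rank, node.get i.val = j.val → (twist θ).node i = j := fun i j h =>
    Fin.ext ((node_eq θ i).trans h)
  have hne : (nd 0 : Fin chevD4.rank) ≠ nd 1 ∧ (nd 2 : Fin chevD4.rank) ≠ nd 1 ∧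
      (nd 3 : Fin chevD4.rank) ≠ nd 1 ∧ (nd 2 : Fin chevD4.rank) ≠ nd 0 ∧
      (nd 3 : Fin chevD4.rank) ≠ nd 0 ∧ (nd 3 : Fin chevD4.rank) ≠ nd 2 := by decide +kernel
  obtain ⟨d1, d2, d3, d4, d5, d6⟩ := hne
  rcases hi i with rfl | rfl | rfl | rfl
  · rw [hn _ (nd 2) (by decide +kernel)]; simp [par, d1, d2, d4]
  · rw [hn _ (nd 1) (by decide +kernel)]; simp [par, ha]
  · rw [hn _ (nd 3) (by decide +kernel)]; simp [par, d2, d3, d4, d5, d6]
  · rw [hn _ (nd 0) (by decide +kernel)]; simp [par, d1, d3, d5, d6, h3]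

theorem ker_sq {z : Fin chevD4.rank → Kˣ} (hz : C.G.torθ z = 1) : z * z = 1 := by
  have hM : ∀ i j : Fin chevD4.rank, ∑ l,
      (([[2, 2, 1, 1], [2, 4, 2, 2], [1, 2, 2, 1], [1, 2, 1, 2]] : List (List ℤ)).getD i.val []).getD l.val 0 *
        cmat chevD4 j l = if j = i then (2 : ℤ) else 0 := by decide +kernel
  funext i
  have := C.G.ker_pow _ hM hz i
  rwa [zpow_two] at this

theorem σT_three (h3 : ∀ t : K, θ (θ (θ t)) = t) (c : Fin chevD4.rank → Kˣ) :
    (twist θ).σT ((twist θ).σT ((twist θ).σT c)) = c := by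
  funext j
  apply Units.ext
  simp only [Twist.σT]
  show θ (θ (θ _)) = _
  have hn : ∀ i : Fin chevD4.rank, node.get (node.get (node.get i.val)) = i.val := by decide +kernel
  have e : (twist θ).node ((twist θ).node ((twist θ).node j)) = j := Fin.ext (hn j)
  rw [h3]
  congr 2
  rw [Equiv.symm_apply_eq, Equiv.symm_apply_eq, Equiv.symm_apply_eq]
  exact e.symm

theorem hd_par (a b : Kˣ) : C.G.torθ (par θ a b) =
    C.G.hd (rt 14) a * (C.G.hd (rt 18) b * C.G.hd (rt 13) (Units.map θ.toMonoidHom b) *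
      C.G.hd (rt 12) (Units.map θ.toMonoidHom (Units.map θ.toMonoidHom b))) := by
  obtain ⟨s0, s1, s2, s3⟩ := simp_rt
  rw [C.G.torθ_eq_prod, show List.finRange chevD4.rank = [nd 0, nd 1, nd 2, nd 3] by decide +kernel]
  have hne : (nd 0 : Fin chevD4.rank) ≠ nd 1 ∧ (nd 2 : Fin chevD4.rank) ≠ nd 1 ∧
      (nd 3 : Fin chevD4.rank) ≠ nd 1 ∧ (nd 2 : Fin chevD4.rank) ≠ nd 0 ∧
      (nd 3 : Fin chevD4.rank) ≠ nd 0 ∧ (nd 3 : Fin chevD4.rank) ≠ nd 2 := by decide +kernel
  obtain ⟨d1, d2, d3, d4, d5, d6⟩ := hne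
  simp only [List.map_cons, List.map_nil, List.prod_cons, List.prod_nil, mul_one, par, if_true,
    if_neg d1, if_neg d2, if_neg d3, if_neg d4, if_neg d5, if_neg d6, s0, s1, s2, s3]
  rw [← mul_assoc, C.G.diagonal_comm (C.G.hd_mem_H (rt 18) b) (C.G.hd_mem_H (rt 14) a)]
  simp only [mul_assoc]

theorem torθ_injective_fixed (h3 : ∀ t : K, θ (θ (θ t)) = t) {c c' : Fin chevD4.rank → Kˣ}
    (hc : (twist θ).σT c = c) (hc' : (twist θ).σT c' = c') (e : C.G.torθ c = C.G.torθ c') : c = c' := by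
  set z := c * c'⁻¹
  have hz : C.G.torθ z = 1 := by rw [map_mul, map_inv, e, mul_inv_cancel]
  have hσi : (twist θ).σT c'⁻¹ = c'⁻¹ := by
    refine eq_inv_of_mul_eq_one_left ?_
    conv_lhs => arg 2; rw [← hc']
    rw [← (twist θ).σT_mul, inv_mul_cancel, (twist θ).σT_one]
  have hfix : (twist θ).σT z = z := by rw [(twist θ).σT_mul, hc, hσi]
  obtain ⟨-, f2, f3⟩ := fixed_params θ hfix
  have h2 := fun i => congrFun (ker_sq hz) i
  have hrow := (C.G.torθ_ker z).1 (MonoidHom.mem_ker.2 hz)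
  have hone : z = 1 := by
    have hi : ∀ i : Fin chevD4.rank, i = nd 0 ∨ i = nd 1 ∨ i = nd 2 ∨ i = nd 3 := by decide +kernel
    have hsq : ∀ i, (z i : K) * (z i : K) = 1 := fun i => by
      rw [← Units.val_mul, show z i * z i = 1 from h2 i, Units.val_one]
    -- the value at the outer node is a square root of one, hence fixed by the automorphism
    have hpm : ∀ i, θ (z i : K) = (z i : K) := fun i => by
      rcases mul_self_eq_one_iff.1 (hsq i) with h | h <;> rw [h] <;> simp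
    have e02 : z (nd 2) = z (nd 0) := Units.ext (by rw [f2, hpm])
    have e03 : z (nd 3) = z (nd 0) := Units.ext (by rw [f3, hpm, hpm])
    have hu : (Finset.univ : Finset (Fin chevD4.rank)) = {nd 0, nd 1, nd 2, nd 3} := by decide +kernel
    have hc0 : cmat chevD4 (nd 0) (nd 0) = 2 ∧ cmat chevD4 (nd 1) (nd 0) = -1 ∧
        cmat chevD4 (nd 2) (nd 0) = 0 ∧ cmat chevD4 (nd 3) (nd 0) = 0 ∧
        cmat chevD4 (nd 0) (nd 1) = -1 ∧ cmat chevD4 (nd 1) (nd 1) = 2 ∧
        cmat chevD4 (nd 2) (nd 1) = -1 ∧ cmat chevD4 (nd 3) (nd 1) = -1 := by decide +kernel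
    obtain ⟨a0, a1, a2, a3, b0, b1, b2, b3⟩ := hc0
    have r0 := hrow (nd 0); have r1 := hrow (nd 1)
    have hd : (nd 0 : Fin chevD4.rank) ∉ ({nd 1, nd 2, nd 3} : Finset _) ∧
        (nd 1 : Fin chevD4.rank) ∉ ({nd 2, nd 3} : Finset _) ∧
        (nd 2 : Fin chevD4.rank) ∉ ({nd 3} : Finset _) := by decide +kernel
    rw [hu, Finset.prod_insert hd.1, Finset.prod_insert hd.2.1, Finset.prod_insert hd.2.2,
      Finset.prod_singleton] at r0 r1
    simp only [a0, a1, a2, a3, b0, b1, b2, b3, e02, e03, zpow_two, zpow_neg_one, zpow_zero, mul_one,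
      show ∀ i, z i * z i = 1 from h2, one_mul, inv_eq_one] at r0 r1
    have sq0 : z (nd 0) * z (nd 0) = 1 := h2 _
    rw [← mul_inv, sq0, inv_one, mul_one, inv_eq_one] at r1
    funext i
    rcases hi i with rfl | rfl | rfl | rfl
    exacts [r1, r0, e02.trans r1, e03.trans r1]
  exact mul_inv_eq_one.1 hone

end TD4

end CfsgLib.Lie.Chev
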