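import Cfsg.Agent.Lib.Lie.Chev.Tw.Emb
import Cfsg.Agent.Lib.Lie.Chev.GoodE6

/-!
Intertwiner tables for type E6.
-/

set_option autoImplicit false
set_option maxRecDepth 100000

namespace CfsgLib.Lie.Chev

/-- the intertwiner for the node permutation [5, 1, 4, 3, 2, 0] of type E6 -/
noncomputable def graphE6 : EmbData where
  m := 0
  tgt := (.node 39 (.node 19 (.node 9 (.node 4 (.node 2 (.node 1 (.leaf 6) (.leaf 2)) (.node 3 (.leaf 5) (.leaf 4))) (.node 6 (.node 5 (.leaf 3) (.leaf 1)) (.node 7 (.leaf 7) (.node 8 (.leaf 8) (.leaf 9))))) (.node 14 (.node 11 (.node 10 (.leaf 12) (.leaf 23)) (.node 12 (.leaf 10) (.node 13 (.leaf 13) (.leaf 24)))) (.node 16 (.node 15 (.leaf 15) (.leaf 26)) (.node 17 (.leaf 29) (.node 18 (.leaf 18) (.leaf 33)))))) (.node 29 (.node 24 (.node 21 (.node 20 (.leaf 37) (.leaf 40)) (.node 22 (.leaf 42) (.node 23 (.leaf 11) (.leaf 14)))) (.node 26 (.node 25 (.leaf 25) (.leaf 16)) (.node 27 (.leaf 27) (.node 28 (.leaf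 30) (.leaf 17))))) (.node 34 (.node 31 (.node 30 (.leaf 28) (.leaf 31)) (.node 32 (.leaf 32) (.node 33 (.leaf 19) (.leaf 34)))) (.node 36 (.node 35 (.leaf 38) (.leaf 41)) (.node 37 (.leaf 20) (.node 38 (.leaf 35) (.leaf 39))))))) (.node 58 (.node 48 (.node 43 (.node 41 (.node 40 (.leaf 21) (.leaf 36)) (.node 42 (.leaf 22) (.leaf 63))) (.node 45 (.node 44 (.leaf 49) (.leaf 64)) (.node 46 (.leaf 46) (.node 47 (.leaf 50) (.leaf 65))))) (.node 53 (.node 50 (.node 49 (.leaf 44) (.leaf 47)) (.node 51 (.leaf 51) (.node 52 (.leaf 66) (.leaf 53)))) (.node 55 (.node 54 (.leaf 54) (.leaf 57)) (.node 56 (.leaf 68) (.node 57 (.leaf 55) (.leaf 58)))))) (.node 68 (.node 63 (.node 60 (.node 59 (.leaf 69) (.leaf 60)) (.node 61 (.leaf 71) (.node 62 (.leaf 74) (.leaf 43)))) (.node 65 (.node 64 (.leaf 45) (.leaf 48)) (.node 66 (.leaf 52) (.node 67 (.leaf 67) (.leaf 56))))) (.node 73 (.node 70 (.node 69 (.leaf 59) (.leaf 70)) (.node 71 (.leaf 61) (.node 72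 (.leaf 72) (.leaf 75)))) (.node 75 (.node 74 (.leaf 62) (.leaf 73)) (.node 76 (.leaf 76) (.node 77 (.leaf 77) (.leaf 78))))))))
  src := (.node 39 (.node 19 (.node 9 (.node 4 (.node 2 (.node 1 (.leaf 6) (.leaf 2)) (.node 3 (.leaf 5) (.leaf 4))) (.node 6 (.node 5 (.leaf 3) (.leaf 1)) (.node 7 (.leaf 7) (.node 8 (.leaf 8) (.leaf 9))))) (.node 14 (.node 11 (.node 10 (.leaf 12) (.leaf 23)) (.node 12 (.leaf 10) (.node 13 (.leaf 13) (.leaf 24)))) (.node 16 (.node 15 (.leaf 15) (.leaf 26)) (.node 17 (.leaf 29) (.node 18 (.leaf 18) (.leaf 33)))))) (.node 29 (.node 24 (.node 21 (.node 20 (.leaf 37) (.leaf 40)) (.node 22 (.leaf 42) (.node 23 (.leaf 11) (.leaf 14)))) (.node 26 (.node 25 (.leaf 25) (.leaf 16)) (.node 27 (.leaf 27) (.node 28 (.leaf 30) (.leaf 17))))) (.node 34 (.node 31 (.node 30 (.leaf 28) (.leaf 31)) (.node 32 (.leaf 32) (.node 33 (.leaf 19) (.leaf 34)))) (.node 36 (.node 35 (.leaf 38) (.leaf 41)) (.node 37 (.leaf 20) (.node 38 (.leaf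 35) (.leaf 39))))))) (.node 58 (.node 48 (.node 43 (.node 41 (.node 40 (.leaf 21) (.leaf 36)) (.node 42 (.leaf 22) (.leaf 63))) (.node 45 (.node 44 (.leaf 49) (.leaf 64)) (.node 46 (.leaf 46) (.node 47 (.leaf 50) (.leaf 65))))) (.node 53 (.node 50 (.node 49 (.leaf 44) (.leaf 47)) (.node 51 (.leaf 51) (.node 52 (.leaf 66) (.leaf 53)))) (.node 55 (.node 54 (.leaf 54) (.leaf 57)) (.node 56 (.leaf 68) (.node 57 (.leaf 55) (.leaf 58)))))) (.node 68 (.node 63 (.node 60 (.node 59 (.leaf 69) (.leaf 60)) (.node 61 (.leaf 71) (.node 62 (.leaf 74) (.leaf 43)))) (.node 65 (.node 64 (.leaf 45) (.leaf 48)) (.node 66 (.leaf 52) (.node 67 (.leaf 67) (.leaf 56))))) (.node 73 (.node 70 (.node 69 (.leaf 59) (.leaf 70)) (.node 71 (.leaf 61) (.node 72 (.leaf 72) (.leaf 75)))) (.node 75 (.node 74 (.leaf 62) (.leaf 73)) (.node 76 (.leaf 76) (.node 77 (.leaf 77) (.leaf 78))))))))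
  neg := (.node 39 (.node 19 (.node 9 (.node 4 (.node 2 (.node 1 (.leaf false) (.leaf false)) (.node 3 (.leaf false) (.leaf false))) (.node 6 (.node 5 (.leaf false) (.leaf false)) (.node 7 (.leaf false) (.node 8 (.leaf false) (.leaf false))))) (.node 14 (.node 11 (.node 10 (.leaf false) (.leaf true)) (.node 12 (.leaf false) (.node 13 (.leaf false) (.leaf true)))) (.node 16 (.node 15 (.leaf false) (.leaf true)) (.node 17 (.leaf true) (.node 18 (.leaf false) (.leaf true)))))) (.node 29 (.node 24 (.node 21 (.node 20 (.leaf false) (.leaf true)) (.node 22 (.leaf false) (.node 23 (.leaf true) (.leaf true)))) (.node 26 (.node 25 (.leaf false) (.leaf true)) (.node 27 (.leaf false) (.node 28 (.leaf false) (.leaf true))))) (.node 34 (.node 31 (.node 30 (.leaf false) (.leaf false)) (.node 32 (.leaf false) (.node 33 (.leaf true) (.leaf false)))) (.node 36 (.node 35 (.leaf true) (.leaf false)) (.node 37 (.leaf false) (.node 38 (.leaf true) (.leaf false)))))))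 (.node 58 (.node 48 (.node 43 (.node 41 (.node 40 (.leaf true) (.leaf false)) (.node 42 (.leaf false) (.leaf false))) (.node 45 (.node 44 (.leaf false) (.leaf true)) (.node 46 (.leaf false) (.node 47 (.leaf true) (.leaf false))))) (.node 53 (.node 50 (.node 49 (.leaf false) (.leaf true)) (.node 51 (.leaf false) (.node 52 (.leaf true) (.leaf false)))) (.node 55 (.node 54 (.leaf false) (.leaf false)) (.node 56 (.leaf true) (.node 57 (.leaf false) (.leaf false)))))) (.node 68 (.node 63 (.node 60 (.node 59 (.leaf true) (.leaf false)) (.node 61 (.leaf true) (.node 62 (.leaf true) (.leaf false)))) (.node 65 (.node 64 (.leaf true) (.leaf false)) (.node 66 (.leaf true) (.node 67 (.leaf false) (.leaf true))))) (.node 73 (.node 70 (.node 69 (.leaf true) (.leaf false)) (.node 71 (.leaf true) (.node 72 (.leaf false) (.leaf false)))) (.node 75 (.node 74 (.leaf true) (.leaf false)) (.node 76 (.leaf false) (.node 77 (.leaf false) (.leaf false))))))))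
  p := (.node 36 (.node 18 (.node 9 (.node 4 (.node 2 (.node 1 (.leaf 0) (.leaf 1)) (.node 3 (.leaf 2) (.leaf 5))) (.node 6 (.node 5 (.leaf 16) (.leaf 3)) (.node 7 (.leaf 6) (.node 8 (.leaf 17) (.leaf 8))))) (.node 13 (.node 11 (.node 10 (.leaf 19) (.leaf 22)) (.node 12 (.leaf 11) (.leaf 26))) (.node 15 (.node 14 (.leaf 30) (.leaf 33)) (.node 16 (.leaf 35) (.node 17 (.leaf 4) (.leaf 7)))))) (.node 27 (.node 22 (.node 20 (.node 19 (.leaf 18) (.leaf 9)) (.node 21 (.leaf 20) (.leaf 23))) (.node 24 (.node 23 (.leaf 10) (.leaf 21)) (.node 25 (.leaf 24) (.node 26 (.leaf 25) (.leaf 12))))) (.node 31 (.node 29 (.node 28 (.leaf 27) (.leaf 31)) (.node 30 (.leaf 34) (.leaf 13))) (.node 33 (.node 32 (.leaf 28) (.leaf 32)) (.node 34 (.leaf 14) (.node 35 (.leaf 29) (.leaf 15))))))) (.node 54 (.node 45 (.node 40 (.node 38 (.node 37 (.leaf 56) (.leaf 42)) (.node 39 (.leaf 57) (.leaf 39))) (.node 42 (.node 41 (.leaf 43) (.leaf 58)) (.node 43 (.leaf 37)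 (.node 44 (.leaf 40) (.leaf 44))))) (.node 49 (.node 47 (.node 46 (.leaf 59) (.leaf 46)) (.node 48 (.leaf 47) (.leaf 50))) (.node 51 (.node 50 (.leaf 61) (.leaf 48)) (.node 52 (.leaf 51) (.node 53 (.leaf 62) (.leaf 53)))))) (.node 63 (.node 58 (.node 56 (.node 55 (.leaf 64) (.leaf 67)) (.node 57 (.leaf 36) (.leaf 38))) (.node 60 (.node 59 (.leaf 41) (.leaf 45)) (.node 61 (.leaf 60) (.node 62 (.leaf 49) (.leaf 52))))) (.node 67 (.node 65 (.node 64 (.leaf 63) (.leaf 54)) (.node 66 (.leaf 65) (.leaf 68))) (.node 69 (.node 68 (.leaf 55) (.leaf 66)) (.node 70 (.leaf 69) (.node 71 (.leaf 70) (.leaf 71))))))))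
  lam := (.node 36 (.node 18 (.node 9 (.node 4 (.node 2 (.node 1 (.leaf 1) (.leaf 1)) (.node 3 (.leaf 1) (.leaf 1))) (.node 6 (.node 5 (.leaf 1) (.leaf 1)) (.node 7 (.leaf 1) (.node 8 (.leaf 1) (.leaf 1))))) (.node 13 (.node 11 (.node 10 (.leaf 1) (.leaf 1)) (.node 12 (.leaf 1) (.leaf 1))) (.node 15 (.node 14 (.leaf 1) (.leaf 1)) (.node 16 (.leaf 1) (.node 17 (.leaf 1) (.leaf 1)))))) (.node 27 (.node 22 (.node 20 (.node 19 (.leaf 1) (.leaf 1)) (.node 21 (.leaf 1) (.leaf 1))) (.node 24 (.node 23 (.leaf 1) (.leaf 1)) (.node 25 (.leaf 1) (.node 26 (.leaf 1) (.leaf 1))))) (.node 31 (.node 29 (.node 28 (.leaf 1) (.leaf 1)) (.node 30 (.leaf 1) (.leaf 1))) (.node 33 (.node 32 (.leaf 1) (.leaf 1)) (.node 34 (.leaf 1) (.node 35 (.leaf 1) (.leaf 1))))))) (.node 54 (.node 45 (.node 40 (.node 38 (.node 37 (.leaf 1) (.leaf 1)) (.node 39 (.leaf 1) (.leaf 1))) (.node 42 (.node 41 (.leaf 1) (.leaf 1)) (.node 43 (.leaf 1) (.node 44 (.leaf 1) (.leaf 1)))))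 (.node 49 (.node 47 (.node 46 (.leaf 1) (.leaf 1)) (.node 48 (.leaf 1) (.leaf 1))) (.node 51 (.node 50 (.leaf 1) (.leaf 1)) (.node 52 (.leaf 1) (.node 53 (.leaf 1) (.leaf 1)))))) (.node 63 (.node 58 (.node 56 (.node 55 (.leaf 1) (.leaf 1)) (.node 57 (.leaf 1) (.leaf 1))) (.node 60 (.node 59 (.leaf 1) (.leaf 1)) (.node 61 (.leaf 1) (.node 62 (.leaf 1) (.leaf 1))))) (.node 67 (.node 65 (.node 64 (.leaf 1) (.leaf 1)) (.node 66 (.leaf 1) (.leaf 1))) (.node 69 (.node 68 (.leaf 1) (.leaf 1)) (.node 70 (.leaf 1) (.node 71 (.leaf 1) (.leaf 1))))))))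
  eps := (.node 36 (.node 18 (.node 9 (.node 4 (.node 2 (.node 1 (.leaf false) (.leaf false)) (.node 3 (.leaf false) (.leaf false))) (.node 6 (.node 5 (.leaf true) (.leaf false)) (.node 7 (.leaf false) (.node 8 (.leaf true) (.leaf false))))) (.node 13 (.node 11 (.node 10 (.leaf true) (.leaf true)) (.node 12 (.leaf false) (.leaf true))) (.node 15 (.node 14 (.leaf false) (.leaf true)) (.node 16 (.leaf false) (.node 17 (.leaf true) (.leaf true)))))) (.node 27 (.node 22 (.node 20 (.node 19 (.leaf false) (.leaf true)) (.node 21 (.leaf false) (.leaf false))) (.node 24 (.node 23 (.leaf true) (.leaf false)) (.node 25 (.leaf false) (.node 26 (.leaf false) (.leaf true))))) (.node 31 (.node 29 (.node 28 (.leaf false) (.leaf true)) (.node 30 (.leaf false) (.leaf false))) (.node 33 (.node 32 (.leaf true) (.leaf false)) (.node 34 (.leaf true) (.node 35 (.leaf false) (.leaf false))))))) (.node 54 (.node 45 (.node 40 (.node 38 (.node 37 (.leaf false)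 (.leaf false)) (.node 39 (.leaf true) (.leaf false))) (.node 42 (.node 41 (.leaf true) (.leaf false)) (.node 43 (.leaf false) (.node 44 (.leaf true) (.leaf false))))) (.node 49 (.node 47 (.node 46 (.leaf true) (.leaf false)) (.node 48 (.leaf false) (.leaf false))) (.node 51 (.node 50 (.leaf true) (.leaf false)) (.node 52 (.leaf false) (.node 53 (.leaf true) (.leaf false)))))) (.node 63 (.node 58 (.node 56 (.node 55 (.leaf true) (.leaf true)) (.node 57 (.leaf false) (.leaf true))) (.node 60 (.node 59 (.leaf false) (.leaf true)) (.node 61 (.leaf false) (.node 62 (.leaf true) (.leaf true))))) (.node 67 (.node 65 (.node 64 (.leaf false) (.leaf true)) (.node 66 (.leaf false) (.leaf false))) (.node 69 (.node 68 (.leaf true) (.leaf false)) (.node 70 (.leaf false) (.node 71 (.leaf false) (.leaf false))))))))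

theorem chk_graphE6 : chkEmb Cfsg.Lie.chevE6 fastE6 graphE6 = true := by decide +kernel

theorem emb_graphE6 : Emb goodE6 fastE6 graphE6 := ⟨checksE6, chk_graphE6⟩

end CfsgLib.Lie.Chev
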