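import Cfsg.Agent.Lib.Lie.Chev.Tw.Tools2
import Cfsg.Agent.Lib.Lie.Chev.Tw.DataE6
import Cfsg.Agent.Lib.Lie.Chev.Tw.OrbGraphE6
import Cfsg.Agent.Lib.Lie.Chev.CommE6
import Cfsg.Agent.Lib.Lie.Chev.CoxF4
import Cfsg.Prelude.Def_LieTwisted

/-!
# The groups of type ²E₆
-/

set_option autoImplicit false
set_option maxRecDepth 100000

namespace CfsgLib.Lie.Chev

open Cfsg.Lie
open scoped MatrixGroups

namespace TE6

/-- the verified datum -/
noncomputable def C : Full chevE6 := ⟨goodE6, fastE6, rowsOK chkRows_E6, chkComm_E6⟩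

theorem emb : Emb C.G fastE6 graphE6 := emb_graphE6

/-- the permutation of the nodes -/
def node : Tree ℕ :=
  .node 3 (.node 1 (.leaf 5) (.node 2 (.leaf 1) (.leaf 4))) (.node 4 (.leaf 3) (.node 5 (.leaf 2) (.leaf 0)))

theorem chk : chkTwist chevE6 fastE6 graphE6 node = true := by decide +kernel

theorem lam_one : ∀ r : Fin chevE6.nroots, graphE6.lam.get r.val = 1 := by decide +kernel

/-- a root index -/
def rt (i : ℕ) (h : i < chevE6.nroots := by decide +kernel) : Fin chevE6.nroots := ⟨i, h⟩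

/-- a node index -/
def nd (i : ℕ) (h : i < chevE6.rank := by decide +kernel) : Fin chevE6.rank := ⟨i, h⟩

variable {K : Type*} [Field K]

theorem inj : Function.Injective (emb.rtgt (K := K) (hm := Nat.cast_zero)) :=
  emb.rtgt_injective_of_all _ (fun a => by revert a; decide +kernel)

/-- the twist for a field automorphism -/
noncomputable def twist (θ : K ≃+* K) : Twist C.G K :=
  emb.mkTwist chk Nat.cast_zero inj θ (fun _ => θ) fun r x => by rw [lam_one, pow_one]

/-- the orbits -/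
noncomputable def orbits (θ : K ≃+* K) : Orbits C.G (twist θ).p (Fin orbGraphE6.no) :=
  orbGraphE6.orbits checksE6 chkOrb_graphE6 _ fun r => by
    show graphE6.p.get r.val = _
    revert r; decide +kernel

variable (θ : K ≃+* K)

theorem p_eq {r s : Fin chevE6.nroots} (h : graphE6.p.get r.val = s.val) : (twist θ).p r = s :=
  Fin.ext h

theorem eps_one {r : Fin chevE6.nroots} (h : graphE6.eps.get r.val = false) :
    (twist θ).eps r = 1 := by
  show (sgnB (graphE6.eps.get r.val) : K) = 1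
  rw [h]; simp [sgnB]

theorem σ_eq (r : Fin chevE6.nroots) (x : K) : (twist θ).σ r x = θ x := rfl

theorem node_eq : ∀ j : Fin chevE6.rank, ((twist θ).node j).val = node.get j.val := fun _ => rfl

theorem negr_rt : C.G.negr (rt 46) = rt 25 ∧ C.G.negr (rt 39) = rt 32 ∧ C.G.negr (rt 42) = rt 29 ∧
    C.G.negr (rt 37) = rt 34 ∧ C.G.negr (rt 56) = rt 15 ∧ C.G.negr (rt 36) = rt 35 := by
  refine ⟨?_, ?_, ?_, ?_, ?_, ?_⟩ <;> refine Fin.ext ((C.G.negr_val _).trans ?_) <;> decide +kernel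

theorem simp_rt : C.G.simp' (nd 0) = rt 56 ∧ C.G.simp' (nd 1) = rt 46 ∧ C.G.simp' (nd 2) = rt 42 ∧
    C.G.simp' (nd 3) = rt 39 ∧ C.G.simp' (nd 4) = rt 37 ∧ C.G.simp' (nd 5) = rt 36 := by
  refine ⟨?_, ?_, ?_, ?_, ?_, ?_⟩ <;> refine Fin.ext ((C.G.simp_val _).trans ?_) <;> decide +kernel

theorem orth_pairs : C.Orth (rt 42) (rt 37) ∧ C.Orth (rt 56) (rt 36) := by
  have h : ∀ r ∈ [(42, 37), (56, 36)], ∀ a ∈ [r.1, chevE6.neg r.1],
      ∀ b ∈ [r.2, chevE6.neg r.2], b ≠ a ∧ b ≠ chevE6.neg a ∧ chevE6.commTerms a b = [] := by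
    decide +kernel
  have key : ∀ x y : Fin chevE6.nroots, (x.val, y.val) ∈ [(42, 37), (56, 36)] → C.Orth x y := by
    intro x y hxy a ha b hb
    obtain ⟨h1, h2, h3⟩ := h _ hxy a.val (by
      simp only [List.mem_cons, List.not_mem_nil, or_false] at ha ⊢
      rcases ha with rfl | rfl
      exacts [Or.inl rfl, Or.inr (C.G.negr_val x)]) b.val (by
      simp only [List.mem_cons, List.not_mem_nil, or_false] at hb ⊢
      rcases hb with rfl | rfl
      exacts [Or.inl rfl, Or.inr (C.G.negr_val y)])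
    exact ⟨fun e => h1 (congrArg Fin.val e),
      fun e => h2 ((congrArg Fin.val e).trans (C.G.negr_val a)), h3⟩
  exact ⟨key _ _ (by simp [rt]), key _ _ (by simp [rt])⟩

/-- the positive roots moved by the orbits -/
def L : Fin orbGraphE6.no → List (Fin chevE6.nroots) := fun o =>
  if o.val = 0 then [rt 46] else if o.val = 1 then [rt 39] else
    if o.val = 2 then [rt 37, rt 42] else [rt 36, rt 56]

theorem L_spec : ∀ o : Fin orbGraphE6.no, ((List.range chevE6.nroots).filter fun r =>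
    decide (chevE6.nroots / 2 ≤ r) && decide (digit (orbGraphE6.tab.get o.val) r < chevE6.nroots / 2)) =
    (L o).map Fin.val := by decide +kernel

theorem wO_val (o : Fin orbGraphE6.no) (r : Fin chevE6.nroots) :
    ((orbits θ).wO o r).val = digit (orbGraphE6.tab.get o.val) r.val := by
  show (C.G.pw (orbGraphE6.wl chevE6 o) r).val = _
  rw [C.G.pw_val checksE6, OrbData.wl_val chkOrb_graphE6]
  exact ((OrbData.spec chkOrb_graphE6 o.val o.isLt).2.2.2.1 r.val r.isLt).symm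

theorem L_eq (o : Fin orbGraphE6.no) : (List.finRange chevE6.nroots).filter (fun r =>
    decide (chevE6.IsPosRoot r.val ∧ ¬ chevE6.IsPosRoot ((orbits θ).wO o r).val)) = L o := by
  refine List.map_injective_iff.2 Fin.val_injective ?_
  rw [← L_spec o, ← List.map_coe_finRange_eq_range, List.filter_map]
  congr 1
  refine List.filter_congr fun r _ => ?_
  rw [Function.comp_apply, ← wO_val θ]
  simp only [C.G.pos_iff_half, not_le, Bool.decide_and]

/-- the element of a double orbit -/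
noncomputable def x2 (a b : Fin chevE6.nroots) (t : K) : GL chevE6.Idx K :=
  C.G.xu a t * C.G.xu b (θ t)

theorem x2_fix (h2 : ∀ t : K, θ (θ t) = t) {a b : Fin chevE6.nroots}
    (hd : graphE6.p.get a.val = b.val ∧ graphE6.p.get b.val = a.val ∧
      graphE6.eps.get a.val = false ∧ graphE6.eps.get b.val = false)
    (hcomm : ∀ t u : K, Commute (C.G.xu a t) (C.G.xu b u)) (t : K) :
    x2 θ a b t ∈ (twist θ).Fix := by
  obtain ⟨e1, e2, e3, e4⟩ := hd
  have h := (twist θ).mem_Fix_list [(a, t), (b, θ t)] (by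
    simp only [List.map_cons, List.map_nil, List.prod_cons, List.prod_nil, mul_one,
      p_eq θ e1, p_eq θ e2, eps_one θ e3, eps_one θ e4, σ_eq, one_mul, h2]
    exact (hcomm t (θ t)).eq.symm)
  simpa [x2] using h

section

variable {q : ℕ} (hθ : ∀ x, θ x = x ^ q)

include hθ

theorem single_mem {t : K} (ht : θ t = t) :
    C.G.xu (rt 46) t ∈ twistedE6 K q ∧ C.G.xu (rt 25) t ∈ twistedE6 K q ∧
      C.G.xu (rt 39) t ∈ twistedE6 K q ∧ C.G.xu (rt 32) t ∈ twistedE6 K q := by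
  have key : ∀ r : Fin chevE6.nroots, r.val ∈ [e6p2, e6m2, e6p4, e6m4] →
      C.G.xu r t ∈ twistedE6 K q := fun r hr => by
    have h := C.G.mem_gen (S := e6Words K q) [(r, t)]
      (Or.inl ⟨t, (hθ t).symm.trans ht, r.val, hr, rfl⟩)
    simpa [twistedE6] using h
  refine ⟨key _ ?_, key _ ?_, key _ ?_, key _ ?_⟩ <;> decide +kernel

theorem pair_mem (t : K) :
    x2 θ (rt 42) (rt 37) t ∈ twistedE6 K q ∧ x2 θ (rt 29) (rt 34) t ∈ twistedE6 K q ∧
      x2 θ (rt 56) (rt 36) t ∈ twistedE6 K q ∧ x2 θ (rt 15) (rt 35) t ∈ twistedE6 K q := by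
  have key : ∀ a b : Fin chevE6.nroots,
      (a.val, b.val) ∈ [(e6p1, e6p6), (e6m1, e6m6), (e6p3, e6p5), (e6m3, e6m5)] →
      x2 θ a b t ∈ twistedE6 K q := fun a b hab => by
    have h := C.G.mem_gen (S := e6Words K q) [(a, t), (b, θ t)]
      (Or.inr ⟨t, _, hab, by simp [hθ]⟩)
    simpa [twistedE6, x2] using h
  refine ⟨key _ _ ?_, key _ _ ?_, key _ _ ?_, key _ _ ?_⟩ <;> decide +kernel

theorem le_Fix (h2 : ∀ t : K, θ (θ t) = t) : twistedE6 K q ≤ (twist θ).Fix := by
  obtain ⟨o1, o2⟩ := orth_pairs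
  obtain ⟨-, -, n3, n4, n5, n6⟩ := negr_rt
  refine C.G.gen_le fun w hw => ?_
  rcases hw with ⟨t, ht, r, hr, rfl⟩ | ⟨t, rs, hrs, rfl⟩
  · have hd : ∀ r ∈ [e6p2, e6m2, e6p4, e6m4], r < chevE6.nroots ∧ graphE6.p.get r = r ∧
        graphE6.eps.get r = false := by decide +kernel
    obtain ⟨h1, h2', h3'⟩ := hd r hr
    refine ⟨[(⟨r, h1⟩, t)], rfl, (twist θ).mem_Fix_list _ ?_⟩
    simp [p_eq θ (r := ⟨r, h1⟩) (s := ⟨r, h1⟩) h2', eps_one θ (r := ⟨r, h1⟩) h3', σ_eq, hθ, ht]
  · have key : ∀ a b : Fin chevE6.nroots, graphE6.p.get a.val = b.val ∧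
        graphE6.p.get b.val = a.val ∧ graphE6.eps.get a.val = false ∧
        graphE6.eps.get b.val = false → (∀ t u : K, Commute (C.G.xu a t) (C.G.xu b u)) →
        ∃ l : List (Fin chevE6.nroots × K),
          [(a.val, t), (b.val, t ^ q)] = l.map (fun p => (p.1.val, p.2)) ∧
          (l.map fun p => C.G.xu p.1 p.2).prod ∈ (twist θ).Fix := fun a b hd hc =>
      ⟨[(a, t), (b, θ t)], by simp [hθ], by simpa [x2] using x2_fix θ h2 hd hc t⟩
    simp only [List.mem_cons, List.not_mem_nil, or_false] at hrs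
    rcases hrs with rfl | rfl | rfl | rfl
    · exact key (rt 56) (rt 36) (by decide +kernel) fun t u => C.orth_commute o2 (by simp) (by simp) t u
    · exact key (rt 15) (rt 35) (by decide +kernel)
        fun t u => C.orth_commute o2 (by simp [n5]) (by simp [n6]) t u
    · exact key (rt 42) (rt 37) (by decide +kernel) fun t u => C.orth_commute o1 (by simp) (by simp) t u
    · exact key (rt 29) (rt 34) (by decide +kernel)
        fun t u => C.orth_commute o1 (by simp [n3]) (by simp [n4]) t u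

end

theorem o_cases (o : Fin orbGraphE6.no) : o = ⟨0, by decide +kernel⟩ ∨ o = ⟨1, by decide +kernel⟩ ∨
    o = ⟨2, by decide +kernel⟩ ∨ o = ⟨3, by decide +kernel⟩ := by
  revert o; decide +kernel

theorem X_single {o : Fin orbGraphE6.no} {a : Fin chevE6.nroots} (hL : L o = [a])
    (hp : graphE6.p.get a.val = a.val ∧ graphE6.eps.get a.val = false) {g : GL chevE6.Idx K}
    (hg : g ∈ (twist θ).Fix ⊓ Uinv C.G ((orbits θ).wO o)) : ∃ t, θ t = t ∧ g = C.G.xu a t := by
  obtain ⟨u, rfl⟩ := C.Uinv_normal (C.G.nPerm_nw _) ((L_eq θ o).trans hL) hg.2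
  have h := (twist θ).fix_list (l := [(a, u a)]) (by simpa using hg.1)
  simp only [List.map_cons, List.map_nil, List.prod_cons, List.prod_nil, mul_one, σ_eq] at h
  rw [p_eq θ (r := a) (s := a) hp.1, eps_one θ hp.2, one_mul] at h
  exact ⟨_, C.G.xu_injective _ h, by simp⟩

theorem X_pair {o : Fin orbGraphE6.no} {a b : Fin chevE6.nroots} (hL : L o = [b, a]) (hab : a ≠ b)
    (hd : graphE6.p.get a.val = b.val ∧ graphE6.p.get b.val = a.val ∧
      graphE6.eps.get a.val = false ∧ graphE6.eps.get b.val = false)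
    (hc : ∀ t u : K, Commute (C.G.xu a t) (C.G.xu b u)) {g : GL chevE6.Idx K}
    (hg : g ∈ (twist θ).Fix ⊓ Uinv C.G ((orbits θ).wO o)) : ∃ t, g = x2 θ a b t := by
  obtain ⟨u, rfl⟩ := C.Uinv_normal (C.G.nPerm_nw _) ((L_eq θ o).trans hL) hg.2
  have h := (twist θ).fix_list (l := [(b, u b), (a, u a)]) (by simpa using hg.1)
  simp only [List.map_cons, List.map_nil, List.prod_cons, List.prod_nil, mul_one, σ_eq] at h
  rw [p_eq θ (r := b) (s := a) hd.2.1, p_eq θ (r := a) (s := b) hd.1, eps_one θ hd.2.2.2,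
    eps_one θ hd.2.2.1, one_mul, one_mul] at h
  let v : Fin chevE6.nroots → K := fun r => if r = a then θ (u b) else θ (u a)
  have e : ([b, a].map fun r => C.G.xu r (v r)).prod = ([b, a].map fun r => C.G.xu r (u r)).prod := by
    simp only [List.map_cons, List.map_nil, List.prod_cons, List.prod_nil, mul_one, v, if_true,
      if_neg (Ne.symm hab)]
    exact ((hc _ _).eq.symm).trans h
  have e1 := C.normal_inj ((L_eq θ o).trans hL) v u e (r := b) (by simp)
  simp only [v, if_neg (Ne.symm hab)] at e1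
  refine ⟨u a, ?_⟩
  simp only [List.map_cons, List.map_nil, List.prod_cons, List.prod_nil, mul_one, x2, e1]
  exact ((hc _ _).eq).symm

theorem x2_inj {o : Fin orbGraphE6.no} {a b : Fin chevE6.nroots} (hL : L o = [b, a]) (hab : a ≠ b)
    (hc : ∀ t u : K, Commute (C.G.xu a t) (C.G.xu b u)) {t t' : K}
    (e : x2 θ a b t = x2 θ a b t') : t = t' := by
  let v : K → Fin chevE6.nroots → K := fun t r => if r = a then t else θ t
  have key : ∀ t : K, ([b, a].map fun r => C.G.xu r (v t r)).prod = x2 θ a b t := fun t => by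
    simp only [List.map_cons, List.map_nil, List.prod_cons, List.prod_nil, mul_one, v, if_true,
      if_neg (Ne.symm hab), x2]
    exact (hc _ _).eq.symm
  have := C.normal_inj ((L_eq θ o).trans hL) (v t) (v t') ((key t).trans (e.trans (key t').symm))
    (r := a) (by simp)
  simpa [v] using this

theorem x2_mem_Uinv {o : Fin orbGraphE6.no} {a b : Fin chevE6.nroots} (hL : L o = [b, a]) (t : K) :
    x2 θ a b t ∈ (Uinv C.G ((orbits θ).wO o) : Subgroup (GL chevE6.Idx K)) := by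
  have hs : ∀ (r : Fin chevE6.nroots) (u : K), r ∈ [b, a] →
      C.G.xu r u ∈ (Uinv C.G ((orbits θ).wO o) : Subgroup (GL chevE6.Idx K)) := by
    intro r u hr
    refine Subgroup.subset_closure ⟨r, u, ?_, rfl⟩
    rw [← (L_eq θ o).trans hL] at hr
    simpa using (List.mem_filter.1 hr).2
  exact mul_mem (hs _ _ (by simp)) (hs _ _ (by simp))

theorem xu_mem_Uinv {o : Fin orbGraphE6.no} {a : Fin chevE6.nroots} (hL : L o = [a]) (t : K) :
    C.G.xu a t ∈ (Uinv C.G ((orbits θ).wO o) : Subgroup (GL chevE6.Idx K)) := by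
  simpa using C.normal_mem ((L_eq θ o).trans hL) fun _ => t

theorem x2_ne {a b : Fin chevE6.nroots} (i : chevE6.Idx) (j : chevE6.Idx)
    (h : i ≠ j ∧ (zprod chevE6 [(a, 1), (b, 1)] i j = 1 ∨ zprod chevE6 [(a, 1), (b, 1)] i j = -1)) :
    x2 θ a b (1 : K) ≠ 1 := by
  have := C.G.prod_ne_one (K := K) [(a, 1), (b, 1)] i j h
  simpa [x2] using this

theorem ne_list : x2 θ (rt 42) (rt 37) (1 : K) ≠ 1 ∧ x2 θ (rt 29) (rt 34) (1 : K) ≠ 1 ∧
    x2 θ (rt 56) (rt 36) (1 : K) ≠ 1 ∧ x2 θ (rt 15) (rt 35) (1 : K) ≠ 1 :=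
  ⟨x2_ne θ (Sum.inl (nd 2)) (Sum.inr (rt 29)) (by decide +kernel),
    x2_ne θ (Sum.inl (nd 2)) (Sum.inr (rt 42)) (by decide +kernel),
    x2_ne θ (Sum.inl (nd 0)) (Sum.inr (rt 15)) (by decide +kernel),
    x2_ne θ (Sum.inl (nd 0)) (Sum.inr (rt 56)) (by decide +kernel)⟩

variable {q : ℕ}

theorem pre (hθ : ∀ x, θ x = x ^ q) (h2 : ∀ t : K, θ (θ t) = t) :
    Pre (orbits θ) (twistedE6 K q) where
  le := le_Fix θ hθ h2
  X_le k g hg := by
    obtain ⟨o1, o2⟩ := orth_pairs
    rcases o_cases k with rfl | rfl | rfl | rfl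
    · obtain ⟨t, ht, rfl⟩ := X_single θ (a := rt 46) rfl (by decide +kernel) hg
      exact (single_mem θ hθ ht).1
    · obtain ⟨t, ht, rfl⟩ := X_single θ (a := rt 39) rfl (by decide +kernel) hg
      exact (single_mem θ hθ ht).2.2.1
    · obtain ⟨t, rfl⟩ := X_pair θ (a := rt 42) (b := rt 37) rfl (by decide +kernel) (by decide +kernel)
        (fun t u => C.orth_commute o1 (by simp) (by simp) t u) hg
      exact (pair_mem θ hθ t).1
    · obtain ⟨t, rfl⟩ := X_pair θ (a := rt 56) (b := rt 36) rfl (by decide +kernel) (by decide +kernel)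
        (fun t u => C.orth_commute o2 (by simp) (by simp) t u) hg
      exact (pair_mem θ hθ t).2.2.1
  V_elt k := by
    obtain ⟨n1, n2, n3, n4, n5, n6⟩ := negr_rt
    obtain ⟨s0, s1, s2, s3, s4, s5⟩ := simp_rt
    have hn : ∀ r : Fin chevE6.nroots, r.val < 36 → ∀ t : K,
        C.G.xu r t ∈ chevE6.negUnipotent K := fun r hr t => C.G.xu_mem_V (by
      rw [C.G.isNegRoot_iff_not_pos, C.G.pos_iff_half]
      have : chevE6.nroots / 2 = 36 := by decide +kernel
      omega) t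
    have hL : ∀ (k : Fin orbGraphE6.no) (i : Fin chevE6.rank) (r : Fin chevE6.nroots) (t : K),
        i ∈ orbGraphE6.nodes chevE6 k → C.G.negr (C.G.simp' i) = r →
        C.G.xu r t ∈ (LJ C.G ((orbits θ).J k) : Subgroup (GL chevE6.Idx K)) :=
      fun k i r t hi e => Subgroup.subset_closure
        ⟨r, t, e ▸ C.G.inJ_negr (C.G.inJ_simp hi), rfl⟩
    rcases o_cases k with rfl | rfl | rfl | rfl
    · exact ⟨_, (single_mem θ hθ (map_one θ)).2.1, hL _ (nd 1) _ _ (by decide +kernel) (by rw [s1, n1]),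
        hn _ (by decide +kernel) _, fun h => one_ne_zero ((C.G.xu_eq_one_iff _ _).1 h)⟩
    · exact ⟨_, (single_mem θ hθ (map_one θ)).2.2.2, hL _ (nd 3) _ _ (by decide +kernel) (by rw [s3, n2]),
        hn _ (by decide +kernel) _, fun h => one_ne_zero ((C.G.xu_eq_one_iff _ _).1 h)⟩
    · exact ⟨_, (pair_mem θ hθ 1).2.1,
        mul_mem (hL _ (nd 2) _ _ (by decide +kernel) (by rw [s2, n3]))
          (hL _ (nd 4) _ _ (by decide +kernel) (by rw [s4, n4])),
        mul_mem (hn _ (by decide +kernel) _) (hn _ (by decide +kernel) _), (ne_list θ).2.1⟩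
    · exact ⟨_, (pair_mem θ hθ 1).2.2.2,
        mul_mem (hL _ (nd 0) _ _ (by decide +kernel) (by rw [s0, n5]))
          (hL _ (nd 5) _ _ (by decide +kernel) (by rw [s5, n6])),
        mul_mem (hn _ (by decide +kernel) _) (hn _ (by decide +kernel) _), (ne_list θ).2.2.2⟩

theorem σT_two (h2 : ∀ t : K, θ (θ t) = t) (c : Fin chevE6.rank → Kˣ) :
    (twist θ).σT ((twist θ).σT c) = c := by
  funext j
  apply Units.ext
  simp only [Twist.σT]
  show θ (θ _) = _
  have hn : ∀ i : Fin chevE6.rank, node.get (node.get i.val) = i.val := by decide +kernel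
  have e : (twist θ).node ((twist θ).node j) = j := Fin.ext (hn j)
  rw [h2]
  congr 2
  rw [Equiv.symm_apply_eq, Equiv.symm_apply_eq]
  exact e.symm

theorem ker_cube {z : Fin chevE6.rank → Kˣ} (hz : C.G.torθ z = 1) : z * z * z = 1 := by
  have hM : ∀ i j : Fin chevE6.rank, ∑ l,
      (([[4, 3, 5, 6, 4, 2], [3, 6, 6, 9, 6, 3], [5, 6, 10, 12, 8, 4], [6, 9, 12, 18, 12, 6],
        [4, 6, 8, 12, 10, 5], [2, 3, 4, 6, 5, 4]] : List (List ℤ)).getD i.val []).getD l.val 0 *
        cmat chevE6 j l = if j = i then (3 : ℤ) else 0 := by decide +kernel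
  funext i
  have := C.G.ker_pow _ hM hz i
  rw [Pi.mul_apply, Pi.mul_apply, Pi.one_apply]
  rwa [show (3 : ℤ) = ((3 : ℕ) : ℤ) from rfl, zpow_natCast, pow_succ, pow_two] at this

theorem fixed_params {c : Fin chevE6.rank → Kˣ} (hc : (twist θ).σT c = c) :
    θ (c (nd 1) : K) = (c (nd 1) : K) ∧ θ (c (nd 3) : K) = (c (nd 3) : K) ∧
      (c (nd 4) : K) = θ (c (nd 2) : K) ∧ (c (nd 5) : K) = θ (c (nd 0) : K) := by
  have key : ∀ j : Fin chevE6.rank, (c ((twist θ).node j) : K) = θ (c j : K) := by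
    intro j
    have := congrArg Units.val (congrFun hc ((twist θ).node j))
    simp only [Twist.σT, Equiv.symm_apply_apply] at this
    exact this.symm
  have hn : ∀ i j : Fin chevE6.rank, node.get i.val = j.val → (twist θ).node i = j := fun i j h =>
    Fin.ext ((node_eq θ i).trans h)
  have a1 := key (nd 1); have a3 := key (nd 3); have a2 := key (nd 2); have a0 := key (nd 0)
  rw [hn _ (nd 1) (by decide +kernel)] at a1
  rw [hn _ (nd 3) (by decide +kernel)] at a3
  rw [hn _ (nd 4) (by decide +kernel)] at a2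
  rw [hn _ (nd 5) (by decide +kernel)] at a0
  exact ⟨a1.symm, a3.symm, a2, a0⟩

/-- the parameters of the torus -/
noncomputable def par (a b c d : Kˣ) : Fin chevE6.rank → Kˣ := fun j =>
  if j = nd 1 then a else if j = nd 3 then b else if j = nd 2 then c else
    if j = nd 4 then Units.map θ.toMonoidHom c else if j = nd 0 then d else Units.map θ.toMonoidHom d

theorem par_vals (a b c d : Kˣ) : par θ a b c d (nd 1) = a ∧ par θ a b c d (nd 3) = b ∧
    par θ a b c d (nd 2) = c ∧ par θ a b c d (nd 4) = Units.map θ.toMonoidHom c ∧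
    par θ a b c d (nd 0) = d ∧ par θ a b c d (nd 5) = Units.map θ.toMonoidHom d := by
  have h : ∀ i j : Fin chevE6.rank, i.val ≠ j.val → i ≠ j := fun i j h e => h (congrArg Fin.val e)
  refine ⟨?_, ?_, ?_, ?_, ?_, ?_⟩ <;>
    simp [par, nd, Fin.ext_iff]

theorem nd_cases (i : Fin chevE6.rank) :
    i = nd 0 ∨ i = nd 1 ∨ i = nd 2 ∨ i = nd 3 ∨ i = nd 4 ∨ i = nd 5 := by
  revert i; decide +kernel

theorem par_fixed (h2 : ∀ t : K, θ (θ t) = t) {a b c d : Kˣ} (ha : θ (a : K) = a)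
    (hb : θ (b : K) = b) : (twist θ).σT (par θ a b c d) = par θ a b c d := by
  funext j
  obtain ⟨i, rfl⟩ := (twist θ).node.surjective j
  simp only [Twist.σT, Equiv.symm_apply_apply]
  apply Units.ext
  show θ ((par θ a b c d i : Kˣ) : K) = _
  have hn : ∀ i j : Fin chevE6.rank, node.get i.val = j.val → (twist θ).node i = j := fun i j h =>
    Fin.ext ((node_eq θ i).trans h)
  obtain ⟨v1, v3, v2, v4, v0, v5⟩ := par_vals θ a b c d
  rcases nd_cases i with rfl | rfl | rfl | rfl | rfl | rfl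
  · rw [hn _ (nd 5) (by decide +kernel), v0, v5]; rfl
  · rw [hn _ (nd 1) (by decide +kernel), v1, ha]
  · rw [hn _ (nd 4) (by decide +kernel), v2, v4]; rfl
  · rw [hn _ (nd 3) (by decide +kernel), v3, hb]
  · rw [hn _ (nd 2) (by decide +kernel), v4, v2]; exact h2 _
  · rw [hn _ (nd 0) (by decide +kernel), v5, v0]; exact h2 _

theorem eq_par {c : Fin chevE6.rank → Kˣ} (hc : (twist θ).σT c = c) :
    c = par θ (c (nd 1)) (c (nd 3)) (c (nd 2)) (c (nd 0)) := by
  obtain ⟨-, -, f4, f5⟩ := fixed_params θ hc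
  obtain ⟨v1, v3, v2, v4, v0, v5⟩ := par_vals θ (c (nd 1)) (c (nd 3)) (c (nd 2)) (c (nd 0))
  funext j
  rcases nd_cases j with rfl | rfl | rfl | rfl | rfl | rfl
  exacts [v0.symm, v1.symm, v2.symm, v3.symm, (Units.ext f4).trans v4.symm,
    (Units.ext f5).trans v5.symm]

theorem H_mem (hθ : ∀ x, θ x = x ^ q) (h2 : ∀ t : K, θ (θ t) = t)
    {g : GL chevE6.Idx K} (hg : g ∈ (twist θ).Fix ⊓ chevE6.diagonalSubgroup K) :
    g ∈ twistedE6 K q := by
  obtain ⟨c, rfl, hc⟩ := (twist θ).exists_fixed_tor_two hg (σT_two θ h2) fun z hz => ker_cube hz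
  obtain ⟨f1, f3, f4, f5⟩ := fixed_params θ hc
  obtain ⟨n1, n2, n3, n4, n5, n6⟩ := negr_rt
  obtain ⟨s0, s1, s2, s3, s4, s5⟩ := simp_rt
  obtain ⟨o1, o2⟩ := orth_pairs
  have e : c = Pi.mulSingle (nd 1) (c (nd 1)) * Pi.mulSingle (nd 3) (c (nd 3)) *
      (Pi.mulSingle (nd 2) (c (nd 2)) * Pi.mulSingle (nd 4) (c (nd 4))) *
      (Pi.mulSingle (nd 0) (c (nd 0)) * Pi.mulSingle (nd 5) (c (nd 5))) := by
    funext j
    rcases nd_cases j with rfl | rfl | rfl | rfl | rfl | rfl <;>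
      simp [nd, Pi.mulSingle_apply, Fin.ext_iff]
  rw [e]
  simp only [map_mul, C.G.torθ_single, s0, s1, s2, s3, s4, s5]
  have hpair : ∀ (a b : Fin chevE6.nroots) (o : C.Orth a b),
      (∀ t, x2 θ a b t ∈ twistedE6 K q) →
      (∀ t, x2 θ (C.G.negr a) (C.G.negr b) t ∈ twistedE6 K q) →
      ∀ u u' : Kˣ, (u' : K) = θ (u : K) → C.G.hd a u * C.G.hd b u' ∈ twistedE6 K q := by
    intro a b o hp hm u u' hu
    have hone : ∀ t : K, C.G.nE a t * C.G.nE b (θ t) ∈ twistedE6 K q := fun t => by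
      rw [C.nE_pair o]
      have := hm (-t⁻¹)
      simp only [x2, map_neg, map_inv₀] at this
      exact mul_mem (mul_mem (hp t) this) (hp t)
    rw [C.hd_pair o, hu]
    have := hone (-1)
    rw [map_neg, map_one] at this
    exact mul_mem (hone _) this
  have hsing : ∀ a : Fin chevE6.nroots,
      (∀ t, θ t = t → C.G.xu a t ∈ twistedE6 K q ∧ C.G.xu (C.G.negr a) t ∈ twistedE6 K q) →
      ∀ u : Kˣ, θ (u : K) = u → C.G.hd a u ∈ twistedE6 K q := by
    intro a ha u hu
    have hone : ∀ t, θ t = t → C.G.nE a t ∈ twistedE6 K q := fun t ht => by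
      simp only [Good.nE]
      exact mul_mem (mul_mem (ha t ht).1 (ha _ (by rw [map_neg, map_inv₀, ht])).2) (ha t ht).1
    rw [C.hd_eq]
    exact mul_mem (hone _ hu) (hone _ (by rw [map_neg, map_one]))
  refine mul_mem (mul_mem (mul_mem ?_ ?_) ?_) ?_
  · exact hsing _ (fun t ht => ⟨(single_mem θ hθ ht).1, n1 ▸ (single_mem θ hθ ht).2.1⟩) _ f1
  · exact hsing _ (fun t ht => ⟨(single_mem θ hθ ht).2.2.1, n2 ▸ (single_mem θ hθ ht).2.2.2⟩) _ f3
  · exact hpair _ _ o1 (fun t => (pair_mem θ hθ t).1)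
      (fun t => by rw [n3, n4]; exact (pair_mem θ hθ t).2.1) _ _ f4
  · exact hpair _ _ o2 (fun t => (pair_mem θ hθ t).2.2.1)
      (fun t => by rw [n5, n6]; exact (pair_mem θ hθ t).2.2.2) _ _ f5

theorem twGp (hθ : ∀ x, θ x = x ^ q) (h2 : ∀ t : K, θ (θ t) = t) :
    TwGp (orbits θ) (twistedE6 K q) where
  toPre := pre θ hθ h2
  H_le g hg := H_mem θ hθ h2 hg
  X_ne k := by
    have hle := le_Fix θ hθ h2
    rcases o_cases k with rfl | rfl | rfl | rfl
    · exact ⟨C.G.xu (rt 46) 1, Subgroup.mem_inf.2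
        ⟨hle (single_mem θ hθ (map_one θ)).1, xu_mem_Uinv θ (a := rt 46) rfl _⟩,
        fun h => one_ne_zero ((C.G.xu_eq_one_iff _ _).1 h)⟩
    · exact ⟨C.G.xu (rt 39) 1, Subgroup.mem_inf.2
        ⟨hle (single_mem θ hθ (map_one θ)).2.2.1, xu_mem_Uinv θ (a := rt 39) rfl _⟩,
        fun h => one_ne_zero ((C.G.xu_eq_one_iff _ _).1 h)⟩
    · exact ⟨_, Subgroup.mem_inf.2
        ⟨hle (pair_mem θ hθ 1).1, x2_mem_Uinv θ (a := rt 42) (b := rt 37) rfl 1⟩, (ne_list θ).1⟩
    · exact ⟨_, Subgroup.mem_inf.2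
        ⟨hle (pair_mem θ hθ 1).2.2.1, x2_mem_Uinv θ (a := rt 56) (b := rt 36) rfl 1⟩, (ne_list θ).2.2.1⟩

section

variable [Fintype K] (hq : IsPrimePow q) (hK : Fintype.card K = q ^ 2)

include hq hK

theorem card_orb (hθ : ∀ x, θ x = x ^ q) (h2 : ∀ t : K, θ (θ t) = t)
    (k : Fin orbGraphE6.no) :
    Nat.card ↥((twist θ).Fix ⊓ Uinv C.G ((orbits θ).wO k)) = q ^ ninv C.G ((orbits θ).wO k) := by
  classical
  have hn : ninv C.G ((orbits θ).wO k) = (L k).length := by
    rw [← L_eq θ k, ninv, ← List.toFinset_card_of_nodup ((List.nodup_finRange _).filter _)]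
    congr 1
    ext r
    simp
  have hle := le_Fix θ hθ h2
  obtain ⟨o1, o2⟩ := orth_pairs
  rw [hn]
  have hone : ∀ (o : Fin orbGraphE6.no) (a : Fin chevE6.nroots) (hL : L o = [a]),
      graphE6.p.get a.val = a.val ∧ graphE6.eps.get a.val = false →
      (∀ t, θ t = t → C.G.xu a t ∈ twistedE6 K q) →
      Nat.card ↥((twist θ).Fix ⊓ Uinv C.G ((orbits θ).wO o)) = q ^ (L o).length := by
    intro o a hL hd hm
    rw [hL, List.length_singleton, pow_one, ← Frob.card_fixed hq hK]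
    refine (Nat.card_eq_of_bijective (fun t : {x : K // x ^ q = x} =>
      (⟨C.G.xu a t.1, Subgroup.mem_inf.2 ⟨hle (hm _ ((hθ _).trans t.2)), xu_mem_Uinv θ hL _⟩⟩ :
        ↥((twist θ).Fix ⊓ Uinv C.G ((orbits θ).wO o)))) ⟨?_, ?_⟩).symm
    · intro t t' e
      exact Subtype.ext (C.G.xu_injective _ (congrArg Subtype.val e))
    · rintro ⟨g, hg⟩
      obtain ⟨t, ht, rfl⟩ := X_single θ hL hd hg
      exact ⟨⟨t, (hθ t).symm.trans ht⟩, rfl⟩
  have htwo : ∀ (o : Fin orbGraphE6.no) (a b : Fin chevE6.nroots) (hL : L o = [b, a]), a ≠ b →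
      graphE6.p.get a.val = b.val ∧ graphE6.p.get b.val = a.val ∧
        graphE6.eps.get a.val = false ∧ graphE6.eps.get b.val = false →
      (∀ t u : K, Commute (C.G.xu a t) (C.G.xu b u)) →
      (∀ t, x2 θ a b t ∈ twistedE6 K q) →
      Nat.card ↥((twist θ).Fix ⊓ Uinv C.G ((orbits θ).wO o)) = q ^ (L o).length := by
    intro o a b hL hab hd hc hm
    rw [hL, show [b, a].length = 2 from rfl, ← hK, ← Nat.card_eq_fintype_card]
    refine (Nat.card_eq_of_bijective (fun t : K =>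
      (⟨x2 θ a b t, Subgroup.mem_inf.2 ⟨hle (hm t), x2_mem_Uinv θ hL t⟩⟩ :
        ↥((twist θ).Fix ⊓ Uinv C.G ((orbits θ).wO o)))) ⟨?_, ?_⟩).symm
    · intro t t' e
      exact x2_inj θ hL hab hc (congrArg Subtype.val e)
    · rintro ⟨g, hg⟩
      obtain ⟨t, rfl⟩ := X_pair θ hL hab hd hc hg
      exact ⟨t, rfl⟩
  rcases o_cases k with rfl | rfl | rfl | rfl
  · exact hone _ (rt 46) rfl (by decide +kernel) fun t ht => (single_mem θ hθ ht).1
  · exact hone _ (rt 39) rfl (by decide +kernel) fun t ht => (single_mem θ hθ ht).2.2.1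
  · exact htwo _ (rt 42) (rt 37) rfl (by decide +kernel) (by decide +kernel)
      (fun t u => C.orth_commute o1 (by simp) (by simp) t u) fun t => (pair_mem θ hθ t).1
  · exact htwo _ (rt 56) (rt 36) rfl (by decide +kernel) (by decide +kernel)
      (fun t u => C.orth_commute o2 (by simp) (by simp) t u) fun t => (pair_mem θ hθ t).2.2.1

theorem card_H (hθ : ∀ x, θ x = x ^ q) (h2 : ∀ t : K, θ (θ t) = t) :
    Nat.gcd 3 (q + 1) * Nat.card ↥((twist θ).Fix ⊓ chevE6.diagonalSubgroup K) =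
      (q - 1) ^ 2 * (q ^ 2 - 1) ^ 2 := by
  classical
  let P := {u : Kˣ // (u : K) ^ q = (u : K)}
  let F : Subgroup (Fin chevE6.rank → Kˣ) :=
    { carrier := {c | (twist θ).σT c = c}
      one_mem' := (twist θ).σT_one
      mul_mem' := fun {a b} ha hb =>
        show (twist θ).σT (a * b) = a * b by rw [(twist θ).σT_mul, ha, hb]
      inv_mem' := fun {a} ha => by
        show (twist θ).σT a⁻¹ = a⁻¹
        refine eq_inv_of_mul_eq_one_left ?_
        conv_lhs => arg 2; rw [← show (twist θ).σT a = a from ha]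
        rw [← (twist θ).σT_mul, inv_mul_cancel, (twist θ).σT_one] }
  let f : ↥F →* GL chevE6.Idx K := C.G.torθ.comp F.subtype
  have hrange : f.range = (twist θ).Fix ⊓ chevE6.diagonalSubgroup K := by
    ext g
    constructor
    · rintro ⟨c, rfl⟩; exact (twist θ).torθ_mem_Fix c.2
    · intro hg
      obtain ⟨c, rfl, hc⟩ := (twist θ).exists_fixed_tor_two hg (σT_two θ h2) fun z hz => ker_cube hz
      exact ⟨⟨c, hc⟩, rfl⟩
  have hFcard : Nat.card ↥F = (q - 1) ^ 2 * (q ^ 2 - 1) ^ 2 := by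
    have hb : Function.Bijective (fun x : (P × P) × (Kˣ × Kˣ) =>
        (⟨par θ x.1.1.1 x.1.2.1 x.2.1 x.2.2,
          par_fixed θ h2 ((hθ _).trans x.1.1.2) ((hθ _).trans x.1.2.2)⟩ : ↥F)) := by
      refine ⟨?_, ?_⟩
      · rintro ⟨⟨a, b⟩, c, d⟩ ⟨⟨a', b'⟩, c', d'⟩ e
        have e' := congrArg Subtype.val e
        simp only at e'
        obtain ⟨v1, v3, v2, -, v0, -⟩ := par_vals θ a.1 b.1 c d
        obtain ⟨w1, w3, w2, -, w0, -⟩ := par_vals θ a'.1 b'.1 c' d'
        rw [e'] at v1 v3 v2 v0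
        exact Prod.ext (Prod.ext (Subtype.ext (v1.symm.trans w1)) (Subtype.ext (v3.symm.trans w3)))
          (Prod.ext (v2.symm.trans w2) (v0.symm.trans w0))
      · rintro ⟨c, hc⟩
        obtain ⟨f1, f3, -, -⟩ := fixed_params θ hc
        exact ⟨((⟨c (nd 1), (hθ _).symm.trans f1⟩, ⟨c (nd 3), (hθ _).symm.trans f3⟩),
          c (nd 2), c (nd 0)), Subtype.ext (eq_par θ hc).symm⟩
    rw [← Nat.card_eq_of_bijective _ hb]
    simp only [Nat.card_prod, P, card_fixed_units hq hK]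
    rw [Nat.card_units, Nat.card_eq_fintype_card, hK]
    ring
  have hker : Nat.card ↥f.ker = Nat.gcd 3 (q + 1) := by
    set g := Nat.gcd 3 (q + 1)
    have hco : Nat.card ↥(powMonoidHom g : Kˣ →* Kˣ).ker = g := by
      rw [IsCyclic.card_powMonoidHom_ker, Nat.card_units, Nat.card_eq_fintype_card, hK]
      exact Nat.gcd_eq_right ((Nat.gcd_dvd_right 3 (q + 1)).trans
        ⟨q - 1, by simpa using Nat.sq_sub_sq q 1⟩)
    rw [← hco]
    have hg : ∀ u : Kˣ, u ^ g = 1 ↔ u ^ 3 = 1 ∧ u ^ (q + 1) = 1 := fun u => pow_gcd_eq_one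
    have hker' : ∀ z : Fin chevE6.rank → Kˣ, C.G.torθ z = 1 →
        z (nd 1) = 1 ∧ z (nd 3) = 1 ∧ z (nd 2) = z (nd 0) ^ 2 ∧ z (nd 4) = z (nd 0) ∧
          z (nd 5) = z (nd 0) ^ 2 := by
      intro z hz
      have hrow := (C.G.torθ_ker z).1 (MonoidHom.mem_ker.2 hz)
      have h3 : ∀ i, z i ^ 3 = 1 := fun i => by
        rw [pow_succ, pow_two]; exact congrFun (ker_cube hz) i
      have hu : (Finset.univ : Finset (Fin chevE6.rank)) =
          {nd 0, nd 1, nd 2, nd 3, nd 4, nd 5} := by decide +kernel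
      have hd : (nd 0 : Fin chevE6.rank) ∉ ({nd 1, nd 2, nd 3, nd 4, nd 5} : Finset _) ∧
          (nd 1 : Fin chevE6.rank) ∉ ({nd 2, nd 3, nd 4, nd 5} : Finset _) ∧
          (nd 2 : Fin chevE6.rank) ∉ ({nd 3, nd 4, nd 5} : Finset _) ∧
          (nd 3 : Fin chevE6.rank) ∉ ({nd 4, nd 5} : Finset _) ∧
          (nd 4 : Fin chevE6.rank) ∉ ({nd 5} : Finset _) := by decide +kernel
      have hrows : ∀ l : Fin chevE6.rank, z (nd 0) ^ cmat chevE6 (nd 0) l *
          (z (nd 1) ^ cmat chevE6 (nd 1) l * (z (nd 2) ^ cmat chevE6 (nd 2) l *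
          (z (nd 3) ^ cmat chevE6 (nd 3) l * (z (nd 4) ^ cmat chevE6 (nd 4) l *
          z (nd 5) ^ cmat chevE6 (nd 5) l)))) = 1 := fun l => by
        have := hrow l
        rwa [hu, Finset.prod_insert hd.1, Finset.prod_insert hd.2.1, Finset.prod_insert hd.2.2.1,
          Finset.prod_insert hd.2.2.2.1, Finset.prod_insert hd.2.2.2.2, Finset.prod_singleton] at this
      have hc : ([nd 0, nd 1, nd 2, nd 5, nd 3].map fun l =>
          [nd 0, nd 1, nd 2, nd 3, nd 4, nd 5].map fun i => cmat chevE6 i l) =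
          [[2, 0, -1, 0, 0, 0], [0, 2, 0, -1, 0, 0], [-1, 0, 2, -1, 0, 0], [0, 0, 0, 0, -1, 2],
            [0, -1, -1, 2, -1, 0]] := by decide +kernel
      simp only [List.map_cons, List.map_nil, List.cons.injEq, and_true] at hc
      obtain ⟨⟨a0, a1, a2, a3, a4, a5⟩, ⟨b0, b1, b2, b3, b4, b5⟩, ⟨c0, c1, c2, c3, c4, c5⟩,
        ⟨d0, d1, d2, d3, d4, d5⟩, e0, e1, e2, e3, e4, e5⟩ := hc
      have r0 := hrows (nd 0); have r1 := hrows (nd 1); have r2 := hrows (nd 2)
      have r5 := hrows (nd 5); have r3 := hrows (nd 3)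
      simp only [a0, a1, a2, a3, a4, a5, zpow_zero, one_mul, mul_one, zpow_two, zpow_neg_one] at r0
      simp only [b0, b1, b2, b3, b4, b5, zpow_zero, one_mul, mul_one, zpow_two, zpow_neg_one] at r1
      simp only [c0, c1, c2, c3, c4, c5, zpow_zero, one_mul, mul_one, zpow_two, zpow_neg_one] at r2
      simp only [d0, d1, d2, d3, d4, d5, zpow_zero, one_mul, mul_one, zpow_two, zpow_neg_one] at r5
      simp only [e0, e1, e2, e3, e4, e5, zpow_zero, one_mul, mul_one, zpow_two, zpow_neg_one] at r3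
      have q2 : z (nd 2) = z (nd 0) * z (nd 0) := (mul_inv_eq_one.1 r0).symm
      have q3 : z (nd 3) = 1 := by
        have h := h3 (nd 0)
        rw [pow_succ, pow_two] at h
        rw [q2] at r2
        simp only [mul_assoc, inv_mul_cancel_left] at r2
        rw [← mul_assoc, ← mul_assoc, mul_inv_eq_one] at r2
        rw [← r2]
        exact h
      rw [q3, inv_one, mul_one] at r1
      have q1 : z (nd 1) = 1 := by
        have h := h3 (nd 1)
        rwa [pow_succ, pow_two, r1, one_mul] at h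
      rw [q1, q3, q2] at r3
      simp only [inv_one, one_mul, mul_one] at r3
      have q4 : z (nd 4) = z (nd 0) := by
        rw [← mul_inv, inv_eq_one, mul_comm] at r3
        rw [eq_inv_of_mul_eq_one_left r3, ← mul_right_inj (z (nd 0) * z (nd 0)), mul_inv_cancel]
        have h := h3 (nd 0)
        rw [pow_succ, pow_two] at h
        exact h.symm
      have q5 : z (nd 5) = z (nd 0) * z (nd 0) := by
        rw [q4, inv_mul_eq_one] at r5
        have h := h3 (nd 5)
        rw [pow_succ, pow_two, ← r5] at h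
        calc z (nd 5) = z (nd 0) * z (nd 5) * (z (nd 5)) := by rw [h, one_mul]
          _ = z (nd 0) * (z (nd 5) * z (nd 5)) := mul_assoc _ _ _
          _ = z (nd 0) * z (nd 0) := by rw [← r5]
      exact ⟨q1, q3, q2.trans (pow_two _).symm, q4, q5.trans (pow_two _).symm⟩
    refine Nat.card_eq_of_bijective (fun z : ↥f.ker =>
      (⟨(z.1 : Fin chevE6.rank → Kˣ) (nd 0), ?_⟩ : ↥(powMonoidHom g : Kˣ →* Kˣ).ker)) ⟨?_, ?_⟩
    · rw [MonoidHom.mem_ker, powMonoidHom_apply, hg]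
      have hz : C.G.torθ (z.1 : Fin chevE6.rank → Kˣ) = 1 := z.2
      have h3 : (z.1 : Fin chevE6.rank → Kˣ) (nd 0) ^ 3 = 1 := by
        rw [pow_succ, pow_two]; exact congrFun (ker_cube hz) _
      refine ⟨h3, ?_⟩
      obtain ⟨-, -, -, -, q5⟩ := hker' _ hz
      obtain ⟨-, -, -, f5⟩ := fixed_params θ z.1.2
      rw [q5, hθ, ← Units.val_pow_eq_pow_val, Units.val_inj] at f5
      rw [pow_succ, ← f5, ← pow_succ]
      exact h3
    · intro z z' e
      have e' : (z.1 : Fin chevE6.rank → Kˣ) (nd 0) = (z'.1 : Fin chevE6.rank → Kˣ) (nd 0) :=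
        congrArg Subtype.val e
      obtain ⟨a1, a3, a2, a4, a5⟩ := hker' _ (show C.G.torθ (z.1 : Fin chevE6.rank → Kˣ) = 1 from z.2)
      obtain ⟨b1, b3, b2, b4, b5⟩ :=
        hker' _ (show C.G.torθ (z'.1 : Fin chevE6.rank → Kˣ) = 1 from z'.2)
      refine Subtype.ext (Subtype.ext (funext fun j => ?_))
      rcases nd_cases j with rfl | rfl | rfl | rfl | rfl | rfl
      exacts [e', a1.trans b1.symm, by rw [a2, b2, e'], a3.trans b3.symm,
        by rw [a4, b4, e'], by rw [a5, b5, e']]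
    · rintro ⟨u, hu⟩
      rw [MonoidHom.mem_ker, powMonoidHom_apply, hg] at hu
      have hq1 : u ^ q = u ^ 2 := by
        refine mul_right_cancel (b := u) ?_
        rw [← pow_succ, ← pow_succ, hu.2, hu.1]
      have h12 : Units.map θ.toMonoidHom (u ^ 2) = u := Units.ext (by
        show θ ((u ^ 2 : Kˣ) : K) = (u : K)
        rw [hθ, ← Units.val_pow_eq_pow_val, Units.val_inj, ← pow_mul, mul_comm 2 q, pow_mul, hq1,
          ← pow_mul, show 2 * 2 = 3 + 1 from rfl, pow_succ, hu.1, one_mul])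
      have h1 : Units.map θ.toMonoidHom u = u ^ 2 := Units.ext (by
        show θ (u : K) = ((u ^ 2 : Kˣ) : K)
        rw [hθ, ← Units.val_pow_eq_pow_val, hq1])
      have hz : (twist θ).σT (par θ 1 1 (u ^ 2) u) = par θ 1 1 (u ^ 2) u :=
        par_fixed θ h2 (by simp) (by simp)
      obtain ⟨v1, v3, v2, v4, v0, v5⟩ := par_vals θ (1 : Kˣ) 1 (u ^ 2) u
      refine ⟨⟨⟨par θ 1 1 (u ^ 2) u, hz⟩, ?_⟩, Subtype.ext v0⟩
      show C.G.torθ (par θ 1 1 (u ^ 2) u) = 1
      rw [← MonoidHom.mem_ker, C.G.torθ_ker]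
      intro l
      have hexp : ∀ i : Fin chevE6.rank,
          par θ 1 1 (u ^ 2) u i = u ^ (([1, 0, 2, 0, 1, 2] : List ℤ).getD i.val 0) := by
        intro i
        rcases nd_cases i with rfl | rfl | rfl | rfl | rfl | rfl
        · rw [v0]; simp [nd]
        · rw [v1]; simp [nd]
        · rw [v2]; simp [nd, zpow_two, pow_two]
        · rw [v3]; simp [nd]
        · rw [v4, h12]; simp [nd]
        · rw [v5, h1]; simp [nd, zpow_two, pow_two]
      simp only [hexp, ← zpow_mul]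
      rw [← prod_zpow_sum]
      have hdvd : ∀ l : Fin chevE6.rank, (∑ i : Fin chevE6.rank,
          ([1, 0, 2, 0, 1, 2] : List ℤ).getD i.val 0 * cmat chevE6 i l) % 3 = 0 := by decide +kernel
      obtain ⟨k, hk⟩ := Int.dvd_of_emod_eq_zero (hdvd l)
      rw [hk, zpow_mul, show (3 : ℤ) = ((3 : ℕ) : ℤ) from rfl, zpow_natCast, hu.1, one_zpow]
  have h := Subgroup.card_eq_card_quotient_mul_card_subgroup f.ker
  rw [Nat.card_congr (QuotientGroup.quotientKerEquivRange f).toEquiv, hker, hFcard] at h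
  rw [← hrange, h, mul_comm]

end

end TE6

end CfsgLib.Lie.Chev
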