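import Cfsg.Agent.Lib.Lie.Chev.Tw.Hom
import Cfsg.Agent.Lib.Lie.Chev.PerfectData

/-!
# Graph automorphisms
-/

set_option autoImplicit false

namespace CfsgLib.Lie.Chev

open Cfsg.Lie
open scoped MatrixGroups

universe u

variable {D : ChevalleyDatum} {f : Fast} {E : EmbData} {K : Type u} [Field K]

/-- a root element with a non-zero entry in the source block -/
def Witness (D : ChevalleyDatum) (E : EmbData) (r : Fin D.nroots) (a b : D.Idx) : Prop :=
  a ≠ b ∧ E.inT (pos D a) = true ∧ E.inT (pos D b) = true ∧ E.eps.get r.val = false ∧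
    ¬ (E.m : ℤ) ∣ coef (act D r.val 1 (pos D b)) (pos D a) + coef (act D r.val 2 (pos D b)) (pos D a) +
      coef (act D r.val 3 (pos D b)) (pos D a)

noncomputable instance (D : ChevalleyDatum) (E : EmbData) (r : Fin D.nroots) (a b : D.Idx) :
    Decidable (Witness D E r a b) := by unfold Witness; infer_instance

namespace Emb

theorem exists_aut_of_all {G : Good D} (h : Emb G f E) (hm : E.m = 0)
    (hT : ∀ a : D.Idx, E.inT (pos D a) = true) (hS : ∀ a : D.Idx, E.inS (pos D a) = true)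
    (hp : Function.Surjective h.proot) (hlam : ∀ r : Fin D.nroots, E.lam.get r.val = 1) :
    ∃ φ : ↥(D.group K) ≃* ↥(D.group K),
      ∀ r t, φ ⟨G.xu r t, G.xu_mem _ _⟩ =
        ⟨G.xu (h.proot r) ((sgnB (E.eps.get r.val) : K) * t ^ E.lam.get r.val), G.xu_mem _ _⟩ :=
  h.exists_aut (by rw [hm, Nat.cast_zero]) (h.rsrc_injective_of_all _ hT)
    (h.rtgt_injective_of_all _ hS) hp fun r y => ⟨y, by rw [hlam, pow_one]⟩

theorem exists_aut_of_witness {C : Full D} (h : Emb C.G f E) (q : ℕ) [CharP K q] (hq : q = E.m)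
    (hconn : DiagramConnected D)
    (hperf : ∀ (L : Type u) [Field L], (∃ a : L, a ≠ 0 ∧ a ≠ 1) → ∀ j, InDer C.G L (C.G.simp' j))
    (hp : Function.Surjective h.proot) (r : Fin D.nroots) (a b : D.Idx) (hw : Witness D E r a b)
    (hlam : ∀ r : Fin D.nroots, E.lam.get r.val = 1 ∨ E.lam.get r.val = q)
    (hpow : ∀ y : K, ∃ x : K, x ^ q = y) :
    ∃ φ : ↥(D.group K) ≃* ↥(D.group K),
      ∀ r t, φ ⟨C.G.xu r t, C.G.xu_mem _ _⟩ =
        ⟨C.G.xu (h.proot r) ((sgnB (E.eps.get r.val) : K) * t ^ E.lam.get r.val), C.G.xu_mem _ _⟩ := by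
  subst hq
  classical
  have hm : ((E.m : ℕ) : K) = 0 := CharP.cast_eq_zero K _
  haveI : CharP (AlgebraicClosure K) E.m :=
    charP_of_injective_algebraMap (algebraMap K (AlgebraicClosure K)).injective _
  have hm' : ((E.m : ℕ) : AlgebraicClosure K) = 0 := CharP.cast_eq_zero _ _
  have ha : ∃ a : AlgebraicClosure K, a ≠ 0 ∧ a ≠ 1 := by
    obtain ⟨a, ha⟩ := Infinite.exists_notMem_finset ({0, 1} : Finset (AlgebraicClosure K))
    simp only [Finset.mem_insert, Finset.mem_singleton, not_or] at ha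
    exact ⟨a, ha⟩
  haveI := (C.isSimpleGroup hconn (C.G.commutator_eq_top (hperf (AlgebraicClosure K) ha)) r).1
  obtain ⟨hab, hTa, hTb, he, hdvd⟩ := hw
  have hne : xg (AlgebraicClosure K) r 1 a b ≠ 0 := by
    rw [xg_apply, if_neg hab]
    simp only [one_pow, one_mul, zero_add, ← Int.cast_add]
    exact fun e => hdvd ((CharP.intCast_eq_zero_iff (AlgebraicClosure K) E.m _).1 e)
  have hab' : (⟨a, hTa⟩ : TIdx D E) ≠ ⟨b, hTb⟩ := fun e => hab (congrArg Subtype.val e)
  have hne' : xg (AlgebraicClosure K) (h.proot r) 1 (h.σ ⟨a, hTa⟩) (h.σ ⟨b, hTb⟩) ≠ 0 := by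
    have := h.xg_block hm' r (1 : AlgebraicClosure K) ⟨a, hTa⟩ ⟨b, hTb⟩
    rw [he, show sgnB false = 1 from rfl, Int.cast_one, one_mul, one_pow] at this
    rw [this]
    refine mul_ne_zero (mul_ne_zero ?_ ?_) hne <;>
      exact left_ne_zero_of_mul_eq_one (Emb.sg_mul_self _)
  exact h.exists_aut hm
    (h.rsrc_injective_of_map hm (algebraMap K _) hm' (h.rsrc_injective_of_simple hm' hab' hne))
    (h.rtgt_injective_of_map hm (algebraMap K _) hm' (h.rtgt_injective_of_simple hm' hab' hne'))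
    hp fun r y => by
      rcases hlam r with e | e <;> rw [e]
      · exact ⟨y, pow_one y⟩
      · exact hpow y

theorem proot_surjective {G : Good D} (h : Emb G f E)
    (hs : ∀ s : Fin D.nroots, ∃ r : Fin D.nroots, E.p.get r.val = s.val) :
    Function.Surjective h.proot := fun s => by
  obtain ⟨r, hr⟩ := hs s
  exact ⟨r, Fin.ext hr⟩

/-- the effect of the automorphism on a root element without a sign -/
theorem aut_x {G : Good D} (h : Emb G f E) {φ : ↥(D.group K) ≃* ↥(D.group K)}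
    (hφ : ∀ r t, φ ⟨G.xu r t, G.xu_mem _ _⟩ =
      ⟨G.xu (h.proot r) ((sgnB (E.eps.get r.val) : K) * t ^ E.lam.get r.val), G.xu_mem _ _⟩)
    {r : ℕ} (hr : r < D.nroots) {g : ↥(D.group K)} {t : K}
    (hg : ((g : GL D.Idx K) : Matrix D.Idx D.Idx K) = D.x K r t) {s e : ℕ}
    (hd : E.eps.get r = false ∧ E.p.get r = s ∧ E.lam.get r = e) :
    ((φ g : GL D.Idx K) : Matrix D.Idx D.Idx K) = D.x K s (t ^ e) := by
  obtain ⟨h1, h2, h3⟩ := hd
  obtain ⟨r, rfl⟩ : ∃ r' : Fin D.nroots, r'.val = r := ⟨⟨r, hr⟩, rfl⟩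
  rw [G.x_eq_xu] at hg
  rw [show g = ⟨G.xu r t, G.xu_mem _ _⟩ from Subtype.ext (Units.ext hg), hφ, h1, h3,
    show sgnB false = 1 from rfl, Int.cast_one, one_mul, ← h2]
  exact (G.x_eq_xu _ _).symm

end Emb

end CfsgLib.Lie.Chev
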