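import Cfsg.Agent.Lib.Lie.Chev.Tw.Emb
import Cfsg.Agent.Lib.Lie.Chev.GoodD4

/-!
Intertwiner table for an exchange of two outer nodes of type D4.
-/

set_option autoImplicit false
set_option maxRecDepth 100000

namespace CfsgLib.Lie.Chev

/-- the intertwiner for the node permutation [2, 1, 0, 3] of type D4 -/
noncomputable def graphD4t : EmbData where
  m := 0
  tgt := (.node 14 (.node 7 (.node 3 (.node 1 (.leaf 3) (.node 2 (.leaf 2) (.leaf 1))) (.node 5 (.node 4 (.leaf 4) (.leaf 5)) (.node 6 (.leaf 6) (.leaf 7)))) (.node 10 (.node 8 (.leaf 11) (.node 9 (.leaf 12) (.leaf 15))) (.node 12 (.node 11 (.leaf 8) (.leaf 9)) (.node 13 (.leaf 13) (.leaf 14))))) (.node 21 (.node 17 (.node 15 (.leaf 10) (.node 16 (.leaf 16) (.leaf 17))) (.node 19 (.node 18 (.leaf 23) (.leaf 19)) (.node 20 (.leaf 20) (.leaf 24)))) (.node 24 (.node 22 (.leaf 25) (.node 23 (.leaf 18) (.leaf 21))) (.node 26 (.node 25 (.leaf 22) (.leaf 26)) (.node 27 (.leaf 27) (.leaf 28))))))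
  src := (.node 14 (.node 7 (.node 3 (.node 1 (.leaf 3) (.node 2 (.leaf 2) (.leaf 1))) (.node 5 (.node 4 (.leaf 4) (.leaf 5)) (.node 6 (.leaf 6) (.leaf 7)))) (.node 10 (.node 8 (.leaf 11) (.node 9 (.leaf 12) (.leaf 15))) (.node 12 (.node 11 (.leaf 8) (.leaf 9)) (.node 13 (.leaf 13) (.leaf 14))))) (.node 21 (.node 17 (.node 15 (.leaf 10) (.node 16 (.leaf 16) (.leaf 17))) (.node 19 (.node 18 (.leaf 23) (.leaf 19)) (.node 20 (.leaf 20) (.leaf 24)))) (.node 24 (.node 22 (.leaf 25) (.node 23 (.leaf 18) (.leaf 21))) (.node 26 (.node 25 (.leaf 22) (.leaf 26)) (.node 27 (.leaf 27) (.leaf 28))))))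
  neg := (.node 14 (.node 7 (.node 3 (.node 1 (.leaf false) (.node 2 (.leaf false) (.leaf false))) (.node 5 (.node 4 (.leaf false) (.leaf false)) (.node 6 (.leaf false) (.leaf false)))) (.node 10 (.node 8 (.leaf true) (.node 9 (.leaf true) (.leaf false))) (.node 12 (.node 11 (.leaf true) (.leaf true)) (.node 13 (.leaf false) (.leaf false))))) (.node 21 (.node 17 (.node 15 (.leaf false) (.node 16 (.leaf false) (.leaf false))) (.node 19 (.node 18 (.leaf false) (.leaf false)) (.node 20 (.leaf false) (.leaf true)))) (.node 24 (.node 22 (.leaf true) (.node 23 (.leaf false) (.leaf true))) (.node 26 (.node 25 (.leaf true) (.leaf false)) (.node 27 (.leaf false) (.leaf false))))))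
  p := (.node 12 (.node 6 (.node 3 (.node 1 (.leaf 0) (.node 2 (.leaf 1) (.leaf 2))) (.node 4 (.leaf 6) (.node 5 (.leaf 7) (.leaf 10)))) (.node 9 (.node 7 (.leaf 3) (.node 8 (.leaf 4) (.leaf 8))) (.node 10 (.leaf 9) (.node 11 (.leaf 5) (.leaf 11))))) (.node 18 (.node 15 (.node 13 (.leaf 12) (.node 14 (.leaf 18) (.leaf 14))) (.node 16 (.leaf 15) (.node 17 (.leaf 19) (.leaf 20)))) (.node 21 (.node 19 (.leaf 13) (.node 20 (.leaf 16) (.leaf 17))) (.node 22 (.leaf 21) (.node 23 (.leaf 22) (.leaf 23))))))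
  lam := (.node 12 (.node 6 (.node 3 (.node 1 (.leaf 1) (.node 2 (.leaf 1) (.leaf 1))) (.node 4 (.leaf 1) (.node 5 (.leaf 1) (.leaf 1)))) (.node 9 (.node 7 (.leaf 1) (.node 8 (.leaf 1) (.leaf 1))) (.node 10 (.leaf 1) (.node 11 (.leaf 1) (.leaf 1))))) (.node 18 (.node 15 (.node 13 (.leaf 1) (.node 14 (.leaf 1) (.leaf 1))) (.node 16 (.leaf 1) (.node 17 (.leaf 1) (.leaf 1)))) (.node 21 (.node 19 (.leaf 1) (.node 20 (.leaf 1) (.leaf 1))) (.node 22 (.leaf 1) (.node 23 (.leaf 1) (.leaf 1))))))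
  eps := (.node 12 (.node 6 (.node 3 (.node 1 (.leaf false) (.node 2 (.leaf false) (.leaf false))) (.node 4 (.leaf true) (.node 5 (.leaf true) (.leaf false)))) (.node 9 (.node 7 (.leaf true) (.node 8 (.leaf true) (.leaf false))) (.node 10 (.leaf false) (.node 11 (.leaf false) (.leaf false))))) (.node 18 (.node 15 (.node 13 (.leaf false) (.node 14 (.leaf false) (.leaf false))) (.node 16 (.leaf false) (.node 17 (.leaf true) (.leaf true)))) (.node 21 (.node 19 (.leaf false) (.node 20 (.leaf true) (.leaf true))) (.node 22 (.leaf false) (.node 23 (.leaf false) (.leaf false))))))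

theorem chk_graphD4t : chkEmb Cfsg.Lie.chevD4 fastD4 graphD4t = true := by decide +kernel

theorem emb_graphD4t : Emb goodD4 fastD4 graphD4t := ⟨checksD4, chk_graphD4t⟩

end CfsgLib.Lie.Chev
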