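import Cfsg.Agent.Lib.Lie.Chev.Tw.Emb
import Cfsg.Agent.Lib.Lie.Chev.GoodF4

/-!
Intertwiner tables for type F4.
-/

set_option autoImplicit false
set_option maxRecDepth 100000

namespace CfsgLib.Lie.Chev

/-- the intertwiner for the node permutation [3, 2, 1, 0] of type F4 -/
noncomputable def graphF4 : EmbData where
  m := 2
  tgt := (.node 26 (.node 13 (.node 6 (.node 3 (.node 1 (.leaf 0) (.node 2 (.leaf 0) (.leaf 2))) (.node 4 (.leaf 1) (.node 5 (.leaf 8) (.leaf 12)))) (.node 9 (.node 7 (.leaf 13) (.node 8 (.leaf 0) (.leaf 14))) (.node 11 (.node 10 (.leaf 16) (.leaf 23)) (.node 12 (.leaf 0) (.leaf 0))))) (.node 19 (.node 16 (.node 14 (.leaf 0) (.node 15 (.leaf 0) (.leaf 0))) (.node 17 (.leaf 0) (.node 18 (.leaf 0) (.leaf 0)))) (.node 22 (.node 20 (.leaf 15) (.node 21 (.leaf 17) (.leaf 24))) (.node 24 (.node 23 (.leaf 0) (.leaf 0)) (.node 25 (.leaf 0) (.leaf 18)))))) (.node 39 (.node 32 (.node 29 (.node 27 (.leaf 25) (.node 28 (.leaf 19)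 (.leaf 38))) (.node 30 (.leaf 32) (.node 31 (.leaf 39) (.leaf 0)))) (.node 35 (.node 33 (.leaf 0) (.node 34 (.leaf 0) (.leaf 33))) (.node 37 (.node 36 (.leaf 40) (.leaf 42)) (.node 38 (.leaf 0) (.leaf 0))))) (.node 45 (.node 42 (.node 40 (.leaf 0) (.node 41 (.leaf 0) (.leaf 0))) (.node 43 (.leaf 0) (.node 44 (.leaf 0) (.leaf 0)))) (.node 48 (.node 46 (.leaf 34) (.node 47 (.leaf 41) (.leaf 43))) (.node 50 (.node 49 (.leaf 0) (.leaf 44)) (.node 51 (.leaf 45) (.leaf 49)))))))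
  src := (.node 26 (.node 13 (.node 6 (.node 3 (.node 1 (.leaf 4) (.node 2 (.leaf 3) (.leaf 0))) (.node 4 (.leaf 0) (.node 5 (.leaf 0) (.leaf 0)))) (.node 9 (.node 7 (.leaf 0) (.node 8 (.leaf 5) (.leaf 0))) (.node 11 (.node 10 (.leaf 0) (.leaf 0)) (.node 12 (.leaf 6) (.leaf 7))))) (.node 19 (.node 16 (.node 14 (.leaf 9) (.node 15 (.leaf 20) (.leaf 10))) (.node 17 (.leaf 21) (.node 18 (.leaf 26) (.leaf 28)))) (.node 22 (.node 20 (.leaf 0) (.node 21 (.leaf 0) (.leaf 0))) (.node 24 (.node 23 (.leaf 11) (.leaf 22)) (.node 25 (.leaf 27) (.leaf 0)))))) (.node 39 (.node 32 (.node 29 (.node 27 (.leaf 0) (.node 28 (.leaf 0) (.leaf 0))) (.node 30 (.leaf 0) (.node 31 (.leaf 0) (.leaf 30)))) (.node 35 (.node 33 (.leaf 35) (.node 34 (.leaf 46) (.leaf 0))) (.node 37 (.node 36 (.leaf 0) (.leaf 0)) (.node 38 (.leaf 29) (.leaf 31))))) (.node 45 (.node 42 (.node 40 (.leaf 36) (.node 41 (.leaf 47) (.leaf 37))) (.node 43 (.leaf 48) (.node 44 (.leaf 50) (.leaf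 51)))) (.node 48 (.node 46 (.leaf 0) (.node 47 (.leaf 0) (.leaf 0))) (.node 50 (.node 49 (.leaf 52) (.leaf 0)) (.node 51 (.leaf 0) (.leaf 0)))))))
  neg := (.node 26 (.node 13 (.node 6 (.node 3 (.node 1 (.leaf false) (.node 2 (.leaf false) (.leaf false))) (.node 4 (.leaf false) (.node 5 (.leaf false) (.leaf false)))) (.node 9 (.node 7 (.leaf false) (.node 8 (.leaf false) (.leaf false))) (.node 11 (.node 10 (.leaf false) (.leaf false)) (.node 12 (.leaf false) (.leaf false))))) (.node 19 (.node 16 (.node 14 (.leaf false) (.node 15 (.leaf false) (.leaf false))) (.node 17 (.leaf false) (.node 18 (.leaf false) (.leaf false)))) (.node 22 (.node 20 (.leaf false) (.node 21 (.leaf false) (.leaf false))) (.node 24 (.node 23 (.leaf false) (.leaf false)) (.node 25 (.leaf false) (.leaf false)))))) (.node 39 (.node 32 (.node 29 (.node 27 (.leaf false) (.node 28 (.leaf false) (.leaf false))) (.node 30 (.leaf false) (.node 31 (.leaf false) (.leaf false))))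 (.node 35 (.node 33 (.leaf false) (.node 34 (.leaf false) (.leaf false))) (.node 37 (.node 36 (.leaf false) (.leaf false)) (.node 38 (.leaf false) (.leaf false))))) (.node 45 (.node 42 (.node 40 (.leaf false) (.node 41 (.leaf false) (.leaf false))) (.node 43 (.leaf false) (.node 44 (.leaf false) (.leaf false)))) (.node 48 (.node 46 (.leaf false) (.node 47 (.leaf false) (.leaf false))) (.node 50 (.node 49 (.leaf false) (.leaf false)) (.node 51 (.leaf false) (.leaf false)))))))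
  p := (.node 24 (.node 12 (.node 6 (.node 3 (.node 1 (.leaf 3) (.node 2 (.leaf 7) (.leaf 8))) (.node 4 (.leaf 0) (.node 5 (.leaf 9) (.leaf 11)))) (.node 9 (.node 7 (.leaf 18) (.node 8 (.leaf 1) (.leaf 2))) (.node 10 (.leaf 4) (.node 11 (.leaf 15) (.leaf 5))))) (.node 18 (.node 15 (.node 13 (.leaf 16) (.node 14 (.leaf 21) (.leaf 23))) (.node 16 (.leaf 10) (.node 17 (.leaf 12) (.leaf 19)))) (.node 21 (.node 19 (.leaf 6) (.node 20 (.leaf 17) (.leaf 22))) (.node 22 (.leaf 13) (.node 23 (.leaf 20) (.leaf 14)))))) (.node 36 (.node 30 (.node 27 (.node 25 (.leaf 33) (.node 26 (.leaf 27) (.leaf 34))) (.node 28 (.leaf 25) (.node 29 (.leaf 30) (.leaf 41)))) (.node 33 (.node 31 (.leaf 28) (.node 32 (.leaf 35) (.leaf 37))) (.node 34 (.leaf 24) (.node 35 (.leaf 26) (.leaf 31))))) (.node 42 (.node 39 (.node 37 (.leaf 42) (.node 38 (.leaf 32) (.leaf 43))) (.node 40 (.leaf 45) (.node 41 (.leaf 46) (.leaf 29)))) (.node 45 (.node 43 (.leaf 36) (.node 44 (.leaf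 38) (.leaf 47))) (.node 46 (.leaf 39) (.node 47 (.leaf 40) (.leaf 44)))))))
  lam := (.node 24 (.node 12 (.node 6 (.node 3 (.node 1 (.leaf 1) (.node 2 (.leaf 1) (.leaf 1))) (.node 4 (.leaf 2) (.node 5 (.leaf 1) (.leaf 1)))) (.node 9 (.node 7 (.leaf 1) (.node 8 (.leaf 2) (.leaf 2))) (.node 10 (.leaf 2) (.node 11 (.leaf 2) (.leaf 2))))) (.node 18 (.node 15 (.node 13 (.leaf 2) (.node 14 (.leaf 2) (.leaf 2))) (.node 16 (.leaf 1) (.node 17 (.leaf 1) (.leaf 1)))) (.node 21 (.node 19 (.leaf 2) (.node 20 (.leaf 2) (.leaf 2))) (.node 22 (.leaf 1) (.node 23 (.leaf 1) (.leaf 1)))))) (.node 36 (.node 30 (.node 27 (.node 25 (.leaf 1) (.node 26 (.leaf 1) (.leaf 1))) (.node 28 (.leaf 2) (.node 29 (.leaf 2) (.leaf 2)))) (.node 33 (.node 31 (.leaf 1) (.node 32 (.leaf 1) (.leaf 1))) (.node 34 (.leaf 2) (.node 35 (.leaf 2) (.leaf 2))))) (.node 42 (.node 39 (.node 37 (.leaf 2) (.node 38 (.leaf 2) (.leaf 2))) (.node 40 (.leaf 2) (.node 41 (.leaf 2) (.leaf 1))))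 (.node 45 (.node 43 (.leaf 1) (.node 44 (.leaf 1) (.leaf 2))) (.node 46 (.leaf 1) (.node 47 (.leaf 1) (.leaf 1)))))))
  eps := (.node 24 (.node 12 (.node 6 (.node 3 (.node 1 (.leaf false) (.node 2 (.leaf false) (.leaf false))) (.node 4 (.leaf false) (.node 5 (.leaf false) (.leaf false)))) (.node 9 (.node 7 (.leaf false) (.node 8 (.leaf false) (.leaf false))) (.node 10 (.leaf false) (.node 11 (.leaf false) (.leaf false))))) (.node 18 (.node 15 (.node 13 (.leaf false) (.node 14 (.leaf false) (.leaf false))) (.node 16 (.leaf false) (.node 17 (.leaf false) (.leaf false)))) (.node 21 (.node 19 (.leaf false) (.node 20 (.leaf false) (.leaf false))) (.node 22 (.leaf false) (.node 23 (.leaf false) (.leaf false)))))) (.node 36 (.node 30 (.node 27 (.node 25 (.leaf false) (.node 26 (.leaf false) (.leaf false))) (.node 28 (.leaf false) (.node 29 (.leaf false) (.leaf false)))) (.node 33 (.node 31 (.leaf false) (.node 32 (.leaf false) (.leaf false))) (.node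 34 (.leaf false) (.node 35 (.leaf false) (.leaf false))))) (.node 42 (.node 39 (.node 37 (.leaf false) (.node 38 (.leaf false) (.leaf false))) (.node 40 (.leaf false) (.node 41 (.leaf false) (.leaf false)))) (.node 45 (.node 43 (.leaf false) (.node 44 (.leaf false) (.leaf false))) (.node 46 (.leaf false) (.node 47 (.leaf false) (.leaf false)))))))

theorem chk_graphF4 : chkEmb Cfsg.Lie.chevF4 fastF4 graphF4 = true := by decide +kernel

theorem emb_graphF4 : Emb goodF4 fastF4 graphF4 := ⟨checksF4, chk_graphF4⟩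

end CfsgLib.Lie.Chev
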