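import Cfsg.Agent.Lib.Lie.Chev.Tw.Emb
import Cfsg.Agent.Lib.Lie.Chev.GoodG2

/-!
Intertwiner tables for type G2.
-/

set_option autoImplicit false
set_option maxRecDepth 100000

namespace CfsgLib.Lie.Chev

/-- the intertwiner for the node permutation [1, 0] of type G2 -/
noncomputable def graphG2 : EmbData where
  m := 3
  tgt := (.node 7 (.node 3 (.node 1 (.leaf 0) (.node 2 (.leaf 1) (.leaf 5))) (.node 5 (.node 4 (.leaf 6) (.leaf 0)) (.node 6 (.leaf 0) (.leaf 0)))) (.node 10 (.node 8 (.leaf 7) (.node 9 (.leaf 10) (.leaf 0))) (.node 12 (.node 11 (.leaf 0) (.leaf 0)) (.node 13 (.leaf 11) (.leaf 12)))))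
  src := (.node 7 (.node 3 (.node 1 (.leaf 2) (.node 2 (.leaf 0) (.leaf 0))) (.node 5 (.node 4 (.leaf 0) (.leaf 3)) (.node 6 (.leaf 4) (.leaf 8)))) (.node 10 (.node 8 (.leaf 0) (.node 9 (.leaf 0) (.leaf 9))) (.node 12 (.node 11 (.leaf 13) (.leaf 14)) (.node 13 (.leaf 0) (.leaf 0)))))
  neg := (.node 7 (.node 3 (.node 1 (.leaf false) (.node 2 (.leaf false) (.leaf false))) (.node 5 (.node 4 (.leaf false) (.leaf false)) (.node 6 (.leaf false) (.leaf false)))) (.node 10 (.node 8 (.leaf false) (.node 9 (.leaf false) (.leaf false))) (.node 12 (.node 11 (.leaf false) (.leaf false)) (.node 13 (.leaf false) (.leaf false)))))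
  p := (.node 6 (.node 3 (.node 1 (.leaf 2) (.node 2 (.leaf 3) (.leaf 0))) (.node 4 (.leaf 1) (.node 5 (.leaf 5) (.leaf 4)))) (.node 9 (.node 7 (.leaf 7) (.node 8 (.leaf 6) (.leaf 10))) (.node 10 (.leaf 11) (.node 11 (.leaf 8) (.leaf 9)))))
  lam := (.node 6 (.node 3 (.node 1 (.leaf 1) (.node 2 (.leaf 1) (.leaf 3))) (.node 4 (.leaf 3) (.node 5 (.leaf 3) (.leaf 1)))) (.node 9 (.node 7 (.leaf 1) (.node 8 (.leaf 3) (.leaf 3))) (.node 10 (.leaf 3) (.node 11 (.leaf 1) (.leaf 1)))))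
  eps := (.node 6 (.node 3 (.node 1 (.leaf false) (.node 2 (.leaf false) (.leaf false))) (.node 4 (.leaf false) (.node 5 (.leaf false) (.leaf false)))) (.node 9 (.node 7 (.leaf false) (.node 8 (.leaf false) (.leaf false))) (.node 10 (.leaf false) (.node 11 (.leaf false) (.leaf false)))))

theorem chk_graphG2 : chkEmb Cfsg.Lie.chevG2 fastG2 graphG2 = true := by decide +kernel

theorem emb_graphG2 : Emb goodG2 fastG2 graphG2 := ⟨checksG2, chk_graphG2⟩

end CfsgLib.Lie.Chev
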