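import Cfsg.Agent.Lib.Lie.Chev.Tw.Orbits
import Cfsg.Agent.Lib.Lie.Chev.Simple

/-!
# The group generated by the root subgroups supported in a set of nodes
-/

set_option autoImplicit false

namespace CfsgLib.Lie.Chev

open Cfsg.Lie
open scoped MatrixGroups

variable {D : ChevalleyDatum} {K : Type*} [Field K]

/-- the group generated by the root subgroups supported in `J` -/
noncomputable def LJ (G : Good D) (J : Finset (Fin D.rank)) : Subgroup (GL D.Idx K) :=
  Subgroup.closure {g | ∃ r t, InJ G J r ∧ g = G.xu r t}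

/-- only coordinates whose weights agree outside `J` are connected -/
def GradedJ (G : Good D) (J : Finset (Fin D.rank)) (M : Matrix D.Idx D.Idx K) : Prop :=
  ∀ a b, M a b ≠ 0 → ∀ m, m ∉ J → weight D G.rho a m = weight D G.rho b m

namespace Good

variable (G : Good D) {J : Finset (Fin D.rank)}

include G

theorem gradedJ_mul {M N : Matrix D.Idx D.Idx K} (hM : GradedJ G J M) (hN : GradedJ G J N) :
    GradedJ G J (M * N) := by
  intro a b hab m hm
  rw [Matrix.mul_apply] at hab
  obtain ⟨c, -, hc⟩ := Finset.exists_ne_zero_of_sum_ne_zero hab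
  rw [hM a c (left_ne_zero_of_mul hc) m hm, hN c b (right_ne_zero_of_mul hc) m hm]

theorem gradedJ_one : GradedJ G J (1 : Matrix D.Idx D.Idx K) := by
  intro a b hab m _
  by_cases e : a = b
  · rw [e]
  · exact absurd (Matrix.one_apply_ne e) hab

theorem gradedJ_xu {r : Fin D.nroots} (hr : InJ G J r) (t : K) :
    GradedJ G J (G.xu r t : Matrix D.Idx D.Idx K) := by
  intro a b hab m hm
  by_cases e : a = b
  · rw [e]
  rw [coe_xu, xg_apply, if_neg e] at hab
  have hex : ∃ k, 1 ≤ k ∧ k < 4 ∧ coef (act D r.val k (pos D b)) (pos D a) ≠ 0 := by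
    by_contra h
    simp only [not_exists, not_and, not_not] at h
    rw [h 1 le_rfl (by norm_num), h 2 (by norm_num) (by norm_num), h 3 (by norm_num) (by norm_num)] at hab
    simp at hab
  obtain ⟨k, hk1, hk4, hk⟩ := hex
  have hd : dmat D r k a b ≠ 0 := by simpa [dmat, show k ≠ 0 by omega] using hk
  rw [G.weight_eq r k a b hd hk4, Pi.add_apply, Pi.smul_apply, hr m hm, smul_zero, add_zero]

theorem gradedJ_LJ {g : GL D.Idx K} (hg : g ∈ (LJ G J : Subgroup (GL D.Idx K))) :
    GradedJ G J (g : Matrix D.Idx D.Idx K) := by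
  induction hg using Subgroup.closure_induction'' with
  | one => exact G.gradedJ_one
  | mul x y _ _ hx hy => rw [Units.val_mul]; exact G.gradedJ_mul hx hy
  | mem x hx => obtain ⟨r, t, hr, rfl⟩ := hx; exact G.gradedJ_xu hr t
  | inv_mem x hx => obtain ⟨r, t, hr, rfl⟩ := hx; rw [G.xu_inv]; exact G.gradedJ_xu hr _

theorem gradedJ_H {g : GL D.Idx K} (hg : g ∈ D.diagonalSubgroup K) :
    GradedJ G J (g : Matrix D.Idx D.Idx K) := by
  intro a b hab m _
  obtain ⟨c, rfl⟩ := G.exists_tor hg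
  by_cases e : a = b
  · rw [e]
  · rw [coe_tor, Matrix.diagonal_apply_ne _ e] at hab
    exact absurd rfl hab

theorem nw_mem_LJ {l : List (Fin D.rank)} (hl : ∀ i ∈ l, i ∈ J) :
    G.nw l ∈ (LJ G J : Subgroup (GL D.Idx K)) :=
  list_prod_mem fun x hx => by
    obtain ⟨i, hi, rfl⟩ := List.mem_map.1 hx
    refine mul_mem (mul_mem ?_ ?_) ?_ <;> refine Subgroup.subset_closure ⟨_, _, ?_, rfl⟩
    · exact G.inJ_simp (hl i hi)
    · exact G.inJ_negr (G.inJ_simp (hl i hi))
    · exact G.inJ_simp (hl i hi)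

end Good

namespace Orbits

variable {G : Good D} {p : Equiv.Perm (Fin D.nroots)} {ι : Type} (O : Orbits G p ι)

include O

theorem Uinv_le_LJ (k : ι) :
    (Uinv G (O.wO k) : Subgroup (GL D.Idx K)) ≤ LJ G (O.J k) := by
  rw [Uinv, Subgroup.closure_le]
  rintro g ⟨r, t, ⟨hr, hneg⟩, rfl⟩
  exact Subgroup.subset_closure ⟨r, t, not_not.1 fun h => hneg ((O.wO_pos_iff hr).2 h), rfl⟩

/-- the parabolic subgroup containing the Levi part -/
theorem LJ_le_parabolic (C : Full D) (hC : C.G = G) (k : ι) {g : GL D.Idx K}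
    (hg : g ∈ (LJ G (O.J k) : Subgroup (GL D.Idx K))) (h : g ∈ D.group K) :
    (⟨g, h⟩ : ↥(D.group K)) ∈ (C.bnPair (K := K)).parabolic (C.sG '' (O.J k : Set (Fin D.rank))) := by
  subst hC
  set P := (C.bnPair (K := K)).parabolic (C.sG '' (O.J k : Set (Fin D.rank)))
  set w : ↥(D.group K) := ((O.wl k).map C.sG).prod with hw
  have hwP : w ∈ P := by
    refine Subgroup.mem_sup_right (list_prod_mem fun x hx => ?_)
    obtain ⟨i, hi, rfl⟩ := List.mem_map.1 hx
    exact Subgroup.subset_closure ⟨i, O.wl_mem k i hi, rfl⟩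
  have hwv : (w : GL D.Idx K) = C.G.nw (O.wl k) := by
    rw [hw, Subgroup.val_list_prod, List.map_map]; rfl
  have hB : ∀ r t, D.IsPosRoot (r : Fin D.nroots).val →
      (⟨C.G.xu r t, C.G.xu_mem r t⟩ : ↥(D.group K)) ∈ P := fun r t hr =>
    Subgroup.mem_sup_left (Subgroup.mem_sup_left (C.G.xu_mem_U hr t))
  have hle : (LJ C.G (O.J k) : Subgroup (GL D.Idx K)) ≤ P.map (D.group K).subtype := by
    rw [LJ, Subgroup.closure_le]
    rintro x ⟨r, t, hr, rfl⟩
    by_cases hp : D.IsPosRoot r.val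
    · exact ⟨⟨_, C.G.xu_mem r t⟩, hB r t hp, rfl⟩
    · set r' := O.wO k r
      have hr' : D.IsPosRoot r'.val := by
        have h2 := (O.wO_pos_iff ((C.G.negr_pos_iff r).2 hp)).not.2 (not_not.2 (C.G.inJ_negr hr))
        rw [C.G.Wg_negr (mem_Wp.1 (O.wO_mem k)).1, C.G.negr_pos_iff, not_not] at h2
        exact h2
      obtain ⟨c, hc⟩ := C.G.nPerm_nw (K := K) (O.wl k) r'
      have e : C.G.pw (O.wl k) r' = r := DFunLike.congr_fun (O.wO_mul_self k) r
      rw [e] at hc
      refine ⟨w * ⟨C.G.xu r' ((c : K)⁻¹ * t), C.G.xu_mem _ _⟩ * w⁻¹,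
        mul_mem (mul_mem hwP (hB _ _ hr')) (inv_mem hwP), ?_⟩
      simp only [Subgroup.coe_subtype, Subgroup.coe_mul, Subgroup.coe_inv, hwv, hc]
      rw [mul_inv_cancel_left₀ c.ne_zero]
  obtain ⟨y, hy, e⟩ := hle hg
  exact (Subtype.ext e : y = ⟨g, h⟩) ▸ hy

end Orbits

namespace Full

variable (C : Full D)

include C

/-- the Bruhat cell of an element of a parabolic subgroup -/
theorem mem_WJ_of_parabolic {J : Finset (Fin D.rank)} {g : GL D.Idx K} (h : g ∈ D.group K)
    (hg : (⟨g, h⟩ : ↥(D.group K)) ∈ (C.bnPair (K := K)).parabolic (C.sG '' (J : Set (Fin D.rank))))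
    {b m u : GL D.Idx K} (hb : b ∈ D.borelSubgroup K) (hm : m ∈ D.monomialSubgroup K)
    (hu : u ∈ D.borelSubgroup K) {π : Equiv.Perm (Fin D.nroots)} (hπ : C.G.NPerm m π)
    (e : g = b * m * u) : π ∈ WJ C.G J := by
  rw [BN.mem_parabolic_iff (C.bnPair (K := K)) (Set.image_subset_range _ _)] at hg
  obtain ⟨n, hn, hcell⟩ := hg
  have hnN : n ∈ (C.bnPair (K := K)).N := (Subgroup.closure_le _).2
    (fun x hx => BN.S_mem _ (Set.image_subset_range _ _ hx)) hn
  obtain ⟨τ, hτ, hnτ⟩ := C.nPerm_WJ (J := J) (n := n) (Subgroup.closure_mono (by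
    rintro x ⟨i, hi, rfl⟩
    exact ⟨i, hi, rfl⟩) hn)
  obtain ⟨b', hb', c', hc', e'⟩ := (BN.mem_cell _).1 hcell
  have hh := C.eqv_mem_H (n := (n : GL D.Idx K)) (n' := m) hnN hm
    (show (b' : GL D.Idx K) ∈ D.borelSubgroup K from hb') hb
    (show (c' : GL D.Idx K) ∈ D.borelSubgroup K from hc') hu
    ((congrArg Subtype.val e').symm.trans e)
  have := Good.NPerm.unique C.G hπ (by
    have := Good.NPerm.mul C.G hnτ (C.G.nPerm_H hh)
    rwa [mul_one, mul_inv_cancel_left] at this)
  exact this ▸ hτ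

theorem uprod_eq_one_of_graded {J : Finset (Fin D.rank)} (t : Fin D.nroots → K)
    (ht : ∀ r : Fin D.nroots, D.IsPosRoot r.val → InJ C.G J r → t r = 0) :
    ∀ (d m : ℕ), m + d = D.nroots →
      GradedJ C.G J (C.uprod m t : Matrix D.Idx D.Idx K) → C.uprod m t = 1 := by
  intro d
  induction d with
  | zero => intro m hm _; exact C.uprod_of_ge (by omega) t
  | succ d ih =>
    intro m hm hg
    have hlt : m < D.nroots := by omega
    by_cases hp : D.IsPosRoot m
    · set r : Fin D.nroots := ⟨m, hlt⟩ with hr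
      have hzero : t r = 0 := by
        by_cases hin : InJ C.G J r
        · exact ht r hp hin
        by_contra hne
        obtain ⟨c, hc⟩ := C.G.coroot_gcd r
        simp only [InJ, not_forall] at hin
        obtain ⟨q, hq, hq0⟩ := hin
        have hj : ∀ j : Fin D.rank, t r * ((D.coroot.getD r.val #[]).getD j.val 0 : ℤ) = 0 := by
          intro j
          by_contra h
          rw [← C.G.entry_lowest (r := r) hp (t r) (C.uprod_mem (m + 1) t) j,
            ← C.uprod_step hlt hp t] at h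
          have := hg _ _ h q hq
          simp only [weight, Sum.elim_inl, Sum.elim_inr, Pi.zero_apply, C.G.rho_negr, Pi.neg_apply] at this
          exact hq0 (by omega)
        refine hne ?_
        have hsum : t r * ((∑ j, c j * (D.coroot.getD r.val #[]).getD j.val 0 : ℤ) : K) = 0 := by
          push_cast
          rw [Finset.mul_sum]
          exact Finset.sum_eq_zero fun j _ => by rw [mul_left_comm, hj j, mul_zero]
        rwa [hc, Int.cast_one, mul_one] at hsum
      rw [C.uprod_step hlt hp, ← hr, hzero, C.G.xu_zero, one_mul] at hg ⊢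
      exact ih (m + 1) (by omega) hg
    · rw [C.uprod_skip hlt hp] at hg ⊢
      exact ih (m + 1) (by omega) hg

/-- an element of the kept part in the Levi subgroup is trivial -/
theorem eq_one_of_graded_keep {J : Finset (Fin D.rank)} {π : Equiv.Perm (Fin D.nroots)}
    {n : GL D.Idx K} (hn : C.G.NPerm n π)
    (hπ : ∀ r : Fin D.nroots, D.IsPosRoot r.val → InJ C.G J r → ¬ D.IsPosRoot (π r).val)
    {a : GL D.Idx K} (ha : a ∈ (Ukeep C.G π : Subgroup (GL D.Idx K)))
    (hg : GradedJ C.G J (a : Matrix D.Idx D.Idx K)) : a = 1 := by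
  classical
  obtain ⟨t, ht⟩ := C.exists_mix (fun r => D.IsPosRoot (π r).val) D.nroots 0 (Nat.zero_add _) a
    (C.G.posUnipotent_eq (K := K) ▸ C.G.Ukeep_le π ha)
  have hk := C.uprod_mem_closure (fun r => D.IsPosRoot (π r).val)
    (fun r => if D.IsPosRoot (π r).val then t r else 0) fun r _ h => if_neg h
  have hi := inv_mem (C.uprod_mem_closure (fun r => ¬ D.IsPosRoot (π r).val)
    (fun r => if D.IsPosRoot (π r).val then 0 else -t r) fun r _ h => if_pos (not_not.1 h))
  have h1 : (C.uprod 0 fun r => if D.IsPosRoot (π r).val then 0 else -t r)⁻¹ ∈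
      (Ukeep C.G π : Subgroup (GL D.Idx K)) := by
    have := mul_mem (inv_mem hk) ha
    rw [ht, ← mul_assoc, inv_mul_cancel, one_mul] at this
    exact this
  have h2 := Subgroup.mem_bot.1 (C.G.Ukeep_inf_Uinv hn ▸ Subgroup.mem_inf.2 ⟨h1, hi⟩)
  rw [h2, mul_one] at ht
  rw [ht] at hg ⊢
  exact C.uprod_eq_one_of_graded _ (fun r hr hin => if_neg (hπ r hr hin)) D.nroots 0 (Nat.zero_add _) hg

end Full

end CfsgLib.Lie.Chev
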