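import Cfsg.Agent.Lib.Lie.Chev.Tw.Tools3
import Cfsg.Agent.Lib.Lie.Chev.Tw.DataF4
import Cfsg.Agent.Lib.Lie.Chev.Tw.OrbGraphF4
import Cfsg.Agent.Lib.Lie.Chev.CommF4
import Cfsg.Prelude.Def_LieTwisted

/-!
# The groups of type ²F₄

The field automorphism `θ` satisfies `θ⁻¹ x = (θ x)²`.
-/

set_option autoImplicit false
set_option maxRecDepth 100000

namespace CfsgLib.Lie.Chev

open Cfsg.Lie
open scoped MatrixGroups

namespace TF4

/-- the verified datum -/
noncomputable def C : Full chevF4 := ⟨goodF4, fastF4, rowsOK chkRows_F4, chkComm_F4⟩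

theorem emb : Emb C.G fastF4 graphF4 := emb_graphF4

/-- the permutation of the nodes -/
def node : Tree ℕ := .node 2 (.node 1 (.leaf 3) (.leaf 2)) (.node 3 (.leaf 1) (.leaf 0))

theorem chk : chkTwist chevF4 fastF4 graphF4 node = true := by decide +kernel

theorem lam_cases : ∀ r : Fin chevF4.nroots, graphF4.lam.get r.val = 1 ∨ graphF4.lam.get r.val = 2 := by
  decide +kernel

/-- a root index -/
def rt (i : ℕ) (h : i < chevF4.nroots := by decide +kernel) : Fin chevF4.nroots := ⟨i, h⟩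

/-- a node index -/
def nd (i : ℕ) (h : i < chevF4.rank := by decide +kernel) : Fin chevF4.rank := ⟨i, h⟩

variable {K : Type*} [Field K] [CharP K 2]

theorem inj : Function.Injective (emb.rtgt (K := K) (hm := CharP.cast_eq_zero K 2)) := by
  haveI := (C.isSimpleGroup (K := K) connectedF4 (C.G.commutator_eq_top (inDerF4 C)) (rt 0)).1
  haveI : CharP K graphF4.m := ‹CharP K 2›
  exact emb.rtgt_injective_of_witness (rt 0) (Sum.inr (rt 1)) (Sum.inr (rt 24)) (by decide +kernel)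

variable (θ : K ≃+* K) (hsq : ∀ x, θ.symm x = θ x ^ 2)

/-- the twist for a field automorphism -/
noncomputable def twist : Twist C.G K :=
  emb.mkTwist chk (CharP.cast_eq_zero K 2) inj θ
    (fun r => if graphF4.lam.get r.val = 2 then θ.symm else θ) fun r x => by
    rcases lam_cases r with h | h
    · rw [if_neg (by rw [h]; decide), h, pow_one]
    · rw [if_pos h, h, hsq]

/-- the orbits -/
noncomputable def orbits : Orbits C.G (twist θ hsq).p (Fin orbGraphF4.no) :=
  orbGraphF4.orbits checksF4 chkOrb_graphF4 _ fun r => by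
    show graphF4.p.get r.val = _
    revert r; decide +kernel

theorem p_eq {r s : Fin chevF4.nroots} (h : graphF4.p.get r.val = s.val) :
    (twist θ hsq).p r = s :=
  Fin.ext h

theorem eps_one {r : Fin chevF4.nroots} (h : graphF4.eps.get r.val = false) :
    (twist θ hsq).eps r = 1 := by
  show (sgnB (graphF4.eps.get r.val) : K) = 1
  rw [h]; simp [sgnB]

theorem σ_short {r : Fin chevF4.nroots} (h : graphF4.lam.get r.val = 2) (x : K) :
    (twist θ hsq).σ r x = θ.symm x := by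
  show (if graphF4.lam.get r.val = 2 then θ.symm else θ) x = _
  rw [if_pos h]

theorem σ_long {r : Fin chevF4.nroots} (h : graphF4.lam.get r.val = 1) (x : K) :
    (twist θ hsq).σ r x = θ x := by
  show (if graphF4.lam.get r.val = 2 then θ.symm else θ) x = _
  rw [if_neg (by rw [h]; decide)]

theorem node_eq : ∀ j : Fin chevF4.rank, ((twist θ hsq).node j).val = node.get j.val := fun _ => rfl

theorem negr_rt : C.G.negr (rt 33) = rt 14 ∧ C.G.negr (rt 24) = rt 23 ∧ C.G.negr (rt 27) = rt 20 ∧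
    C.G.negr (rt 25) = rt 22 ∧ C.G.negr (rt 28) = rt 19 ∧ C.G.negr (rt 30) = rt 17 := by
  refine ⟨?_, ?_, ?_, ?_, ?_, ?_⟩ <;> refine Fin.ext ((C.G.negr_val _).trans ?_) <;> decide +kernel

theorem simp_rt : C.G.simp' (nd 0) = rt 33 ∧ C.G.simp' (nd 1) = rt 27 ∧ C.G.simp' (nd 2) = rt 25 ∧
    C.G.simp' (nd 3) = rt 24 := by
  refine ⟨?_, ?_, ?_, ?_⟩ <;> refine Fin.ext ((C.G.simp_val _).trans ?_) <;> decide +kernel

/-- commuting root subgroups -/
theorem comm_of {a b : Fin chevF4.nroots}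
    (h : b.val ≠ a.val ∧ b.val ≠ chevF4.neg a.val ∧ chevF4.commTerms a.val b.val = []) (t u : K) :
    Commute (C.G.xu a t) (C.G.xu b u) :=
  C.xu_commute (fun e => h.1 (congrArg Fin.val e))
    (fun e => h.2.1 ((congrArg Fin.val e).trans (C.G.negr_val a))) h.2.2 t u

/-- the commutator relation of a class of type B₂ -/
theorem b2_comm {a b c d : Fin chevF4.nroots}
    (h : a.val ≠ b.val ∧ a.val ≠ chevF4.neg b.val ∧
      (chevF4.commTerms b.val a.val).map (fun z => (z.1, z.2.1 % 2, z.2.2)) =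
        [(c.val, (1 : ℤ), 1, 1), (d.val, 1, 1, 2)]) (A B : K) :
    C.G.xu a A * C.G.xu b B = C.G.xu b B * C.G.xu a A * (C.G.xu c (A * B) * C.G.xu d (A * A * B)) := by
  obtain ⟨h1, h2, h3⟩ := h
  have hc := C.commAt b a (fun e => h1 (congrArg Fin.val e))
    (fun e => h2 ((congrArg Fin.val e).trans (C.G.negr_val b))) B A
  have hw : cwR chevF4 b.val a.val B A = [(c.val, A * B), (d.val, A * A * B)] := by
    have hz : ∀ z : ℤ, (z : K) = ((z % 2 : ℤ) : K) := fun z => by
      have h2 : ((2 : ℤ) : K) = 0 := (CharP.intCast_eq_zero_iff K 2 2).2 dvd_rfl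
      have : (z : K) = ((z % 2 + 2 * (z / 2) : ℤ) : K) := by rw [Int.emod_add_mul_ediv]
      rw [this, Int.cast_add, Int.cast_mul, h2, zero_mul, add_zero]
    have e : cwR chevF4 b.val a.val B A =
        ((chevF4.commTerms b.val a.val).map (fun z => (z.1, z.2.1 % 2, z.2.2))).map
          (fun z : ℕ × ℤ × ℕ × ℕ => (z.1, ((z.2.1 : ℤ) : K) * (-B) ^ z.2.2.1 * A ^ z.2.2.2)) := by
      rw [cwR, List.map_map]
      refine List.map_congr_left fun z _ => ?_
      show (z.1, (z.2.1 : K) * (-B) ^ z.2.2.1 * A ^ z.2.2.2) =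
        (z.1, ((z.2.1 % 2 : ℤ) : K) * (-B) ^ z.2.2.1 * A ^ z.2.2.2)
      rw [hz z.2.1]
    rw [e, h3]
    simp [CharTwo.neg_eq, mul_comm, pow_two]
  unfold CommAt at hc
  rw [hw, wordR_cons, wordR_cons, wordR_nil, mul_one, xN, xN, dif_pos c.isLt, dif_pos d.isLt] at hc
  exact Units.ext hc

/-- the element of the pair class -/
noncomputable def p2 (a b : Fin chevF4.nroots) (t : K) : GL chevF4.Idx K :=
  C.G.xu a (θ t) * C.G.xu b t

/-- the element of the class of type B₂ -/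
noncomputable def b2 (a b c d : Fin chevF4.nroots) (t u : K) : GL chevF4.Idx K :=
  C.G.xu a (θ t) * C.G.xu b t * C.G.xu c (θ t * t + u) * C.G.xu d (θ.symm u)

include hsq in
theorem p2_fix {a b : Fin chevF4.nroots}
    (hd : graphF4.p.get a.val = b.val ∧ graphF4.p.get b.val = a.val ∧
      graphF4.lam.get a.val = 2 ∧ graphF4.lam.get b.val = 1 ∧
      graphF4.eps.get a.val = false ∧ graphF4.eps.get b.val = false ∧
      b.val ≠ a.val ∧ b.val ≠ chevF4.neg a.val ∧ chevF4.commTerms a.val b.val = [])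
    (t : K) : p2 θ a b t ∈ (twist θ hsq).Fix := by
  obtain ⟨e1, e2, e3, e4, e5, e6, e7⟩ := hd
  have h := (twist θ hsq).mem_Fix_list [(a, θ t), (b, t)] (by
    simp only [List.map_cons, List.map_nil, List.prod_cons, List.prod_nil, mul_one,
      p_eq θ hsq e1, p_eq θ hsq e2, eps_one θ hsq e5, eps_one θ hsq e6, σ_short θ hsq e3,
      σ_long θ hsq e4, one_mul, RingEquiv.symm_apply_apply]
    exact (comm_of e7 _ _).eq.symm)
  simpa [p2] using h

/-- the data of a class of type B₂ -/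
def B2Dat (a b c d : Fin chevF4.nroots) : Prop :=
  (graphF4.p.get a.val = b.val ∧ graphF4.p.get b.val = a.val ∧ graphF4.p.get c.val = d.val ∧
    graphF4.p.get d.val = c.val) ∧
  (graphF4.lam.get a.val = 2 ∧ graphF4.lam.get b.val = 1 ∧ graphF4.lam.get c.val = 2 ∧
    graphF4.lam.get d.val = 1) ∧
  (graphF4.eps.get a.val = false ∧ graphF4.eps.get b.val = false ∧ graphF4.eps.get c.val = false ∧
    graphF4.eps.get d.val = false) ∧
  (a.val ≠ b.val ∧ a.val ≠ chevF4.neg b.val ∧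
    (chevF4.commTerms b.val a.val).map (fun z => (z.1, z.2.1 % 2, z.2.2)) =
      [(c.val, (1 : ℤ), 1, 1), (d.val, 1, 1, 2)]) ∧
  (c.val ≠ d.val ∧ c.val ≠ chevF4.neg d.val ∧ chevF4.commTerms d.val c.val = [])

noncomputable instance (a b c d : Fin chevF4.nroots) : Decidable (B2Dat a b c d) := by
  unfold B2Dat; infer_instance

theorem dat : B2Dat (rt 27) (rt 25) (rt 28) (rt 30) ∧ B2Dat (rt 20) (rt 22) (rt 19) (rt 17) := by
  decide +kernel

include hsq in
/-- the sorted form of the element of the class of type B₂ -/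
theorem b2_sorted {a b c d : Fin chevF4.nroots} (hd : B2Dat a b c d) (t u : K) :
    b2 θ a b c d t u = C.G.xu b t * C.G.xu a (θ t) * C.G.xu c u *
      C.G.xu d (θ.symm t * t + θ.symm u) := by
  have hc := comm_of (K := K) hd.2.2.2.2
  rw [b2, b2_comm hd.2.2.2.1]
  have e1 : C.G.xu c (θ t * t + u) = C.G.xu c (θ t * t) * C.G.xu c u := C.G.xu_add _ _ _
  have e2 : θ t * θ t * t = θ.symm t * t := by rw [hsq, pow_two]
  rw [e2]
  calc C.G.xu b t * C.G.xu a (θ t) * (C.G.xu c (θ t * t) * C.G.xu d (θ.symm t * t)) *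
        C.G.xu c (θ t * t + u) * C.G.xu d (θ.symm u)
      = C.G.xu b t * C.G.xu a (θ t) * C.G.xu c (θ t * t) *
          (C.G.xu d (θ.symm t * t) * C.G.xu c (θ t * t + u)) * C.G.xu d (θ.symm u) := by
        simp only [mul_assoc]
    _ = C.G.xu b t * C.G.xu a (θ t) * (C.G.xu c (θ t * t) * C.G.xu c (θ t * t + u)) *
          (C.G.xu d (θ.symm t * t) * C.G.xu d (θ.symm u)) := by
        rw [(hc _ _).eq]; simp only [mul_assoc]
    _ = _ := by
        rw [← C.G.xu_add, ← C.G.xu_add, ← add_assoc, CharTwo.add_self_eq_zero, zero_add]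

include hsq in
theorem b2_fix {a b c d : Fin chevF4.nroots} (hd : B2Dat a b c d) (t u : K) :
    b2 θ a b c d t u ∈ (twist θ hsq).Fix := by
  have hs := b2_sorted θ hsq hd t u
  obtain ⟨⟨p1, p2', p3, p4⟩, ⟨l1, l2, l3, l4⟩, ⟨e1, e2, e3, e4⟩, -, hc⟩ := hd
  have h := (twist θ hsq).mem_Fix_list [(a, θ t), (b, t), (c, θ t * t + u), (d, θ.symm u)] (by
    simp only [List.map_cons, List.map_nil, List.prod_cons, List.prod_nil, mul_one,
      p_eq θ hsq p1, p_eq θ hsq p2', p_eq θ hsq p3, p_eq θ hsq p4, eps_one θ hsq e1,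
      eps_one θ hsq e2, eps_one θ hsq e3, eps_one θ hsq e4, σ_short θ hsq l1, σ_short θ hsq l3,
      σ_long θ hsq l2, σ_long θ hsq l4, one_mul, map_add, map_mul, RingEquiv.symm_apply_apply,
      RingEquiv.apply_symm_apply, ← mul_assoc]
    rw [mul_assoc _ (C.G.xu d _), (comm_of hc _ _).eq, ← mul_assoc, mul_comm t (θ.symm t)]
    exact hs.symm)
  simpa [b2, mul_assoc] using h

section

variable {e : ℕ} (hθ : ∀ x, θ x = x ^ e)

include hθ

theorem pair_mem (t : K) :
    p2 θ (rt 33) (rt 24) t ∈ twistedF4 K e ∧ p2 θ (rt 14) (rt 23) t ∈ twistedF4 K e := by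
  have key : ∀ a b : Fin chevF4.nroots, (a.val = f4p1 ∧ b.val = f4p4) ∨ (a.val = f4m1 ∧ b.val = f4m4) →
      p2 θ a b t ∈ twistedF4 K e := fun a b hab => by
    have h := C.G.mem_gen (S := f4Words K e) [(a, θ t), (b, t)] (Or.inl ⟨t, by
      rcases hab with ⟨ha, hb⟩ | ⟨ha, hb⟩
      · exact Or.inl (by simp [f4PairWord, ha, hb, hθ])
      · exact Or.inr (by simp [f4PairWord, ha, hb, hθ])⟩)
    simpa [twistedF4, p2] using h
  exact ⟨key _ _ (Or.inl ⟨rfl, rfl⟩), key _ _ (Or.inr ⟨rfl, rfl⟩)⟩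

include hsq

theorem b2_mem (t u : K) :
    b2 θ (rt 27) (rt 25) (rt 28) (rt 30) t u ∈ twistedF4 K e ∧
      b2 θ (rt 20) (rt 22) (rt 19) (rt 17) t u ∈ twistedF4 K e := by
  have hu : θ.symm u = u ^ (2 * e) := by rw [hsq, hθ, ← pow_mul, mul_comm]
  have key : ∀ a b c d : Fin chevF4.nroots,
      (a.val = f4a ∧ b.val = f4b ∧ c.val = f4ab ∧ d.val = f4aab) ∨
      (a.val = f4ma ∧ b.val = f4mb ∧ c.val = f4mab ∧ d.val = f4maab) →
      b2 θ a b c d t u ∈ twistedF4 K e := fun a b c d hab => by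
    have h := C.G.mem_gen (S := f4Words K e)
      [(a, θ t), (b, t), (c, θ t * t + u), (d, θ.symm u)] (Or.inr ⟨t, u, by
      rcases hab with ⟨ha, hb, hc, hd⟩ | ⟨ha, hb, hc, hd⟩
      · exact Or.inl (by simp [b2ClassWord, ha, hb, hc, hd, hθ, hu, pow_succ])
      · exact Or.inr (by simp [b2ClassWord, ha, hb, hc, hd, hθ, hu, pow_succ])⟩)
    simpa [twistedF4, b2, mul_assoc] using h
  exact ⟨key _ _ _ _ (Or.inl ⟨rfl, rfl, rfl, rfl⟩), key _ _ _ _ (Or.inr ⟨rfl, rfl, rfl, rfl⟩)⟩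

theorem le_Fix : twistedF4 K e ≤ (twist θ hsq).Fix := by
  refine C.G.gen_le fun w hw => ?_
  have hu : ∀ u : K, θ.symm u = u ^ (2 * e) := fun u => by rw [hsq, hθ, ← pow_mul, mul_comm]
  rcases hw with ⟨t, hw⟩ | ⟨t, u, hw⟩
  · rcases hw with rfl | rfl
    · exact ⟨[(rt 33, θ t), (rt 24, t)], by simp [f4PairWord, rt, f4p1, f4p4, hθ],
        by simpa [p2] using p2_fix θ hsq (a := rt 33) (b := rt 24) (by decide +kernel) t⟩
    · exact ⟨[(rt 14, θ t), (rt 23, t)], by simp [f4PairWord, rt, f4m1, f4m4, hθ],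
        by simpa [p2] using p2_fix θ hsq (a := rt 14) (b := rt 23) (by decide +kernel) t⟩
  · rcases hw with rfl | rfl
    · exact ⟨[(rt 27, θ t), (rt 25, t), (rt 28, θ t * t + u), (rt 30, θ.symm u)],
        by simp [b2ClassWord, rt, f4a, f4b, f4ab, f4aab, hθ, hu, pow_succ],
        by simpa [b2, mul_assoc] using b2_fix θ hsq dat.1 t u⟩
    · exact ⟨[(rt 20, θ t), (rt 22, t), (rt 19, θ t * t + u), (rt 17, θ.symm u)],
        by simp [b2ClassWord, rt, f4ma, f4mb, f4mab, f4maab, hθ, hu, pow_succ],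
        by simpa [b2, mul_assoc] using b2_fix θ hsq dat.2 t u⟩

end

/-- the orbit of two orthogonal roots -/
def o0 : Fin orbGraphF4.no := ⟨0, by decide +kernel⟩

/-- the orbit of type B₂ -/
def o1 : Fin orbGraphF4.no := ⟨1, by decide +kernel⟩

theorem o_cases (o : Fin orbGraphF4.no) : o = o0 ∨ o = o1 := by revert o; decide +kernel

/-- the positive roots moved by the orbits -/
def L : Fin orbGraphF4.no → List (Fin chevF4.nroots) := fun o =>
  if o.val = 0 then [rt 24, rt 33] else [rt 25, rt 27, rt 28, rt 30]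

theorem L_spec : ∀ o : Fin orbGraphF4.no, ((List.range chevF4.nroots).filter fun r =>
    decide (chevF4.nroots / 2 ≤ r) && decide (digit (orbGraphF4.tab.get o.val) r < chevF4.nroots / 2)) =
    (L o).map Fin.val := by decide +kernel

theorem wO_val (o : Fin orbGraphF4.no) (r : Fin chevF4.nroots) :
    ((orbits θ hsq).wO o r).val = digit (orbGraphF4.tab.get o.val) r.val := by
  show (C.G.pw (orbGraphF4.wl chevF4 o) r).val = _
  rw [C.G.pw_val checksF4, OrbData.wl_val chkOrb_graphF4]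
  exact ((OrbData.spec chkOrb_graphF4 o.val o.isLt).2.2.2.1 r.val r.isLt).symm

theorem L_eq (o : Fin orbGraphF4.no) : (List.finRange chevF4.nroots).filter (fun r =>
    decide (chevF4.IsPosRoot r.val ∧ ¬ chevF4.IsPosRoot ((orbits θ hsq).wO o r).val)) = L o := by
  refine List.map_injective_iff.2 Fin.val_injective ?_
  rw [← L_spec o, ← List.map_coe_finRange_eq_range, List.filter_map]
  congr 1
  refine List.filter_congr fun r _ => ?_
  rw [Function.comp_apply, ← wO_val θ hsq]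
  simp only [C.G.pos_iff_half, not_le, Bool.decide_and]

theorem xu_mem_Uinv {o : Fin orbGraphF4.no} {r : Fin chevF4.nroots} (hr : r ∈ L o) (t : K) :
    C.G.xu r t ∈ (Uinv C.G ((orbits θ hsq).wO o) : Subgroup (GL chevF4.Idx K)) := by
  refine Subgroup.subset_closure ⟨r, t, ?_, rfl⟩
  rw [← L_eq θ hsq o] at hr
  simpa using (List.mem_filter.1 hr).2

theorem p2_mem_Uinv (t : K) : p2 θ (rt 33) (rt 24) t ∈
    (Uinv C.G ((orbits θ hsq).wO o0) : Subgroup (GL chevF4.Idx K)) :=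
  mul_mem (xu_mem_Uinv θ hsq (by decide +kernel) _) (xu_mem_Uinv θ hsq (by decide +kernel) _)

theorem b2_mem_Uinv (t u : K) : b2 θ (rt 27) (rt 25) (rt 28) (rt 30) t u ∈
    (Uinv C.G ((orbits θ hsq).wO o1) : Subgroup (GL chevF4.Idx K)) :=
  mul_mem (mul_mem (mul_mem (xu_mem_Uinv θ hsq (by decide +kernel) _)
    (xu_mem_Uinv θ hsq (by decide +kernel) _)) (xu_mem_Uinv θ hsq (by decide +kernel) _))
    (xu_mem_Uinv θ hsq (by decide +kernel) _)

/-- the coordinates of the normal form of the element of type B₂ -/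
noncomputable def v2 (t u : K) : Fin chevF4.nroots → K := fun r =>
  if r = rt 25 then t else if r = rt 27 then θ t else if r = rt 28 then u else
    θ.symm t * t + θ.symm u

omit [CharP K 2] in
theorem v2_vals (t u : K) : v2 θ t u (rt 25) = t ∧ v2 θ t u (rt 27) = θ t ∧ v2 θ t u (rt 28) = u ∧
    v2 θ t u (rt 30) = θ.symm t * t + θ.symm u := by
  refine ⟨?_, ?_, ?_, ?_⟩ <;> simp [v2, rt, Fin.ext_iff]

include hsq in
theorem b2_prod (t u : K) :
    ([rt 25, rt 27, rt 28, rt 30].map fun r => C.G.xu r (v2 θ t u r)).prod =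
      b2 θ (rt 27) (rt 25) (rt 28) (rt 30) t u := by
  obtain ⟨h1, h2, h3, h4⟩ := v2_vals θ t u
  rw [b2_sorted θ hsq dat.1]
  simp only [List.map_cons, List.map_nil, List.prod_cons, List.prod_nil, mul_one, h1, h2, h3, h4,
    mul_assoc]

include hsq in
theorem p2_prod (t : K) :
    ([rt 24, rt 33].map fun r => C.G.xu r (if r = rt 24 then t else θ t)).prod =
      p2 θ (rt 33) (rt 24) t := by
  simp only [List.map_cons, List.map_nil, List.prod_cons, List.prod_nil, mul_one, if_true,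
    if_neg (show (rt 33 : Fin chevF4.nroots) ≠ rt 24 by decide +kernel), p2]
  exact (comm_of (a := rt 33) (b := rt 24) (by decide +kernel) _ _).eq.symm

theorem X_pair {g : GL chevF4.Idx K}
    (hg : g ∈ (twist θ hsq).Fix ⊓ Uinv C.G ((orbits θ hsq).wO o0)) :
    ∃ t, g = p2 θ (rt 33) (rt 24) t := by
  have hL := (L_eq θ hsq o0).trans (show L o0 = [rt 24, rt 33] from rfl)
  obtain ⟨u, rfl⟩ := C.Uinv_normal (C.G.nPerm_nw _) hL hg.2
  have h := (twist θ hsq).fix_list (l := [(rt 24, u (rt 24)), (rt 33, u (rt 33))]) (by simpa using hg.1)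
  simp only [List.map_cons, List.map_nil, List.prod_cons, List.prod_nil, mul_one] at h
  rw [p_eq θ hsq (r := rt 24) (s := rt 33) (by decide +kernel),
    p_eq θ hsq (r := rt 33) (s := rt 24) (by decide +kernel),
    eps_one θ hsq (r := rt 24) (by decide +kernel), eps_one θ hsq (r := rt 33) (by decide +kernel),
    σ_long θ hsq (r := rt 24) (by decide +kernel), σ_short θ hsq (r := rt 33) (by decide +kernel),
    one_mul, one_mul, (comm_of (a := rt 33) (b := rt 24) (by decide +kernel) _ _).eq] at h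
  let v : Fin chevF4.nroots → K := fun r =>
    if r = rt 24 then θ.symm (u (rt 33)) else θ (u (rt 24))
  have hne : (rt 33 : Fin chevF4.nroots) ≠ rt 24 := by decide +kernel
  have e2 := C.normal_inj hL v u (by
    simpa only [List.map_cons, List.map_nil, List.prod_cons, List.prod_nil, mul_one, v, if_true,
      if_neg hne] using h) (r := rt 33) (by simp)
  simp only [v, if_neg hne] at e2
  refine ⟨u (rt 24), ?_⟩
  rw [← p2_prod θ hsq]
  simp only [List.map_cons, List.map_nil, List.prod_cons, List.prod_nil, mul_one, if_true,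
    if_neg hne, e2]

theorem X_b2 {g : GL chevF4.Idx K}
    (hg : g ∈ (twist θ hsq).Fix ⊓ Uinv C.G ((orbits θ hsq).wO o1)) :
    ∃ t u, g = b2 θ (rt 27) (rt 25) (rt 28) (rt 30) t u := by
  have hL := (L_eq θ hsq o1).trans (show L o1 = [rt 25, rt 27, rt 28, rt 30] from rfl)
  obtain ⟨u, rfl⟩ := C.Uinv_normal (C.G.nPerm_nw _) hL hg.2
  obtain ⟨⟨p1, p2', p3, p4⟩, ⟨l1, l2, l3, l4⟩, ⟨e1, e2, e3, e4⟩, hab, hc⟩ := dat.1
  have h := (twist θ hsq).fix_list
    (l := [(rt 25, u (rt 25)), (rt 27, u (rt 27)), (rt 28, u (rt 28)), (rt 30, u (rt 30))])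
    (by simpa using hg.1)
  simp only [List.map_cons, List.map_nil, List.prod_cons, List.prod_nil, mul_one,
    p_eq θ hsq p1, p_eq θ hsq p2', p_eq θ hsq p3, p_eq θ hsq p4, eps_one θ hsq e1,
    eps_one θ hsq e2, eps_one θ hsq e3, eps_one θ hsq e4, σ_short θ hsq l1, σ_short θ hsq l3,
    σ_long θ hsq l2, σ_long θ hsq l4, one_mul] at h
  set α := u (rt 27); set β := u (rt 25); set γ := u (rt 28); set δ := u (rt 30)
  set A := θ β with hA; set B := θ.symm α with hB
  let v : Fin chevF4.nroots → K := fun r =>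
    if r = rt 25 then B else if r = rt 27 then A else if r = rt 28 then A * B + θ δ else
      A * A * B + θ.symm γ
  have hne : (rt 27 : Fin chevF4.nroots) ≠ rt 25 ∧ (rt 28 : Fin chevF4.nroots) ≠ rt 25 ∧
      (rt 28 : Fin chevF4.nroots) ≠ rt 27 ∧ (rt 30 : Fin chevF4.nroots) ≠ rt 25 ∧
      (rt 30 : Fin chevF4.nroots) ≠ rt 27 ∧ (rt 30 : Fin chevF4.nroots) ≠ rt 28 := by decide +kernel
  obtain ⟨n1, n2, n3, n4, n5, n6⟩ := hne
  have e : ([rt 25, rt 27, rt 28, rt 30].map fun r => C.G.xu r (v r)).prod =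
      ([rt 25, rt 27, rt 28, rt 30].map fun r => C.G.xu r (u r)).prod := by
    simp only [List.map_cons, List.map_nil, List.prod_cons, List.prod_nil, mul_one, v, if_true,
      if_neg n1, if_neg n2, if_neg n3, if_neg n4, if_neg n5, if_neg n6]
    refine Eq.trans ?_ h
    rw [← mul_assoc (C.G.xu (rt 27) A) (C.G.xu (rt 25) B), b2_comm hab, C.G.xu_add, C.G.xu_add]
    simp only [mul_assoc]
    congr 3
    rw [← mul_assoc (C.G.xu (rt 28) (θ δ)), ← (comm_of hc _ _).eq, mul_assoc]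
    congr 1
    exact (comm_of hc _ _).eq.symm
  have e27 := C.normal_inj hL v u e (r := rt 27) (by simp)
  have e30 := C.normal_inj hL v u e (r := rt 30) (by simp)
  simp only [v, if_true, if_neg n1, if_neg n4, if_neg n5, if_neg n6] at e27 e30
  rw [hB, ← show A = α from e27, hA, RingEquiv.symm_apply_apply, ← pow_two, ← hsq] at e30
  refine ⟨β, γ, ?_⟩
  rw [← b2_prod θ hsq]
  obtain ⟨w1, w2, w3, w4⟩ := v2_vals θ β γ
  simp only [List.map_cons, List.map_nil, List.prod_cons, List.prod_nil, mul_one, w1, w2, w3, w4]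
  rw [show θ β = α from e27, show θ.symm β * β + θ.symm γ = δ from e30]

theorem pos_rt : ∀ r ∈ [rt 24, rt 33, rt 25, rt 27, rt 28, rt 30], chevF4.IsPosRoot r.val := by
  intro r hr
  rw [C.G.pos_iff_half]
  revert r
  decide +kernel

theorem LJ_mem {o : Fin orbGraphF4.no} {r : Fin chevF4.nroots} (hr : r ∈ L o) (t : K) :
    C.G.xu (C.G.negr r) t ∈ (LJ C.G ((orbits θ hsq).J o) : Subgroup (GL chevF4.Idx K)) := by
  rw [← L_eq θ hsq o] at hr
  have h := (List.mem_filter.1 hr).2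
  rw [decide_eq_true_eq] at h
  exact (C.G.orbit_mem_LJ (orbits θ hsq) h.1 h.2 t).2

theorem neg_ne : p2 θ (rt 14) (rt 23) (1 : K) ≠ 1 ∧
    b2 θ (rt 20) (rt 22) (rt 19) (rt 17) (0 : K) 1 ≠ 1 := by
  constructor
  · have h := C.G.prod_ne_one (K := K) [(rt 14, 1), (rt 23, 1)] (Sum.inl (nd 0)) (Sum.inr (rt 33))
      (by decide +kernel)
    simpa [p2] using h
  · have h := C.G.prod_ne_one (K := K) [(rt 19, 1), (rt 17, 1)] (Sum.inl (nd 2)) (Sum.inr (rt 30))
      (by decide +kernel)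
    simpa [b2, C.G.xu_zero] using h

theorem pos_ne : p2 θ (rt 33) (rt 24) (1 : K) ≠ 1 ∧
    b2 θ (rt 27) (rt 25) (rt 28) (rt 30) (0 : K) 1 ≠ 1 := by
  constructor
  · have h := C.G.prod_ne_one (K := K) [(rt 33, 1), (rt 24, 1)] (Sum.inl (nd 0)) (Sum.inr (rt 14))
      (by decide +kernel)
    simpa [p2] using h
  · have h := C.G.prod_ne_one (K := K) [(rt 28, 1), (rt 30, 1)] (Sum.inl (nd 2)) (Sum.inr (rt 17))
      (by decide +kernel)
    simpa [b2, C.G.xu_zero] using h

theorem pre {e : ℕ} (hθ : ∀ x, θ x = x ^ e) : Pre (orbits θ hsq) (twistedF4 K e) where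
  le := le_Fix θ hsq hθ
  X_le k g hg := by
    rcases o_cases k with rfl | rfl
    · obtain ⟨t, rfl⟩ := X_pair θ hsq hg
      exact (pair_mem θ hθ t).1
    · obtain ⟨t, u, rfl⟩ := X_b2 θ hsq hg
      exact (b2_mem θ hsq hθ t u).1
  V_elt k := by
    obtain ⟨n1, n2, n3, n4, n5, n6⟩ := negr_rt
    have hn : ∀ r : Fin chevF4.nroots, r.val < 24 → ∀ t : K,
        C.G.xu r t ∈ chevF4.negUnipotent K := fun r hr t => C.G.xu_mem_V (by
      rw [C.G.isNegRoot_iff_not_pos, C.G.pos_iff_half]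
      have : chevF4.nroots / 2 = 24 := by decide +kernel
      omega) t
    rcases o_cases k with rfl | rfl
    · refine ⟨_, (pair_mem θ hθ 1).2, mul_mem ?_ ?_,
        mul_mem (hn _ (by decide +kernel) _) (hn _ (by decide +kernel) _), (neg_ne θ).1⟩
      · rw [← n1]; exact LJ_mem θ hsq (by decide +kernel) _
      · rw [← n2]; exact LJ_mem θ hsq (by decide +kernel) _
    · refine ⟨_, (b2_mem θ hsq hθ 0 1).2, mul_mem (mul_mem (mul_mem ?_ ?_) ?_) ?_,
        mul_mem (mul_mem (mul_mem (hn _ (by decide +kernel) _) (hn _ (by decide +kernel) _))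
          (hn _ (by decide +kernel) _)) (hn _ (by decide +kernel) _), (neg_ne θ).2⟩
      · rw [← n3]; exact LJ_mem θ hsq (by decide +kernel) _
      · rw [← n4]; exact LJ_mem θ hsq (by decide +kernel) _
      · rw [← n5]; exact LJ_mem θ hsq (by decide +kernel) _
      · rw [← n6]; exact LJ_mem θ hsq (by decide +kernel) _

omit [CharP K 2] in
theorem ker_one {z : Fin chevF4.rank → Kˣ} (hz : C.G.torθ z = 1) : z = 1 := by
  have hM : ∀ i j : Fin chevF4.rank, ∑ l,
      (([[2, 3, 2, 1], [3, 6, 4, 2], [4, 8, 6, 3], [2, 4, 3, 2]] : List (List ℤ)).getD i.val []).getD l.val 0 *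
        cmat chevF4 j l = if j = i then (1 : ℤ) else 0 := by decide +kernel
  funext i
  have := C.G.ker_pow _ hM hz i
  rwa [zpow_one] at this

/-- the parameters of the torus -/
noncomputable def par (a b : Kˣ) : Fin chevF4.rank → Kˣ := fun j =>
  if j = nd 0 then Units.map θ.toMonoidHom a else if j = nd 1 then Units.map θ.toMonoidHom b else
    if j = nd 2 then b else a

omit [CharP K 2] in
theorem par_vals (a b : Kˣ) : par θ a b (nd 0) = Units.map θ.toMonoidHom a ∧
    par θ a b (nd 1) = Units.map θ.toMonoidHom b ∧ par θ a b (nd 2) = b ∧ par θ a b (nd 3) = a := by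
  refine ⟨?_, ?_, ?_, ?_⟩ <;> simp [par, nd, Fin.ext_iff]

theorem nd_cases (i : Fin chevF4.rank) : i = nd 0 ∨ i = nd 1 ∨ i = nd 2 ∨ i = nd 3 := by
  revert i; decide +kernel

theorem simp_lam : graphF4.lam.get (rt 33).val = 2 ∧ graphF4.lam.get (rt 27).val = 2 ∧
    graphF4.lam.get (rt 25).val = 1 ∧ graphF4.lam.get (rt 24).val = 1 := by decide +kernel

theorem par_fixed (a b : Kˣ) : (twist θ hsq).σT (par θ a b) = par θ a b := by
  funext j
  obtain ⟨i, rfl⟩ := (twist θ hsq).node.surjective j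
  simp only [Twist.σT, Equiv.symm_apply_apply]
  apply Units.ext
  have hn : ∀ i j : Fin chevF4.rank, node.get i.val = j.val → (twist θ hsq).node i = j := fun i j h =>
    Fin.ext ((node_eq θ hsq i).trans h)
  obtain ⟨v0, v1, v2, v3⟩ := par_vals θ a b
  obtain ⟨s0, s1, s2, s3⟩ := simp_rt
  obtain ⟨l0, l1, l2, l3⟩ := simp_lam
  rcases nd_cases i with rfl | rfl | rfl | rfl
  · rw [hn _ (nd 3) (by decide +kernel), v0, v3, s0]
    exact (σ_short θ hsq l0 _).trans (θ.symm_apply_apply _)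
  · rw [hn _ (nd 2) (by decide +kernel), v1, v2, s1]
    exact (σ_short θ hsq l1 _).trans (θ.symm_apply_apply _)
  · rw [hn _ (nd 1) (by decide +kernel), v1, v2, s2]
    exact σ_long θ hsq l2 _
  · rw [hn _ (nd 0) (by decide +kernel), v0, v3, s3]
    exact σ_long θ hsq l3 _

theorem eq_par {c : Fin chevF4.rank → Kˣ} (hc : (twist θ hsq).σT c = c) :
    c = par θ (c (nd 3)) (c (nd 2)) := by
  have key : ∀ i : Fin chevF4.rank,
      (c ((twist θ hsq).node i) : K) = (twist θ hsq).σ (C.G.simp' i) (c i : K) := fun i => by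
    have := congrArg Units.val (congrFun hc ((twist θ hsq).node i))
    simp only [Twist.σT, Equiv.symm_apply_apply] at this
    exact this.symm
  have hn : ∀ i j : Fin chevF4.rank, node.get i.val = j.val → (twist θ hsq).node i = j := fun i j h =>
    Fin.ext ((node_eq θ hsq i).trans h)
  obtain ⟨s0, s1, s2, s3⟩ := simp_rt
  obtain ⟨l0, l1, l2, l3⟩ := simp_lam
  have a2 := key (nd 2); have a3 := key (nd 3)
  rw [hn _ (nd 1) (by decide +kernel), s2, σ_long θ hsq l2] at a2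
  rw [hn _ (nd 0) (by decide +kernel), s3, σ_long θ hsq l3] at a3
  obtain ⟨v0, v1, v2, v3⟩ := par_vals θ (c (nd 3)) (c (nd 2))
  funext j
  rcases nd_cases j with rfl | rfl | rfl | rfl
  exacts [(Units.ext a3).trans v0.symm, (Units.ext a2).trans v1.symm, v2.symm, v3.symm]

theorem exists_par {g : GL chevF4.Idx K}
    (hg : g ∈ (twist θ hsq).Fix ⊓ chevF4.diagonalSubgroup K) :
    ∃ a b, g = C.G.torθ (par θ a b) := by
  obtain ⟨c, rfl, hc⟩ := (twist θ hsq).exists_fixed_tor_one hg fun z hz => ker_one hz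
  exact ⟨_, _, congrArg _ (eq_par θ hsq hc)⟩

variable [Finite K]

theorem H_mem {e : ℕ} (hθ : ∀ x, θ x = x ^ e) {g : GL chevF4.Idx K}
    (hg : g ∈ (twist θ hsq).Fix ⊓ chevF4.diagonalSubgroup K) : g ∈ twistedF4 K e := by
  obtain ⟨a, b, rfl⟩ := exists_par θ hsq hg
  have hroot : ∀ a : Kˣ, ∃ r : Kˣ, r ^ 2 = a := by
    intro a
    obtain ⟨r, hr⟩ := (bijective_frobenius K 2).2 (a : K)
    have hr' : r ^ 2 = (a : K) := by simpa [frobenius_def] using hr
    have h0 : r ≠ 0 := fun h => a.ne_zero (by rw [← hr', h, zero_pow two_ne_zero])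
    exact ⟨Units.mk0 r h0, Units.ext (by simpa using hr')⟩
  obtain ⟨ra, hra⟩ := hroot a
  obtain ⟨rb, hrb⟩ := hroot b
  have e1 : par θ a b = par θ ra 1 ^ 2 * par θ 1 rb ^ 2 := by
    funext j
    obtain ⟨u0, u1, u2, u3⟩ := par_vals θ a b
    obtain ⟨x0, x1, x2, x3⟩ := par_vals θ ra 1
    obtain ⟨y0, y1, y2, y3⟩ := par_vals θ 1 rb
    rcases nd_cases j with rfl | rfl | rfl | rfl <;>
      simp only [Pi.mul_apply, Pi.pow_apply, u0, u1, u2, u3, x0, x1, x2, x3, y0, y1, y2, y3,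
        map_one, one_pow, mul_one, one_mul, ← map_pow, hra, hrb]
  rw [e1, map_mul, map_pow, map_pow]
  have hm : ∀ o : Fin orbGraphF4.no, ∀ j ∈ (orbits θ hsq).J o,
      C.G.pw ((orbits θ hsq).wl o) (C.G.simp' j) = C.G.negr (C.G.simp' j) := by
    intro o j hj
    refine Fin.ext ?_
    rw [show (C.G.pw ((orbits θ hsq).wl o) (C.G.simp' j)).val = _ from wO_val θ hsq o _,
      C.G.negr_val, C.G.simp_val]
    have h : ∀ o : Fin orbGraphF4.no, ∀ j ∈ orbGraphF4.nodes chevF4 o,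
        digit (orbGraphF4.tab.get o.val) (chevF4.simple j.val) = chevF4.neg (chevF4.simple j.val) := by
      decide +kernel
    exact h o j hj
  have hJ : ∀ i : Fin chevF4.rank,
      (i ∉ (orbits θ hsq).J o0 → i = nd 1 ∨ i = nd 2) ∧ (i ∉ (orbits θ hsq).J o1 → i = nd 0 ∨ i = nd 3) := by
    show ∀ i : Fin chevF4.rank, (i ∉ orbGraphF4.nodes chevF4 o0 → i = nd 1 ∨ i = nd 2) ∧
      (i ∉ orbGraphF4.nodes chevF4 o1 → i = nd 0 ∨ i = nd 3)
    decide +kernel
  have P := pre θ hsq hθ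
  refine mul_mem ?_ ?_
  · refine P.sq_mem (k := o0) (hm _)
      (Subgroup.mem_inf.2 ⟨le_Fix θ hsq hθ (pair_mem θ hθ 1).1, p2_mem_Uinv θ hsq 1⟩) (pos_ne θ).1
      (fun i hi => ?_) ((twist θ hsq).torθ_mem_Fix (par_fixed θ hsq ra 1)).1
    obtain ⟨u0, u1, u2, u3⟩ := par_vals θ ra 1
    rcases (hJ i).1 hi with rfl | rfl
    · rw [u1, map_one]
    · exact u2
  · refine P.sq_mem (k := o1) (hm _)
      (Subgroup.mem_inf.2 ⟨le_Fix θ hsq hθ (b2_mem θ hsq hθ 0 1).1, b2_mem_Uinv θ hsq 0 1⟩)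
      (pos_ne θ).2 (fun i hi => ?_) ((twist θ hsq).torθ_mem_Fix (par_fixed θ hsq 1 rb)).1
    obtain ⟨u0, u1, u2, u3⟩ := par_vals θ 1 rb
    rcases (hJ i).2 hi with rfl | rfl
    · rw [u0, map_one]
    · exact u3

theorem twGp {e : ℕ} (hθ : ∀ x, θ x = x ^ e) : TwGp (orbits θ hsq) (twistedF4 K e) where
  toPre := pre θ hsq hθ
  H_le _g hg := H_mem θ hsq hθ hg
  X_ne k := by
    rcases o_cases k with rfl | rfl
    · exact ⟨_, Subgroup.mem_inf.2 ⟨le_Fix θ hsq hθ (pair_mem θ hθ 1).1, p2_mem_Uinv θ hsq 1⟩,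
        (pos_ne θ).1⟩
    · exact ⟨_, Subgroup.mem_inf.2 ⟨le_Fix θ hsq hθ (b2_mem θ hsq hθ 0 1).1, b2_mem_Uinv θ hsq 0 1⟩,
        (pos_ne θ).2⟩

theorem card_orb {e : ℕ} (hθ : ∀ x, θ x = x ^ e) (k : Fin orbGraphF4.no) :
    Nat.card ↥((twist θ hsq).Fix ⊓ Uinv C.G ((orbits θ hsq).wO k)) =
      Nat.card K ^ (ninv C.G ((orbits θ hsq).wO k) / 2) := by
  classical
  have hn : ninv C.G ((orbits θ hsq).wO k) = (L k).length := by
    rw [← L_eq θ hsq k, ninv, ← List.toFinset_card_of_nodup ((List.nodup_finRange _).filter _)]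
    congr 1
    ext r
    simp
  have hle := le_Fix θ hsq hθ
  rw [hn]
  rcases o_cases k with rfl | rfl
  · rw [show (L o0).length / 2 = 1 from rfl, pow_one]
    refine (Nat.card_eq_of_bijective (fun t : K =>
      (⟨p2 θ (rt 33) (rt 24) t, Subgroup.mem_inf.2 ⟨hle (pair_mem θ hθ t).1, p2_mem_Uinv θ hsq t⟩⟩ :
        ↥((twist θ hsq).Fix ⊓ Uinv C.G ((orbits θ hsq).wO o0)))) ⟨?_, ?_⟩).symm
    · intro t t' h
      have := C.normal_inj ((L_eq θ hsq o0).trans (show L o0 = [rt 24, rt 33] from rfl))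
        (fun r => if r = rt 24 then t else θ t) (fun r => if r = rt 24 then t' else θ t')
        ((p2_prod θ hsq t).trans ((congrArg Subtype.val h).trans (p2_prod θ hsq t').symm))
        (r := rt 24) (by simp)
      simpa using this
    · rintro ⟨g, hg⟩
      obtain ⟨t, rfl⟩ := X_pair θ hsq hg
      exact ⟨t, rfl⟩
  · rw [show (L o1).length / 2 = 2 from rfl, pow_two, ← Nat.card_prod]
    refine (Nat.card_eq_of_bijective (fun x : K × K =>
      (⟨b2 θ (rt 27) (rt 25) (rt 28) (rt 30) x.1 x.2,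
        Subgroup.mem_inf.2 ⟨hle (b2_mem θ hsq hθ x.1 x.2).1, b2_mem_Uinv θ hsq x.1 x.2⟩⟩ :
        ↥((twist θ hsq).Fix ⊓ Uinv C.G ((orbits θ hsq).wO o1)))) ⟨?_, ?_⟩).symm
    · rintro ⟨t, u⟩ ⟨t', u'⟩ h
      have hL := (L_eq θ hsq o1).trans (show L o1 = [rt 25, rt 27, rt 28, rt 30] from rfl)
      have he := (b2_prod θ hsq t u).trans ((congrArg Subtype.val h).trans (b2_prod θ hsq t' u').symm)
      have h1 := C.normal_inj hL _ _ he (r := rt 25) (by simp)
      have h2 := C.normal_inj hL _ _ he (r := rt 28) (by simp)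
      obtain ⟨w1, -, w3, -⟩ := v2_vals θ t u
      obtain ⟨w1', -, w3', -⟩ := v2_vals θ t' u'
      exact Prod.ext (w1.symm.trans (h1.trans w1')) (w3.symm.trans (h2.trans w3'))
    · rintro ⟨g, hg⟩
      obtain ⟨t, u, rfl⟩ := X_b2 θ hsq hg
      exact ⟨(t, u), rfl⟩

theorem card_H : Nat.card ↥((twist θ hsq).Fix ⊓ chevF4.diagonalSubgroup K) = (Nat.card K - 1) ^ 2 := by
  classical
  rw [← Nat.card_units, pow_two, ← Nat.card_prod]
  refine (Nat.card_eq_of_bijective (fun x : Kˣ × Kˣ =>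
    (⟨C.G.torθ (par θ x.1 x.2), (twist θ hsq).torθ_mem_Fix (par_fixed θ hsq x.1 x.2)⟩ :
      ↥((twist θ hsq).Fix ⊓ chevF4.diagonalSubgroup K))) ⟨?_, ?_⟩).symm
  · rintro ⟨a, b⟩ ⟨a', b'⟩ h
    have h' : C.G.torθ (par θ a b) = C.G.torθ (par θ a' b') := congrArg Subtype.val h
    have h2 : (par θ a b)⁻¹ * par θ a' b' = 1 :=
      ker_one (by rw [map_mul, map_inv, h', inv_mul_cancel])
    rw [inv_mul_eq_one] at h2
    obtain ⟨-, -, v2, v3⟩ := par_vals θ a b
    obtain ⟨-, -, w2, w3⟩ := par_vals θ a' b'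
    exact Prod.ext (v3.symm.trans ((congrFun h2 _).trans w3)) (v2.symm.trans ((congrFun h2 _).trans w2))
  · rintro ⟨g, hg⟩
    obtain ⟨a, b, rfl⟩ := exists_par θ hsq hg
    exact ⟨(a, b), rfl⟩

end TF4

end CfsgLib.Lie.Chev
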