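import Mathlib

/-!
# Units avoiding a few values
-/

set_option autoImplicit false

namespace CfsgLib.Lie.Chev

/-- a unit different from `1` and `-1` -/
theorem exists_unit_ne {K : Type*} [Field K] [Fintype K] (h : 3 < Fintype.card K) :
    ∃ b : Kˣ, (b : K) ≠ 1 ∧ (b : K) ≠ -1 := by
  classical
  obtain ⟨x, hx⟩ : ∃ x : K, x ∉ ({0, 1, -1} : Finset K) := by
    by_contra hc
    simp only [not_exists, not_not] at hc
    have : Fintype.card K ≤ 3 := by
      rw [← Finset.card_univ, Finset.eq_univ_of_forall hc |>.symm]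
      exact Finset.card_le_three
    omega
  simp only [Finset.mem_insert, Finset.mem_singleton, not_or] at hx
  exact ⟨Units.mk0 x hx.1, hx.2.1, hx.2.2⟩

/-- a unit whose square is not one -/
theorem exists_sq_ne {K : Type*} [Field K] [Fintype K] (h : 3 < Fintype.card K) :
    ∃ b : Kˣ, (b : K) ^ 2 ≠ 1 := by
  obtain ⟨b, h1, h2⟩ := exists_unit_ne h
  refine ⟨b, fun hb => ?_⟩
  rcases sq_eq_one_iff.1 hb with h | h
  exacts [h1 h, h2 h]

end CfsgLib.Lie.Chev
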