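import Cfsg.Agent.Lib.Lie.Chev.Tw.F4Gp
import Cfsg.Agent.Lib.Lie.Chev.Tw.Simple
import Cfsg.Agent.Lib.Lie.Chev.Tw.FieldPick

/-!
# ²F₄: perfectness and simplicity
-/

set_option autoImplicit false
set_option maxRecDepth 100000

namespace CfsgLib.Lie.Chev

open Cfsg.Lie
open scoped MatrixGroups commutatorElement

namespace TF4

variable {K : Type*} [Field K] [Fintype K] {m : ℕ}

/-- the full coefficient vectors -/
theorem exists_full' [CharP K 2] (θ : K ≃+* K) (hsq : ∀ x, θ.symm x = θ x ^ 2)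
    {e : ℕ} (hθ : ∀ x, θ x = x ^ e) :
    ∀ j, ∃ t : Fin chevF4.nroots → K, C.uprod 0 t ∈ (twist θ hsq).Fix ∧ t (C.G.simp' j) ≠ 0 := by
  obtain ⟨s0, s1, s2, s3⟩ := simp_rt
  have hle := le_Fix θ hsq hθ
  have h0 : ([rt 24, rt 33].map fun r => C.G.xu r (if r = rt 24 then (1 : K) else θ 1)).prod ∈
      (twist θ hsq).Fix := by
    rw [p2_prod θ hsq]; exact hle (pair_mem θ hθ 1).1
  have h1 : ([rt 25, rt 27, rt 28, rt 30].map fun r => C.G.xu r (v2 θ (1 : K) 1 r)).prod ∈
      (twist θ hsq).Fix := by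
    rw [b2_prod θ hsq]; exact hle (b2_mem θ hsq hθ 1 1).1
  obtain ⟨w1, w2, -, -⟩ := v2_vals θ (1 : K) 1
  intro j
  rcases nd_cases j with rfl | rfl | rfl | rfl
  · rw [s0]; exact C.exists_full (L_eq θ hsq o0) _ h0 (by decide +kernel) (by
      rw [if_neg (show (rt 33 : Fin chevF4.nroots) ≠ rt 24 by decide +kernel), map_one]; exact one_ne_zero)
  · rw [s1]; exact C.exists_full (L_eq θ hsq o1) _ h1 (by decide +kernel) (by rw [w2, map_one]; exact one_ne_zero)
  · rw [s2]; exact C.exists_full (L_eq θ hsq o1) _ h1 (by decide +kernel) (by rw [w1]; exact one_ne_zero)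
  · rw [s3]; exact C.exists_full (L_eq θ hsq o0) _ h0 (by decide +kernel) (by rw [if_pos rfl]; exact one_ne_zero)

/-- the trivial core -/
theorem core (hK : Fintype.card K = 2 ^ (2 * m + 1)) :
    ((chevF4.borelSubgroup K ⊓ twistedF4 K (2 ^ m)).subgroupOf (twistedF4 K (2 ^ m))).normalCore = ⊥ := by
  obtain ⟨hc, θ, hsq, hθ⟩ := exists_theta hK
  exact (twGp θ hsq hθ).normalCore_eq_bot (exists_full' θ hsq hθ)

/-- perfectness and simplicity -/
theorem summary2 (hm : 1 ≤ m) (hK : Fintype.card K = 2 ^ (2 * m + 1)) :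
    commutator ↥(twistedF4 K (2 ^ m)) = ⊤ ∧
    IsSimpleGroup ↥(twistedF4 K (2 ^ m)) ∧ ¬ IsMulCommutative ↥(twistedF4 K (2 ^ m)) := by
  obtain ⟨hc, θ, hsq, hθ⟩ := exists_theta hK
  have P := twGp θ hsq hθ
  obtain ⟨b, hb1, -⟩ := exists_unit_ne (K := K) (by
    rw [hK]
    calc 3 < 2 ^ 3 := by norm_num
      _ ≤ 2 ^ (2 * m + 1) := Nat.pow_le_pow_right (by norm_num) (by omega))
  have hone : ∀ x : K, x ^ 2 = 1 → x = 1 := fun x hx => by
    rcases sq_eq_one_iff.1 hx with h | h
    · exact h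
    · rw [h, CharTwo.neg_eq]
  have hsq_inj : ∀ x y : K, x ^ 2 = y ^ 2 → x = y := fun x y h => by
    rcases sq_eq_sq_iff_eq_or_eq_neg.1 h with h | h
    · exact h
    · rw [h, CharTwo.neg_eq]
  have hfx : θ (b : K) ≠ (b : K) := fun h => by
    have h2 : (b : K) = (b : K) ^ 2 := by
      have := hsq (b : K)
      rw [h, (RingEquiv.symm_apply_eq θ).2 h.symm] at this
      exact this
    exact hb1 (mul_left_cancel₀ b.ne_zero (by rw [mul_one, ← pow_two, ← h2]))
  have hperf : commutator ↥(twistedF4 K (2 ^ m)) = ⊤ := by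
    refine P.commutator_eq_top (C.G.gen_le_UV fun w hw => ?_) fun k => ?_
    · have hp : ∀ r : Fin chevF4.nroots, chevF4.IsPosRoot r.val ↔ 24 ≤ r.val := fun r => by
        rw [C.G.pos_iff_half, show chevF4.nroots / 2 = 24 from by decide +kernel]
      rcases hw with ⟨t, hw⟩ | ⟨t, u, hw⟩
      · rcases hw with rfl | rfl
        · exact ⟨[(rt 33, t ^ 2 ^ m), (rt 24, t)], rfl, Or.inl (by simp [hp, rt])⟩
        · exact ⟨[(rt 14, t ^ 2 ^ m), (rt 23, t)], rfl, Or.inr (by simp [hp, rt])⟩
      · rcases hw with rfl | rfl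
        · exact ⟨[(rt 27, t ^ 2 ^ m), (rt 25, t), (rt 28, t ^ (2 ^ m + 1) + u), (rt 30, u ^ (2 * 2 ^ m))],
            rfl, Or.inl (by simp [hp, rt])⟩
        · exact ⟨[(rt 20, t ^ 2 ^ m), (rt 22, t), (rt 19, t ^ (2 ^ m + 1) + u), (rt 17, u ^ (2 * 2 ^ m))],
            rfl, Or.inr (by simp [hp, rt])⟩
    · have hu : (Finset.univ : Finset (Fin chevF4.rank)) = {nd 0, nd 1, nd 2, nd 3} := by
        decide +kernel
      have hd : (nd 0 : Fin chevF4.rank) ∉ ({nd 1, nd 2, nd 3} : Finset _) ∧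
          (nd 1 : Fin chevF4.rank) ∉ ({nd 2, nd 3} : Finset _) ∧
          (nd 2 : Fin chevF4.rank) ∉ ({nd 3} : Finset _) := by decide +kernel
      have hrows : ([rt 24, rt 33, rt 25, rt 27, rt 28, rt 30].map fun r =>
          [nd 0, nd 1, nd 2, nd 3].map fun i => cart chevF4 i r) =
          [[0, 0, -1, 2], [2, -1, 0, 0], [0, -2, 2, -1], [-1, 2, -1, 0], [-1, 0, 1, -1], [-2, 2, 0, -1]] := by
        decide +kernel
      simp only [List.map_cons, List.map_nil, List.cons.injEq, and_true] at hrows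
      obtain ⟨⟨a0, a1, a2, a3⟩, ⟨b0, b1, b2, b3⟩, ⟨c0, c1, c2, c3⟩, ⟨d0, d1, d2, d3⟩,
        ⟨e0, e1, e2, e3⟩, f0, f1, f2, f3⟩ := hrows
      have hchi : ∀ (r : Fin chevF4.nroots) (c : Fin chevF4.rank → Kˣ),
          ((∏ i, c i ^ cart chevF4 i r : Kˣ) : K) = (c (nd 0) : K) ^ cart chevF4 (nd 0) r *
            ((c (nd 1) : K) ^ cart chevF4 (nd 1) r * ((c (nd 2) : K) ^ cart chevF4 (nd 2) r *
            (c (nd 3) : K) ^ cart chevF4 (nd 3) r)) := fun r c => by
        rw [hu, Finset.prod_insert hd.1, Finset.prod_insert hd.2.1, Finset.prod_insert hd.2.2,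
          Finset.prod_singleton]
        simp only [Units.val_mul, Units.val_zpow_eq_zpow_val]
      rcases o_cases k with rfl | rfl
      · refine P.X_derived_of_torus (L_eq θ hsq o0) (par θ b 1)
          ((twist θ hsq).torθ_mem_Fix (par_fixed θ hsq b 1)).1 fun r hr => ?_
        obtain ⟨v0, v1, v2, v3⟩ := par_vals θ b 1
        simp only [L, o0, if_true, List.mem_cons, List.not_mem_nil, or_false] at hr
        rw [hchi]
        rcases hr with rfl | rfl
        · simp only [a0, a1, a2, a3, v0, v1, v2, v3, map_one, Units.val_one, one_zpow, zpow_zero,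
            one_mul, mul_one, zpow_two]
          exact fun h => hb1 (hone _ (by rw [pow_two]; exact h))
        · simp only [b0, b1, b2, b3, v0, v1, v2, v3, map_one, Units.val_one, one_zpow, zpow_zero,
            one_mul, mul_one, zpow_two, Units.coe_map]
          exact fun h => hb1 (θ.injective ((hone _ (by rw [pow_two]; exact h)).trans (map_one θ).symm))
      · refine P.X_derived_of_torus (L_eq θ hsq o1) (par θ 1 b)
          ((twist θ hsq).torθ_mem_Fix (par_fixed θ hsq 1 b)).1 fun r hr => ?_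
        obtain ⟨v0, v1, v2, v3⟩ := par_vals θ 1 b
        simp only [L, o1, one_ne_zero, if_false, List.mem_cons, List.not_mem_nil, or_false] at hr
        have h0 : θ (b : K) ≠ 0 := fun h => b.ne_zero ((map_eq_zero θ).1 h)
        rw [hchi]
        rcases hr with rfl | rfl | rfl | rfl
        · simp only [c0, c1, c2, c3, v0, v1, v2, v3, map_one, Units.val_one, one_zpow, zpow_zero,
            one_mul, mul_one, Units.coe_map, zpow_neg, zpow_two, zpow_one, inv_one]
          intro h
          change (θ (b : K) * θ (b : K))⁻¹ * ((b : K) * (b : K)) = 1 at h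
          rw [← pow_two, ← pow_two, inv_mul_eq_one₀ (pow_ne_zero 2 h0)] at h
          exact hfx (hsq_inj _ _ h)
        · simp only [d0, d1, d2, d3, v0, v1, v2, v3, map_one, Units.val_one, one_zpow, zpow_zero,
            one_mul, mul_one, Units.coe_map, zpow_neg, zpow_two, zpow_one, inv_one]
          intro h
          change θ (b : K) * θ (b : K) * (b : K)⁻¹ = 1 at h
          rw [mul_inv_eq_one₀ b.ne_zero, ← pow_two, ← hsq, RingEquiv.symm_apply_eq] at h
          exact hfx h.symm
        · simp only [e0, e1, e2, e3, v0, v1, v2, v3, map_one, Units.val_one, one_zpow, zpow_zero,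
            one_mul, mul_one, Units.coe_map, zpow_neg, zpow_two, zpow_one, inv_one]
          exact hb1
        · simp only [f0, f1, f2, f3, v0, v1, v2, v3, map_one, Units.val_one, one_zpow, zpow_zero,
            one_mul, mul_one, Units.coe_map, zpow_neg, zpow_two, zpow_one, inv_one]
          exact fun h => hb1 (θ.injective ((hone _ (by rw [pow_two]; exact h)).trans (map_one θ).symm))
  exact ⟨hperf, P.simple o0 (exists_full' θ hsq hθ) hperf
    ((orbits θ hsq).irred_of_tab (wO_val θ hsq) (by decide +kernel))⟩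

end TF4

end CfsgLib.Lie.Chev
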