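import Cfsg.Agent.Lib.Lie.Chev.Tw.Gen

/-!
# The (B, N)-pair of the fixed group
-/

set_option autoImplicit false

namespace CfsgLib.Lie.Chev

open Cfsg.Lie
open scoped MatrixGroups

variable {D : ChevalleyDatum} {K : Type*} [Field K] {C : Full D} {T : Twist C.G K} {ι : Type}

namespace TwGp

variable {O : Orbits C.G T.p ι} {Γ : Subgroup (GL D.Idx K)} (P : TwGp O Γ)

include P

theorem keep_of_pos {π : Equiv.Perm (Fin D.nroots)} (hπ : π ∈ Wp C.G T.p) {k : ι}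
    (hk : ∀ j ∈ O.J k, D.IsPosRoot (π (C.G.simp' j)).val) :
    (Uinv C.G (O.wO k) : Subgroup (GL D.Idx K)) ≤ Ukeep C.G π := by
  rw [Uinv, Subgroup.closure_le]
  rintro g ⟨r, t, ⟨hr, hneg⟩, rfl⟩
  obtain ⟨l, rfl⟩ := C.G.exists_pw (mem_Wp.1 hπ).1
  have hin : InJ C.G (O.J k) r := not_not.1 fun h => hneg ((O.wO_pos_iff hr).2 h)
  exact Subgroup.subset_closure ⟨r, t, ⟨hr, C.G.keep_posJ hk hin hr⟩, rfl⟩

theorem borel_fix {g : GL D.Idx K} (hg : g ∈ D.borelSubgroup K ⊓ Γ) :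
    ∃ v ∈ T.Fix ⊓ D.posUnipotent K, ∃ d ∈ T.Fix ⊓ D.diagonalSubgroup K, g = v * d :=
  T.fix_borel (P.le hg.2) hg.1

theorem mem_B_of_U {g : GL D.Idx K} (hg : g ∈ T.Fix ⊓ D.posUnipotent K) :
    g ∈ D.borelSubgroup K ⊓ Γ :=
  ⟨Subgroup.mem_sup_left hg.2, P.toPre.U_le hg⟩

theorem mem_B_of_H {g : GL D.Idx K} (hg : g ∈ T.Fix ⊓ D.diagonalSubgroup K) :
    g ∈ D.borelSubgroup K ⊓ Γ :=
  ⟨Subgroup.mem_sup_right hg.2, P.H_le hg⟩

theorem conj_H {n d : GL D.Idx K} (hn : n ∈ D.monomialSubgroup K ⊓ Γ)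
    (hd : d ∈ T.Fix ⊓ D.diagonalSubgroup K) : n * d * n⁻¹ ∈ T.Fix ⊓ D.diagonalSubgroup K :=
  Subgroup.mem_inf.2 ⟨mul_mem (mul_mem (P.le hn.2) hd.1) (inv_mem (P.le hn.2)),
    (Subgroup.mem_normalizer_iff.1 (C.G.monomial_le_normalizer hn.1) d).1 hd.2⟩

theorem nk_mem_N (k : ι) : P.toPre.nk k ∈ D.monomialSubgroup K ⊓ Γ :=
  ⟨P.toPre.nk_monomial k, P.toPre.nk_mem k⟩

/-- the double coset condition -/
theorem mul_mem_union (k : ι) {n b : GL D.Idx K} (hn : n ∈ D.monomialSubgroup K ⊓ Γ)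
    (hb : b ∈ D.borelSubgroup K ⊓ Γ) :
    (∃ x ∈ D.borelSubgroup K ⊓ Γ, ∃ y ∈ D.borelSubgroup K ⊓ Γ,
        P.toPre.nk k * b * n = x * (P.toPre.nk k * n) * y) ∨
      ∃ x ∈ D.borelSubgroup K ⊓ Γ, ∃ y ∈ D.borelSubgroup K ⊓ Γ,
        P.toPre.nk k * b * n = x * n * y := by
  obtain ⟨v, ⟨hvF, hvU⟩, d, hd, rfl⟩ := P.borel_fix hb
  obtain ⟨a, ha, c, hc, rfl⟩ := C.exists_keep_mul_inv (O.wO k) hvU
  obtain ⟨haF, hcF⟩ := T.fix_split (O.wO_mem k) ha hc hvF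
  set s := P.toPre.nk k with hs
  have hsF : s ∈ T.Fix := P.le (P.toPre.nk_mem k)
  have hnF : n ∈ T.Fix := P.le hn.2
  have hsw : C.G.NPerm s (O.wO k) := P.toPre.nk_perm k
  have hd' : n⁻¹ * d * n ∈ T.Fix ⊓ D.diagonalSubgroup K := by
    have := P.conj_H (inv_mem hn) hd
    rwa [inv_inv] at this
  have hA : s * a * s⁻¹ ∈ D.borelSubgroup K ⊓ Γ :=
    P.mem_B_of_U (Subgroup.mem_inf.2 ⟨mul_mem (mul_mem hsF haF) (inv_mem hsF), C.G.conj_Ukeep hsw a ha⟩)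
  obtain ⟨l, hl⟩ := C.G.exists_nPerm hn.1
  have hπ := T.mem_Wp_of_fix hnF hn.1 hl
  set π := C.G.pw l
  by_cases hpos : ∀ j ∈ O.J k, D.IsPosRoot (π⁻¹ (C.G.simp' j)).val
  · left
    have hU : n⁻¹ * c * n ∈ D.posUnipotent K := by
      have := C.G.conj_Ukeep (Good.NPerm.inv C.G hl) c (P.keep_of_pos (inv_mem hπ) hpos hc)
      rwa [inv_inv] at this
    refine ⟨_, hA, n⁻¹ * c * n * (n⁻¹ * d * n), mul_mem (P.mem_B_of_U
      (Subgroup.mem_inf.2 ⟨mul_mem (mul_mem (inv_mem hnF) hcF) hnF, hU⟩)) (P.mem_B_of_H hd'), by group⟩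
  · by_cases hc1 : c = 1
    · left
      exact ⟨_, hA, n⁻¹ * d * n, P.mem_B_of_H hd', by rw [hc1]; group⟩
    right
    obtain ⟨j0, hj0, hneg⟩ : ∃ j ∈ O.J k, ¬ D.IsPosRoot (π⁻¹ (C.G.simp' j)).val := by
      by_contra h
      simp only [not_exists, not_and, not_not] at h
      exact hpos h
    have hpos' : ∀ j ∈ O.J k, D.IsPosRoot ((O.wO k * π)⁻¹ (C.G.simp' j)).val := by
      intro j hj
      rw [mul_inv_rev, O.wO_inv, O.neg_iff (inv_mem hπ) hj]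
      exact fun h => hneg ((O.sign_orbit (inv_mem hπ) hj hj0).1 h)
    set v' := s * c * s⁻¹ with hv'
    have hcL : c ∈ (LJ C.G (O.J k) : Subgroup (GL D.Idx K)) := O.Uinv_le_LJ k hc
    have hL : v' ∈ (LJ C.G (O.J k) : Subgroup (GL D.Idx K)) := by
      revert hcL
      rw [hv']
      intro hcL
      clear hv' v' hc hcF hvF hvU hb hc1
      induction hcL using Subgroup.closure_induction with
      | one => simp
      | mul p q _ _ hp hq =>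
        rw [show s * (p * q) * s⁻¹ = (s * p * s⁻¹) * (s * q * s⁻¹) by group]; exact mul_mem hp hq
      | inv p _ hp => rw [show s * p⁻¹ * s⁻¹ = (s * p * s⁻¹)⁻¹ by group]; exact inv_mem hp
      | mem y hy =>
        obtain ⟨r, t, hr, rfl⟩ := hy
        obtain ⟨e, he⟩ := hsw r
        rw [he]
        exact Subgroup.subset_closure ⟨_, _, (C.G.inJ_pw (O.wl_mem k)).2 hr, rfl⟩
    obtain ⟨c1, hc1', m, hm, hmπ, c2, hc2, e⟩ := O.rank_one
      (mul_mem (mul_mem hsF hcF) (inv_mem hsF)) hL (C.G.conj_Uinv hsw c hc)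
      (fun e => hc1 (conj_eq_one_iff.1 e))
    have hms : m * s ∈ T.Fix ⊓ D.diagonalSubgroup K := by
      refine Subgroup.mem_inf.2 ⟨mul_mem hm.1 hsF,
        C.G.mem_H_of_nPerm_one (mul_mem hm.2 (P.toPre.nk_monomial k)) ?_⟩
      have := Good.NPerm.mul C.G hmπ hsw
      rwa [O.wO_mul_self] at this
    have hsn : C.G.NPerm (s * n) (O.wO k * π) := Good.NPerm.mul C.G hsw hl
    have hU : (s * n)⁻¹ * c2 * (s * n) ∈ D.posUnipotent K := by
      have := C.G.conj_Ukeep (Good.NPerm.inv C.G hsn) c2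
        (P.keep_of_pos (inv_mem (mul_mem (O.wO_mem k) hπ)) hpos' hc2.2)
      rwa [inv_inv] at this
    refine ⟨s * a * s⁻¹ * c1 * (m * s), mul_mem (mul_mem hA (P.mem_B_of_U
        ⟨hc1'.1, C.G.Uinv_le _ hc1'.2⟩)) (P.mem_B_of_H hms),
      (s * n)⁻¹ * c2 * (s * n) * (n⁻¹ * d * n), mul_mem (P.mem_B_of_U (Subgroup.mem_inf.2
        ⟨mul_mem (mul_mem (inv_mem (mul_mem hsF hnF)) hc2.1) (mul_mem hsF hnF), hU⟩))
        (P.mem_B_of_H hd'), ?_⟩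
    calc s * (a * c * d) * n = s * a * s⁻¹ * v' * (s * n) * (n⁻¹ * d * n) := by rw [hv']; group
      _ = _ := by rw [hv', e]; group

/-- the distinguished generators -/
noncomputable def sGp (k : ι) : ↥Γ := ⟨P.toPre.nk k, P.toPre.nk_mem k⟩

theorem sGp_injective : Function.Injective P.sGp := fun k k' h => O.wO_injective
  (Good.NPerm.unique C.G (P.toPre.nk_perm k)
    (by rw [show P.toPre.nk k = P.toPre.nk k' from congrArg Subtype.val h]; exact P.toPre.nk_perm k'))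

theorem B_inf_N {g : GL D.Idx K} (hB : g ∈ D.borelSubgroup K ⊓ Γ)
    (hN : g ∈ D.monomialSubgroup K ⊓ Γ) : g ∈ T.Fix ⊓ D.diagonalSubgroup K :=
  ⟨P.le hB.2, C.G.B_inf_N (K := K) ▸ Subgroup.mem_inf.2 ⟨hB.1, hN.1⟩⟩

/-- the (B, N)-pair of the fixed group -/
noncomputable def bnPair : Cfsg.BNPair ↥Γ where
  B := (D.borelSubgroup K ⊓ Γ).subgroupOf Γ
  N := (D.monomialSubgroup K ⊓ Γ).subgroupOf Γ
  S := Set.range P.sGp
  sup_eq_top := by
    rw [eq_top_iff]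
    intro g _
    obtain ⟨v, m, u, π, hv, hm, hπ, -, hu, e⟩ := T.fix_bruhat (P.le g.2)
    have hu' : u ∈ D.borelSubgroup K ⊓ Γ := P.mem_B_of_U ⟨hu.1, C.G.Uinv_le _ hu.2⟩
    rw [show g = (⟨v, P.toPre.U_le hv⟩ : ↥Γ) * ⟨m, P.N_le hm⟩ * ⟨u, hu'.2⟩ from Subtype.ext e]
    refine mul_mem (mul_mem (Subgroup.mem_sup_left ?_) (Subgroup.mem_sup_right ?_))
      (Subgroup.mem_sup_left ?_)
    · exact Subgroup.mem_subgroupOf.2 (P.mem_B_of_U hv)
    · exact Subgroup.mem_subgroupOf.2 ⟨hm.2, P.N_le hm⟩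
    · exact Subgroup.mem_subgroupOf.2 hu'
  conj_mem := by
    rintro n hn t ⟨ht1, ht2⟩
    exact Subgroup.mem_subgroupOf.2 (P.mem_B_of_H (P.conj_H (Subgroup.mem_subgroupOf.1 hn)
      (P.B_inf_N (Subgroup.mem_subgroupOf.1 ht1) (Subgroup.mem_subgroupOf.1 ht2))))
  subset := by
    rintro x ⟨k, rfl⟩
    exact Subgroup.mem_subgroupOf.2 (P.nk_mem_N k)
  sq_mem := by
    rintro x ⟨k, rfl⟩
    refine Subgroup.mem_subgroupOf.2 (P.mem_B_of_H (Subgroup.mem_inf.2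
      ⟨mul_mem (P.le (P.toPre.nk_mem k)) (P.le (P.toPre.nk_mem k)),
        C.G.mem_H_of_nPerm_one (mul_mem (P.toPre.nk_monomial k) (P.toPre.nk_monomial k)) ?_⟩))
    have := Good.NPerm.mul C.G (P.toPre.nk_perm k) (P.toPre.nk_perm k)
    rwa [O.wO_mul_self] at this
  inj := by
    rintro x ⟨k, rfl⟩ y ⟨k', rfl⟩ h
    have h' := P.B_inf_N (g := (P.toPre.nk k)⁻¹ * P.toPre.nk k') (Subgroup.mem_subgroupOf.1 h)
      (mul_mem (inv_mem (P.nk_mem_N k)) (P.nk_mem_N k'))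
    have e := Good.NPerm.unique C.G (C.G.nPerm_H h'.2)
      (Good.NPerm.mul C.G (Good.NPerm.inv C.G (P.toPre.nk_perm k)) (P.toPre.nk_perm k'))
    rw [eq_comm, inv_mul_eq_one] at e
    rw [O.wO_injective e]
  closure_sup := by
    refine le_antisymm (sup_le ((Subgroup.closure_le _).2 ?_) inf_le_right) ?_
    · rintro x ⟨k, rfl⟩; exact Subgroup.mem_subgroupOf.2 (P.nk_mem_N k)
    · intro x hx
      have hx' := Subgroup.mem_subgroupOf.1 hx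
      obtain ⟨d, hd, n, hn, e⟩ := P.N_decomp ⟨P.le hx'.2, hx'.1⟩
      have hn' : n ∈ (Subgroup.closure (Set.range P.sGp)).map Γ.subtype := by
        rw [MonoidHom.map_closure]
        refine Subgroup.closure_mono ?_ hn
        rintro y ⟨k, rfl⟩
        exact ⟨P.sGp k, ⟨k, rfl⟩, rfl⟩
      obtain ⟨n', hn'', en⟩ := hn'
      rw [show x = ⟨d, P.H_le hd⟩ * n' from Subtype.ext (e.trans (by rw [← en]; rfl))]
      refine mul_mem (Subgroup.mem_sup_right (Subgroup.mem_inf.2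
        ⟨Subgroup.mem_subgroupOf.2 (P.mem_B_of_H hd),
          Subgroup.mem_subgroupOf.2 ⟨C.G.H_le_monomial hd.2, P.H_le hd⟩⟩)) (Subgroup.mem_sup_left hn'')
  mul_mem_union := by
    rintro x ⟨k, rfl⟩ n hn b hb
    rcases P.mul_mem_union k (Subgroup.mem_subgroupOf.1 hn) (Subgroup.mem_subgroupOf.1 hb) with h | h
    · obtain ⟨a, ha, c, hc, e⟩ := h
      exact Or.inl (DoubleCoset.mem_doubleCoset.2 ⟨⟨a, ha.2⟩, Subgroup.mem_subgroupOf.2 ha,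
        ⟨c, hc.2⟩, Subgroup.mem_subgroupOf.2 hc, Subtype.ext e⟩)
    · obtain ⟨a, ha, c, hc, e⟩ := h
      exact Or.inr (DoubleCoset.mem_doubleCoset.2 ⟨⟨a, ha.2⟩, Subgroup.mem_subgroupOf.2 ha,
        ⟨c, hc.2⟩, Subgroup.mem_subgroupOf.2 hc, Subtype.ext e⟩)
  conj_ne := by
    rintro x ⟨k, rfl⟩ heq
    obtain ⟨c, hc, hc1⟩ := P.X_ne k
    have hcB := P.mem_B_of_U (g := c) ⟨hc.1, C.G.Uinv_le _ hc.2⟩
    set s := P.toPre.nk k
    have h1 : s * c * s ∈ D.borelSubgroup K ⊓ Γ := Subgroup.mem_subgroupOf.1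
      (heq.subset ⟨⟨c, hcB.2⟩, Subgroup.mem_subgroupOf.2 hcB, rfl⟩)
    have h2 : s * s ∈ D.borelSubgroup K := by
      refine Subgroup.mem_sup_right
        (C.G.mem_H_of_nPerm_one (mul_mem (P.toPre.nk_monomial k) (P.toPre.nk_monomial k)) ?_)
      have := Good.NPerm.mul C.G (P.toPre.nk_perm k) (P.toPre.nk_perm k)
      rwa [O.wO_mul_self] at this
    have h3 := Subgroup.mul_mem _ (Subgroup.mem_inf.1 h1).1 (Subgroup.inv_mem _ h2)
    rw [show s * c * s * (s * s)⁻¹ = s * c * s⁻¹ by group] at h3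
    have h4 : s * c * s⁻¹ = 1 := Subgroup.mem_bot.1 (C.G.B_inf_V (K := K) ▸
      Subgroup.mem_inf.2 ⟨h3, C.G.conj_Uinv (P.toPre.nk_perm k) c hc.2⟩)
    exact hc1 (conj_eq_one_iff.1 h4)

/-- the existence of the (B, N)-pair in the form of the statements -/
theorem exists_bnPair : ∃ Q : Cfsg.BNPair ↥Γ,
    Q.B = (D.borelSubgroup K ⊓ Γ).subgroupOf Γ ∧ Q.N = (D.monomialSubgroup K ⊓ Γ).subgroupOf Γ :=
  ⟨P.bnPair, rfl, rfl⟩

end TwGp

end CfsgLib.Lie.Chev
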