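import Cfsg.Agent.Lib.Lie.Chev.Tw.Emb
import Cfsg.Agent.Lib.Lie.Chev.GoodB2

/-!
Intertwiner tables for type B2.
-/

set_option autoImplicit false
set_option maxRecDepth 100000

namespace CfsgLib.Lie.Chev

/-- the intertwiner for the node permutation [1, 0] of type B2 -/
noncomputable def graphB2 : EmbData where
  m := 2
  tgt := (.node 5 (.node 2 (.node 1 (.leaf 0) (.leaf 1)) (.node 3 (.leaf 4) (.node 4 (.leaf 0) (.leaf 0)))) (.node 7 (.node 6 (.leaf 5) (.leaf 8)) (.node 8 (.leaf 0) (.node 9 (.leaf 0) (.leaf 9)))))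
  src := (.node 5 (.node 2 (.node 1 (.leaf 2) (.leaf 0)) (.node 3 (.leaf 0) (.node 4 (.leaf 3) (.leaf 6)))) (.node 7 (.node 6 (.leaf 0) (.leaf 0)) (.node 8 (.leaf 7) (.node 9 (.leaf 10) (.leaf 0)))))
  neg := (.node 5 (.node 2 (.node 1 (.leaf false) (.leaf false)) (.node 3 (.leaf false) (.node 4 (.leaf false) (.leaf false)))) (.node 7 (.node 6 (.leaf false) (.leaf false)) (.node 8 (.leaf false) (.node 9 (.leaf false) (.leaf false)))))
  p := (.node 4 (.node 2 (.node 1 (.leaf 1) (.leaf 0)) (.node 3 (.leaf 3) (.leaf 2))) (.node 6 (.node 5 (.leaf 5) (.leaf 4)) (.node 7 (.leaf 7) (.leaf 6))))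
  lam := (.node 4 (.node 2 (.node 1 (.leaf 1) (.leaf 2)) (.node 3 (.leaf 2) (.leaf 1))) (.node 6 (.node 5 (.leaf 1) (.leaf 2)) (.node 7 (.leaf 2) (.leaf 1))))
  eps := (.node 4 (.node 2 (.node 1 (.leaf false) (.leaf false)) (.node 3 (.leaf false) (.leaf false))) (.node 6 (.node 5 (.leaf false) (.leaf false)) (.node 7 (.leaf false) (.leaf false))))

theorem chk_graphB2 : chkEmb Cfsg.Lie.chevB2 fastB2 graphB2 = true := by decide +kernel

theorem emb_graphB2 : Emb goodB2 fastB2 graphB2 := ⟨checksB2, chk_graphB2⟩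

end CfsgLib.Lie.Chev
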