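import Cfsg.Agent.Lib.Lie.Chev.Api
import Cfsg.Agent.Lib.Lie.Chev.CoxCert

/-!
# Intertwiners between two blocks of the root element matrices

A certificate compares, coefficient by coefficient, the block of `x_r(t)` on a set of coordinates
with the block of `x_{p r}(± t^λ)` on the image of this set, modulo `m`.
-/

set_option autoImplicit false

namespace CfsgLib.Lie.Chev

open Cfsg.Lie
open scoped MatrixGroups

/-- the data of an intertwiner: `tgt b` is `0` off the source block and the image plus one on it -/
structure EmbData where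
  m : ℕ
  tgt : Tree ℕ
  src : Tree ℕ
  neg : Tree Bool
  p : Tree ℕ
  lam : Tree ℕ
  eps : Tree Bool

/-- a sign -/
def sgnB (b : Bool) : ℤ := cond b (-1) 1

theorem sgnB_sq (b : Bool) : sgnB b * sgnB b = 1 := by cases b <;> rfl

theorem sgnB_unit (b : Bool) : sgnB b = 1 ∨ sgnB b = -1 := by cases b <;> simp [sgnB]

/-- divisibility of an integer by the modulus -/
noncomputable def modz (m : ℕ) (z : ℤ) : Bool := Nat.beq (z.natAbs % m) 0

theorem modz_cast {m : ℕ} {z : ℤ} (h : modz m z = true) {R : Type*} [CommRing R] (hm : (m : R) = 0) :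
    (z : R) = 0 := by
  obtain ⟨c, hc⟩ : (m : ℤ) ∣ z :=
    Int.natCast_dvd.2 (Nat.dvd_of_mod_eq_zero (Nat.eq_of_beq_eq_true h))
  rw [hc, Int.cast_mul, Int.cast_natCast, hm, zero_mul]

section

variable (D : ChevalleyDatum) (f : Fast) (E : EmbData)

/-- the coordinate is in the source block -/
noncomputable def EmbData.inT (b : ℕ) : Bool := !(Nat.beq (E.tgt.get b) 0)

/-- the coordinate is in the target block -/
noncomputable def EmbData.inS (b : ℕ) : Bool := !(Nat.beq (E.src.get b) 0)

/-- the coefficient vector of `t ^ d` on the source side -/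
noncomputable def srcVec (r d b : ℕ) : List (ℕ × ℤ) := cond (Nat.blt d 4) (actF f r d b) []

/-- the coefficient vector of `t ^ d` on the target side -/
noncomputable def tgtVec (r d b : ℕ) : List (ℕ × ℤ) :=
  cond (Nat.beq (d % E.lam.get r) 0 && Nat.blt (d / E.lam.get r) 4)
    (scale (sgnB (E.eps.get r) ^ (d / E.lam.get r)) (actF f (E.p.get r) (d / E.lam.get r) b)) []

/-- the comparison at one entry -/
noncomputable def cmpAt (r d b a : ℕ) : Bool :=
  modz E.m (sgnB (E.neg.get a) * sgnB (E.neg.get b) * coefR (srcVec f r d b) a -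
    coefR (tgtVec f E r d (E.tgt.get b - 1)) (E.tgt.get a - 1))

/-- the checks for one root and one coordinate -/
noncomputable def chkEmbAt (r b : ℕ) : Bool :=
  allLt 10 fun d => cond (Nat.beq d 0) true
    (cond (E.inT b)
      (allList (srcVec f r d b) (fun e => cond (E.inT e.1) (cmpAt f E r d b e.1) true) &&
        allList (tgtVec f E r d (E.tgt.get b - 1)) (fun e =>
          cond (E.inS e.1) (cmpAt f E r d b (E.src.get e.1 - 1)) true))
      (allList (srcVec f r d b) (fun e =>
        cond (E.inT e.1) (modz E.m (coefR (srcVec f r d b) e.1)) true)) &&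
    cond (E.inS b) (allList (srcVec f r d b) (fun e =>
      cond (E.inS e.1) true (modz E.m (coefR (srcVec f r d b) e.1)))) true)

/-- all checks -/
noncomputable def chkEmb : Bool :=
  (allLt (D.rank + D.nroots) fun b =>
    cond (E.inT b) (Nat.ble (E.tgt.get b) (D.rank + D.nroots) &&
      Nat.beq (E.src.get (E.tgt.get b - 1)) (b + 1)) true &&
    cond (E.inS b) (Nat.ble (E.src.get b) (D.rank + D.nroots) &&
      Nat.beq (E.tgt.get (E.src.get b - 1)) (b + 1)) true) &&
  (allLt D.nroots fun r => Nat.blt (E.p.get r) D.nroots && Nat.blt 0 (E.lam.get r) &&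
    Nat.blt (E.lam.get r) 4 &&
    allLt (D.rank + D.nroots) fun b => chkEmbAt f E r b)

end

variable {D : ChevalleyDatum} {f : Fast} {E : EmbData}

/-- the coordinates of the source block -/
def TIdx (D : ChevalleyDatum) (E : EmbData) : Type := {b : D.Idx // E.inT (pos D b) = true}

noncomputable instance : Fintype (TIdx D E) := by unfold TIdx; infer_instance

noncomputable instance : DecidableEq (TIdx D E) := by unfold TIdx; infer_instance

/-- the verified intertwiner -/
structure Emb (G : Good D) (f : Fast) (E : EmbData) : Prop where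
  checks : Checks D f
  ok : chkEmb D f E = true

namespace Emb

variable {G : Good D} (h : Emb G f E)

include h

theorem rows : RowsOK D f := rowsOK h.checks.rows

theorem bounds (b : ℕ) (hb : b < D.rank + D.nroots) :
    (E.inT b = true → E.tgt.get b - 1 < D.rank + D.nroots ∧
      E.src.get (E.tgt.get b - 1) = b + 1 ∧ E.inS (E.tgt.get b - 1) = true) ∧
    (E.inS b = true → E.src.get b - 1 < D.rank + D.nroots ∧
      E.tgt.get (E.src.get b - 1) = b + 1 ∧ E.inT (E.src.get b - 1) = true) := by
  have hc := h.ok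
  simp only [chkEmb, Bool.and_eq_true] at hc
  have := allLt_spec hc.1 b hb
  simp only [Bool.and_eq_true] at this
  constructor
  · intro hT
    have h1 := this.1
    rw [hT, cond_true, Bool.and_eq_true] at h1
    obtain ⟨h2, h3⟩ := h1
    have h2' := Nat.le_of_ble_eq_true h2
    have h3' := Nat.eq_of_beq_eq_true h3
    have hne : E.tgt.get b ≠ 0 := fun e => by
      simp only [EmbData.inT, natBeq_true e] at hT; exact Bool.false_ne_true hT
    refine ⟨by omega, h3', ?_⟩
    simp only [EmbData.inS, natBeq_false (show E.src.get (E.tgt.get b - 1) ≠ 0 by omega)]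
    rfl
  · intro hS
    have h1 := this.2
    rw [hS, cond_true, Bool.and_eq_true] at h1
    obtain ⟨h2, h3⟩ := h1
    have h2' := Nat.le_of_ble_eq_true h2
    have h3' := Nat.eq_of_beq_eq_true h3
    have hne : E.src.get b ≠ 0 := fun e => by
      simp only [EmbData.inS, natBeq_true e] at hS; exact Bool.false_ne_true hS
    refine ⟨by omega, h3', ?_⟩
    simp only [EmbData.inT, natBeq_false (show E.tgt.get (E.src.get b - 1) ≠ 0 by omega)]
    rfl

/-- the image of a coordinate of the source block -/
noncomputable def σ (a : TIdx D E) : D.Idx :=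
  (exists_pos D ((h.bounds (pos D a.1) (pos_lt D a.1)).1 a.2).1).choose

theorem pos_σ (a : TIdx D E) : pos D (h.σ a) = E.tgt.get (pos D a.1) - 1 :=
  (exists_pos D ((h.bounds (pos D a.1) (pos_lt D a.1)).1 a.2).1).choose_spec

theorem σ_injective : Function.Injective h.σ := by
  intro a b e
  have e1 := congrArg (pos D) e
  rw [h.pos_σ, h.pos_σ] at e1
  have ha := ((h.bounds (pos D a.1) (pos_lt D a.1)).1 a.2).2.1
  have hb := ((h.bounds (pos D b.1) (pos_lt D b.1)).1 b.2).2.1
  rw [e1, hb] at ha
  exact Subtype.ext (pos_injective D (by omega))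

theorem inS_σ (a : TIdx D E) : E.inS (pos D (h.σ a)) = true := by
  rw [h.pos_σ]; exact ((h.bounds (pos D a.1) (pos_lt D a.1)).1 a.2).2.2

theorem exists_σ {c : D.Idx} (hc : E.inS (pos D c) = true) : ∃ a, h.σ a = c := by
  obtain ⟨h1, h2, h3⟩ := (h.bounds (pos D c) (pos_lt D c)).2 hc
  obtain ⟨a, ha⟩ := exists_pos D h1
  refine ⟨⟨a, by rw [ha]; exact h3⟩, pos_injective D ((h.pos_σ _).trans ?_)⟩
  show E.tgt.get (pos D a) - 1 = pos D c
  rw [ha]
  omega

omit h in
/-- the sign of a coordinate -/
noncomputable def sg (E : EmbData) (a : D.Idx) : ℤ := sgnB (E.neg.get (pos D a))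

/-- the image root -/
noncomputable def proot (r : Fin D.nroots) : Fin D.nroots :=
  ⟨E.p.get r.val, by
    have := h.ok
    simp only [chkEmb, Bool.and_eq_true] at this
    have := allLt_spec this.2 r.val r.isLt
    simp only [Bool.and_eq_true, Nat.blt_eq] at this
    exact this.1.1.1⟩

theorem lam_bound (r : Fin D.nroots) : 0 < E.lam.get r.val ∧ E.lam.get r.val < 4 := by
  have := h.ok
  simp only [chkEmb, Bool.and_eq_true] at this
  have := allLt_spec this.2 r.val r.isLt
  simp only [Bool.and_eq_true, Nat.blt_eq] at this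
  exact ⟨this.1.1.2, this.1.2⟩

theorem at_spec (r : Fin D.nroots) (b : D.Idx) {d : ℕ} (hd0 : d ≠ 0) (hd : d < 10) :
    (E.inT (pos D b) = true → ∀ a, E.inT a = true → a < D.rank + D.nroots →
      modz E.m (sgnB (E.neg.get a) * sgnB (E.neg.get (pos D b)) * coef (srcVec f r.val d (pos D b)) a -
        coef (tgtVec f E r.val d (E.tgt.get (pos D b) - 1)) (E.tgt.get a - 1)) = true) ∧
    (E.inT (pos D b) = false → ∀ a, E.inT a = true →
      modz E.m (coef (srcVec f r.val d (pos D b)) a) = true) ∧
    (E.inS (pos D b) = true → ∀ a, E.inS a = false →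
      modz E.m (coef (srcVec f r.val d (pos D b)) a) = true) := by
  have h0 : ∀ m : ℕ, modz m 0 = true := fun m => by simp [modz]
  have hzero : ∀ (v : List (ℕ × ℤ)) (a : ℕ), (∀ e ∈ v, e.1 ≠ a) → coef v a = 0 := by
    intro v a hv
    induction v with
    | nil => rfl
    | cons e v ih =>
      rw [coef_cons, if_neg (hv e List.mem_cons_self), ih fun x hx => hv x (List.mem_cons_of_mem _ hx), add_zero]
  have := h.ok
  simp only [chkEmb, Bool.and_eq_true] at this
  have hr := allLt_spec this.2 r.val r.isLt
  simp only [Bool.and_eq_true] at hr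
  have hat := allLt_spec hr.2 (pos D b) (pos_lt D b)
  unfold chkEmbAt at hat
  have hd' := allLt_spec hat d hd
  rw [natBeq_false hd0, cond_false, Bool.and_eq_true] at hd'
  obtain ⟨hA, hB⟩ := hd'
  refine ⟨fun hT a ha halt => ?_, fun hT a ha => ?_, fun hS a ha => ?_⟩
  · rw [hT, cond_true, Bool.and_eq_true] at hA
    by_cases h1 : ∃ e ∈ srcVec f r.val d (pos D b), e.1 = a
    · obtain ⟨e, he, rfl⟩ := h1
      have := allList_spec hA.1 e he
      rw [ha, cond_true] at this
      simpa [cmpAt, coefR_eq] using this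
    · push Not at h1
      rw [hzero _ a h1]
      by_cases h2 : ∃ e ∈ tgtVec f E r.val d (E.tgt.get (pos D b) - 1), e.1 = E.tgt.get a - 1
      · obtain ⟨e, he, hea⟩ := h2
        have := allList_spec hA.2 e he
        obtain ⟨-, hsrc, hS⟩ := (h.bounds a halt).1 ha
        rw [hea, hS, cond_true, hsrc, Nat.add_sub_cancel] at this
        simpa [cmpAt, coefR_eq, hzero _ a h1] using this
      · push Not at h2
        rw [hzero _ _ h2]
        simpa using h0 E.m
  · rw [hT, cond_false] at hA
    by_cases h1 : ∃ e ∈ srcVec f r.val d (pos D b), e.1 = a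
    · obtain ⟨e, he, rfl⟩ := h1
      have := allList_spec hA e he
      rw [ha, cond_true] at this
      simpa [coefR_eq] using this
    · push Not at h1
      rw [hzero _ a h1]
      exact h0 E.m
  · rw [hS, cond_true] at hB
    by_cases h1 : ∃ e ∈ srcVec f r.val d (pos D b), e.1 = a
    · obtain ⟨e, he, rfl⟩ := h1
      have := allList_spec hB e he
      rw [ha, cond_false] at this
      simpa [coefR_eq] using this
    · push Not at h1
      rw [hzero _ a h1]
      exact h0 E.m

theorem srcVec_coef (r : Fin D.nroots) (d : ℕ) (hd0 : d ≠ 0) (b : D.Idx) (a : ℕ) :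
    coef (srcVec f r.val d (pos D b)) a = if d < 4 then coef (act D r.val d (pos D b)) a else 0 := by
  unfold srcVec
  by_cases hd : d < 4
  · rw [natBlt_true hd, cond_true, if_pos hd,
      actF_eq h.rows r.isLt (Nat.pos_of_ne_zero hd0) (by omega) (pos_lt D b)]
  · rw [natBlt_false hd, cond_false, if_neg hd]
    rfl

variable {R : Type*} [CommRing R] (hm : (E.m : R) = 0)

include hm

/-- the entries leading from outside the source block into it vanish -/
theorem xg_src_zero (r : Fin D.nroots) (t : R) {a b : D.Idx} (ha : E.inT (pos D a) = true)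
    (hb : E.inT (pos D b) = false) : xg R r t a b = 0 := by
  have hab : a ≠ b := fun e => by rw [e, hb] at ha; exact Bool.false_ne_true ha
  have hz : ∀ k, 1 ≤ k → k < 4 → ((coef (act D r.val k (pos D b)) (pos D a) : ℤ) : R) = 0 := by
    intro k h1 h4
    have := (h.at_spec r b (by omega) (show k < 10 by omega)).2.1 hb (pos D a) ha
    rw [h.srcVec_coef r k (by omega), if_pos h4] at this
    exact modz_cast this hm
  rw [xg_apply, if_neg hab, hz 1 le_rfl (by norm_num), hz 2 (by norm_num) (by norm_num),
    hz 3 (by norm_num) (by norm_num)]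
  simp

/-- the entries leading out of the target block vanish -/
theorem xg_tgt_zero (r : Fin D.nroots) (t : R) {a b : D.Idx} (ha : E.inS (pos D a) = false)
    (hb : E.inS (pos D b) = true) : xg R r t a b = 0 := by
  have hab : a ≠ b := fun e => by rw [e, hb] at ha; exact Bool.false_ne_true ha.symm
  have hz : ∀ k, 1 ≤ k → k < 4 → ((coef (act D r.val k (pos D b)) (pos D a) : ℤ) : R) = 0 := by
    intro k h1 h4
    have := (h.at_spec r b (by omega) (show k < 10 by omega)).2.2 hb (pos D a) ha
    rw [h.srcVec_coef r k (by omega), if_pos h4] at this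
    exact modz_cast this hm
  rw [xg_apply, if_neg hab, hz 1 le_rfl (by norm_num), hz 2 (by norm_num) (by norm_num),
    hz 3 (by norm_num) (by norm_num)]
  simp

/-- the two blocks agree -/
theorem xg_block (r : Fin D.nroots) (t : R) (a b : TIdx D E) :
    xg R (h.proot r) ((sgnB (E.eps.get r.val) : R) * t ^ E.lam.get r.val) (h.σ a) (h.σ b) =
      (sg E a.1 : R) * (sg E b.1 : R) * xg R r t a.1 b.1 := by
  obtain ⟨hl0, hl4⟩ := h.lam_bound r
  set lam := E.lam.get r.val with hlam
  set ε := sgnB (E.eps.get r.val) with hε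
  set A : ℕ → ℤ := fun k => coef (act D r.val k (pos D b.1)) (pos D a.1)
  set B : ℕ → ℤ := fun k => coef (act D (h.proot r).val k (pos D (h.σ b))) (pos D (h.σ a))
  have key : ∀ d, d ≠ 0 → d < 10 → ((sg E a.1 * sg E b.1 * (if d < 4 then A d else 0) : ℤ) : R) =
      ((if d % lam = 0 ∧ d / lam < 4 then ε ^ (d / lam) * B (d / lam) else 0 : ℤ) : R) := by
    intro d hd0 hd
    have := (h.at_spec r b.1 hd0 hd).1 b.2 (pos D a.1) a.2 (pos_lt D a.1)
    rw [h.srcVec_coef r d hd0, ← h.pos_σ, ← h.pos_σ] at this
    have e : coef (tgtVec f E r.val d (pos D (h.σ b))) (pos D (h.σ a)) =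
        if d % lam = 0 ∧ d / lam < 4 then ε ^ (d / lam) * B (d / lam) else 0 := by
      unfold tgtVec
      rw [← hlam, ← hε]
      by_cases hc : d % lam = 0 ∧ d / lam < 4
      · rw [natBeq_true hc.1, natBlt_true hc.2, if_pos hc]
        simp only [Bool.and_self, cond_true]
        rw [coef_scale]
        congr 1
        have hk1 : 1 ≤ d / lam :=
          Nat.div_pos (Nat.le_of_dvd (Nat.pos_of_ne_zero hd0) (Nat.dvd_of_mod_eq_zero hc.1)) hl0
        show coef (actF f (h.proot r).val (d / lam) _) _ = _
        rw [actF_eq h.rows (h.proot r).isLt hk1 (by omega) (pos_lt D _)]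
      · rw [if_neg hc]
        by_cases h1 : d % lam = 0
        · rw [natBeq_true h1, natBlt_false (fun h2 => hc ⟨h1, h2⟩)]; rfl
        · rw [natBeq_false h1]; rfl
    rw [e] at this
    have h2 := modz_cast this hm
    rw [Int.cast_sub, sub_eq_zero] at h2
    exact h2
  have hsq : (sg E a.1 : R) * (sg E a.1 : R) = 1 := by
    rw [← Int.cast_mul, show sg E a.1 = sgnB (E.neg.get (pos D a.1)) from rfl, sgnB_sq, Int.cast_one]
  have hdiag : ((if h.σ a = h.σ b then 1 else 0) : R) =
      (sg E a.1 : R) * (sg E b.1 : R) * (if a.1 = b.1 then 1 else 0) := by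
    by_cases hab : a = b
    · subst hab; rw [if_pos rfl, if_pos rfl, mul_one, hsq]
    · rw [if_neg fun e => hab (h.σ_injective e), if_neg fun e => hab (Subtype.ext e), mul_zero]
  rw [xg_apply, xg_apply, hdiag]
  have k1 := key 1 (by norm_num) (by norm_num)
  have k2 := key 2 (by norm_num) (by norm_num)
  have k3 := key 3 (by norm_num) (by norm_num)
  have k4 := key 4 (by norm_num) (by norm_num)
  have k6 := key 6 (by norm_num) (by norm_num)
  have k9 := key 9 (by norm_num) (by norm_num)
  simp only [A, B] at k1 k2 k3 k4 k6 k9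
  interval_cases lam
  · norm_num at k1 k2 k3
    push_cast
    linear_combination -(t * k1) - t ^ 2 * k2 - t ^ 3 * k3
  · norm_num at k1 k2 k3 k4 k6
    push_cast
    linear_combination -(t * k1) - t ^ 2 * k2 - t ^ 3 * k3 - t ^ 4 * k4 - t ^ 6 * k6
  · norm_num at k1 k2 k3 k6 k9
    push_cast
    linear_combination -(t * k1) - t ^ 2 * k2 - t ^ 3 * k3 - t ^ 6 * k6 - t ^ 9 * k9

end Emb

end CfsgLib.Lie.Chev
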