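import Cfsg.Agent.Lib.Lie.Chev.Tw.Twist
import Cfsg.Agent.Lib.Lie.Chev.Tw.Levi

/-!
# The Bruhat decomposition of a fixed element
-/

set_option autoImplicit false

namespace CfsgLib.Lie.Chev

open Cfsg.Lie
open scoped MatrixGroups

variable {D : ChevalleyDatum} {K : Type*} [Field K] {C : Full D}

namespace Twist

variable (T : Twist C.G K)

include T

theorem p_conj_mem {π : Equiv.Perm (Fin D.nroots)} (h : π ∈ C.G.Wg) :
    T.p * π * T.p⁻¹ ∈ C.G.Wg := by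
  obtain ⟨l, rfl⟩ := C.G.exists_pw h
  have hN := C.G.nw_mem_monomial (K := K) l
  have hg := C.G.monomial_le_group hN
  obtain ⟨l', hl'⟩ := C.G.exists_nPerm (T.φ_mem_N hN hg)
  rw [Good.NPerm.unique C.G (T.nPerm_φ hN (C.G.nPerm_nw l) hg) hl']
  exact C.G.pw_mem l'

theorem φ_mem_Uinv {π : Equiv.Perm (Fin D.nroots)} {g : GL D.Idx K}
    (hg : g ∈ (Uinv C.G π : Subgroup (GL D.Idx K))) (h : g ∈ D.group K) :
    (T.φ ⟨g, h⟩ : GL D.Idx K) ∈ (Uinv C.G (T.p * π * T.p⁻¹) : Subgroup (GL D.Idx K)) :=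
  T.φ_mem_of_gens _ _ (fun r hr => ⟨(T.p_pos r).2 hr.1, by simpa [T.p_pos] using hr.2⟩) hg h

theorem φ_mem_Ukeep {π : Equiv.Perm (Fin D.nroots)} {g : GL D.Idx K}
    (hg : g ∈ (Ukeep C.G π : Subgroup (GL D.Idx K))) (h : g ∈ D.group K) :
    (T.φ ⟨g, h⟩ : GL D.Idx K) ∈ (Ukeep C.G (T.p * π * T.p⁻¹) : Subgroup (GL D.Idx K)) :=
  T.φ_mem_of_gens _ _ (fun r hr => ⟨(T.p_pos r).2 hr.1, by simpa [T.p_pos] using hr.2⟩) hg h

omit T in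
theorem conj_eq_of_mem_Wp {p π : Equiv.Perm (Fin D.nroots)} (h : π ∈ Wp C.G p) :
    p * π * p⁻¹ = π := by
  rw [(mem_Wp.1 h).2, mul_inv_cancel_right]

/-- a fixed product splits into fixed factors -/
theorem fix_split {π : Equiv.Perm (Fin D.nroots)} (hπ : π ∈ Wp C.G T.p) {a b : GL D.Idx K}
    (ha : a ∈ (Ukeep C.G π : Subgroup (GL D.Idx K))) (hb : b ∈ (Uinv C.G π : Subgroup (GL D.Idx K)))
    (h : a * b ∈ T.Fix) : a ∈ T.Fix ∧ b ∈ T.Fix := by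
  obtain ⟨l, hl⟩ := C.G.exists_pw (mem_Wp.1 hπ).1
  have hn : C.G.NPerm (C.G.nw (K := K) l) π := hl ▸ C.G.nPerm_nw l
  have hag := C.G.posUnipotent_le_group (C.G.Ukeep_le π ha)
  have hbg := C.G.posUnipotent_le_group (C.G.Uinv_le π hb)
  have ha' := T.φ_mem_Ukeep ha hag
  have hb' := T.φ_mem_Uinv hb hbg
  rw [conj_eq_of_mem_Wp hπ] at ha' hb'
  have e := T.fix_eq h (mul_mem hag hbg)
  rw [show (⟨a * b, mul_mem hag hbg⟩ : ↥(D.group K)) = ⟨a, hag⟩ * ⟨b, hbg⟩ from rfl, map_mul,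
    Subgroup.coe_mul] at e
  set A : GL D.Idx K := (T.φ ⟨a, hag⟩ : GL D.Idx K) with hA
  set B : GL D.Idx K := (T.φ ⟨b, hbg⟩ : GL D.Idx K) with hB
  have e2 : a⁻¹ * A = b * B⁻¹ := by
    calc a⁻¹ * A = a⁻¹ * (A * B) * B⁻¹ := by group
      _ = b * B⁻¹ := by rw [e]; group
  have h1 : a⁻¹ * A = 1 := Subgroup.mem_bot.1 (C.G.Ukeep_inf_Uinv hn ▸ Subgroup.mem_inf.2
    ⟨mul_mem (inv_mem ha) ha', e2 ▸ mul_mem hb (inv_mem hb')⟩)
  rw [h1, eq_comm, mul_inv_eq_one] at e2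
  rw [inv_mul_eq_one] at h1
  exact ⟨T.mem_Fix.2 ⟨hag, Subtype.ext h1.symm⟩, T.mem_Fix.2 ⟨hbg, Subtype.ext e2.symm⟩⟩

/-- the permutation of a fixed monomial element -/
theorem mem_Wp_of_fix {m : GL D.Idx K} (hm : m ∈ T.Fix) (hN : m ∈ D.monomialSubgroup K)
    {π : Equiv.Perm (Fin D.nroots)} (hπ : C.G.NPerm m π) : π ∈ Wp C.G T.p := by
  obtain ⟨l, hl⟩ := C.G.exists_nPerm hN
  refine mem_Wp.2 ⟨Good.NPerm.unique C.G hl hπ ▸ C.G.pw_mem l, ?_⟩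
  have h2 := T.nPerm_φ hN hπ (T.Fix_le hm)
  rw [T.fix_eq hm] at h2
  exact (mul_inv_eq_iff_eq_mul.1 (Good.NPerm.unique C.G h2 hπ))

/-- the fixed Bruhat decomposition -/
theorem fix_bruhat {g : GL D.Idx K} (hg : g ∈ T.Fix) :
    ∃ v m u π, v ∈ T.Fix ⊓ D.posUnipotent K ∧ m ∈ T.Fix ⊓ D.monomialSubgroup K ∧
      π ∈ Wp C.G T.p ∧ C.G.NPerm m π ∧ u ∈ T.Fix ⊓ Uinv C.G π ∧ g = v * m * u := by
  obtain ⟨b, hb, n, hn, π, hπ, u, hu, e⟩ := C.refined_exists (T.Fix_le hg)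
  obtain ⟨v, hv, d, hd, rfl⟩ := C.G.mem_borel_iff.1 hb
  set m := d * n with hm
  have hmN : m ∈ D.monomialSubgroup K := mul_mem (C.G.H_le_monomial hd) hn
  have hmπ : C.G.NPerm m π := by
    have := Good.NPerm.mul C.G (C.G.nPerm_H hd) hπ
    rwa [one_mul] at this
  have hvg := C.G.posUnipotent_le_group hv
  have hmg := C.G.monomial_le_group hmN
  have hug := C.G.posUnipotent_le_group (C.G.Uinv_le π hu)
  have e' : g = v * m * u := by rw [e, hm]; group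
  have hfix := T.fix_eq hg (T.Fix_le hg)
  rw [show (⟨g, T.Fix_le hg⟩ : ↥(D.group K)) = ⟨v, hvg⟩ * ⟨m, hmg⟩ * ⟨u, hug⟩ from Subtype.ext e',
    map_mul, map_mul, Subgroup.coe_mul, Subgroup.coe_mul, e'] at hfix
  set v' : GL D.Idx K := (T.φ ⟨v, hvg⟩ : GL D.Idx K)
  set m' : GL D.Idx K := (T.φ ⟨m, hmg⟩ : GL D.Idx K)
  set u' : GL D.Idx K := (T.φ ⟨u, hug⟩ : GL D.Idx K)
  have hv' : v' ∈ D.posUnipotent K := T.φ_mem_U hv hvg
  have hm' : m' ∈ D.monomialSubgroup K := T.φ_mem_N hmN hmg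
  have hu' := T.φ_mem_Uinv hu hug
  have hπ' : C.G.NPerm m' (T.p * π * T.p⁻¹) := T.nPerm_φ hmN hmπ hmg
  have hd0 := C.eqv_mem_H hmN hm' (Subgroup.mem_sup_left hv) (Subgroup.mem_sup_left hv')
    (Subgroup.mem_sup_left (C.G.Uinv_le π hu)) (Subgroup.mem_sup_left (C.G.Uinv_le _ hu')) hfix.symm
  have hcomm : T.p * π * T.p⁻¹ = π := by
    refine Good.NPerm.unique C.G hπ' ?_
    have := Good.NPerm.mul C.G hmπ (C.G.nPerm_H hd0)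
    rwa [mul_one, mul_inv_cancel_left] at this
  rw [hcomm] at hu'
  have hc : m' * m⁻¹ ∈ D.diagonalSubgroup K := by
    have := (Subgroup.mem_normalizer_iff.1 (C.G.monomial_le_normalizer hmN) _).1 hd0
    simpa [mul_assoc] using this
  obtain ⟨e1, e2⟩ := C.refined_unique (b := v' * (m' * m⁻¹)) (b' := v)
    (mul_mem (Subgroup.mem_sup_left hv') (Subgroup.mem_sup_right hc))
    (Subgroup.mem_sup_left hv) hmπ hu' hu
    (by rw [show v' * (m' * m⁻¹) * m * u' = v' * m' * u' by group]; exact hfix)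
  obtain ⟨e3, e4⟩ := C.G.eq_one_of_U_H (mul_mem (inv_mem hv) hv') hc
    (by rw [mul_assoc, e1, inv_mul_cancel])
  rw [inv_mul_eq_one] at e3
  rw [mul_inv_eq_one] at e4
  have hvF : v ∈ T.Fix := T.mem_Fix.2 ⟨hvg, Subtype.ext e3.symm⟩
  have hmF : m ∈ T.Fix := T.mem_Fix.2 ⟨hmg, Subtype.ext e4⟩
  exact ⟨v, m, u, π, ⟨hvF, hv⟩, ⟨hmF, hmN⟩, T.mem_Wp_of_fix hmF hmN hmπ, hmπ,
    ⟨T.mem_Fix.2 ⟨hug, Subtype.ext e2⟩, hu⟩, e'⟩

/-- a fixed element of the Borel subgroup -/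
theorem fix_borel {g : GL D.Idx K} (hg : g ∈ T.Fix) (hB : g ∈ D.borelSubgroup K) :
    ∃ v ∈ T.Fix ⊓ D.posUnipotent K, ∃ d ∈ T.Fix ⊓ D.diagonalSubgroup K, g = v * d := by
  obtain ⟨v, hv, d, hd, rfl⟩ := C.G.mem_borel_iff.1 hB
  have hvg := C.G.posUnipotent_le_group hv
  have hdg := C.G.diagonal_le_group hd
  have e := T.fix_eq hg (mul_mem hvg hdg)
  rw [show (⟨v * d, mul_mem hvg hdg⟩ : ↥(D.group K)) = ⟨v, hvg⟩ * ⟨d, hdg⟩ from rfl, map_mul,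
    Subgroup.coe_mul] at e
  set v' : GL D.Idx K := (T.φ ⟨v, hvg⟩ : GL D.Idx K)
  set d' : GL D.Idx K := (T.φ ⟨d, hdg⟩ : GL D.Idx K)
  obtain ⟨e3, e4⟩ := C.G.eq_one_of_U_H (mul_mem (inv_mem hv) (T.φ_mem_U hv hvg))
    (mul_mem (T.φ_mem_H hd hdg) (inv_mem hd)) (by
      rw [show v⁻¹ * v' * (d' * d⁻¹) = v⁻¹ * (v' * d') * d⁻¹ by group, e]; group)
  rw [inv_mul_eq_one] at e3
  rw [mul_inv_eq_one] at e4
  exact ⟨v, ⟨T.mem_Fix.2 ⟨hvg, Subtype.ext e3.symm⟩, hv⟩, d,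
    ⟨T.mem_Fix.2 ⟨hdg, Subtype.ext e4⟩, hd⟩, rfl⟩

end Twist

namespace Orbits

variable {T : Twist C.G K} {ι : Type} (O : Orbits C.G T.p ι)

include O

/-- a fixed element of a negative root group of an orbit lies in the big cell of that orbit -/
theorem rank_one {k : ι} {g : GL D.Idx K} (hg : g ∈ T.Fix)
    (hL : g ∈ (LJ C.G (O.J k) : Subgroup (GL D.Idx K))) (hV : g ∈ D.negUnipotent K) (hne : g ≠ 1) :
    ∃ b ∈ T.Fix ⊓ Uinv C.G (O.wO k), ∃ m ∈ T.Fix ⊓ D.monomialSubgroup K,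
      C.G.NPerm m (O.wO k) ∧ ∃ u ∈ T.Fix ⊓ Uinv C.G (O.wO k), g = b * m * u := by
  obtain ⟨v, m, u, π, ⟨hvF, hv⟩, ⟨hmF, hm⟩, hπ, hmπ, ⟨huF, hu⟩, e⟩ := T.fix_bruhat hg
  have hJ : π ∈ WJ C.G (O.J k) := C.mem_WJ_of_parabolic (T.Fix_le hg)
    (O.LJ_le_parabolic C rfl k hL _) (Subgroup.mem_sup_left hv) hm
    (Subgroup.mem_sup_left (C.G.Uinv_le π hu)) hmπ e
  rcases O.eq_one_or_wO hπ hJ with h1 | h1
  · exfalso
    subst h1
    have hH := C.G.mem_H_of_nPerm_one hm hmπ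
    have hB : g ∈ D.borelSubgroup K := by
      rw [e]
      exact mul_mem (mul_mem (Subgroup.mem_sup_left hv) (Subgroup.mem_sup_right hH))
        (Subgroup.mem_sup_left (C.G.Uinv_le _ hu))
    exact hne (Subgroup.mem_bot.1 (C.G.B_inf_V (K := K) ▸ Subgroup.mem_inf.2 ⟨hB, hV⟩))
  subst h1
  obtain ⟨a, ha, b, hb, rfl⟩ := C.exists_keep_mul_inv (O.wO k) hv
  obtain ⟨haF, hbF⟩ := T.fix_split hπ ha hb hvF
  have hw : C.G.NPerm (C.G.nw (K := K) (O.wl k)) (O.wO k) := C.G.nPerm_nw _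
  have hh : m * (C.G.nw (K := K) (O.wl k))⁻¹ ∈ D.diagonalSubgroup K := by
    refine C.G.mem_H_of_nPerm_one (mul_mem hm (inv_mem (C.G.nw_mem_monomial _))) ?_
    have := Good.NPerm.mul C.G hmπ (Good.NPerm.inv C.G hw)
    rwa [mul_inv_cancel] at this
  have hgr : GradedJ C.G (O.J k) (a : Matrix D.Idx D.Idx K) := by
    have ea : a = g * u⁻¹ * (C.G.nw (O.wl k))⁻¹ * (m * (C.G.nw (O.wl k))⁻¹)⁻¹ * b⁻¹ := by
      rw [e]; group
    rw [ea]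
    simp only [Units.val_mul]
    refine C.G.gradedJ_mul (C.G.gradedJ_mul (C.G.gradedJ_mul (C.G.gradedJ_mul
      (C.G.gradedJ_LJ hL) (C.G.gradedJ_LJ (inv_mem (O.Uinv_le_LJ k hu)))) ?_) ?_) ?_
    · exact C.G.gradedJ_LJ (inv_mem (C.G.nw_mem_LJ (O.wl_mem k)))
    · exact C.G.gradedJ_H (inv_mem hh)
    · exact C.G.gradedJ_LJ (inv_mem (O.Uinv_le_LJ k hb))
  have ha1 : a = 1 := C.eq_one_of_graded_keep hw
    (fun r hr hin h => (O.wO_pos_iff hr).1 h hin) ha hgr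
  subst ha1
  exact ⟨b, ⟨hbF, hb⟩, m, ⟨hmF, hm⟩, hmπ, u, ⟨huF, hu⟩, by rw [e, one_mul]⟩

end Orbits

end CfsgLib.Lie.Chev
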