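import Cfsg.Agent.Lib.Lie.Chev.Tw.Tools2
import Cfsg.Agent.Lib.Lie.Chev.GoodG2

/-!
# An identity between sixteen root elements of G₂ in characteristic three

The matrices of the partial products, reduced modulo three, are listed.
-/

set_option autoImplicit false
set_option maxRecDepth 100000

namespace CfsgLib.Lie.Chev

open Cfsg.Lie
open scoped MatrixGroups

namespace TG2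

/-- an entry of a listed matrix -/
def ent (L : List (List ℤ)) (i j : chevG2.Idx) : ℤ := (L.getD (pos chevG2 i) []).getD (pos chevG2 j) 0

/-- one step between listed matrices -/
def Step (L : List (List ℤ)) (r : ℕ) (t : ℤ) (L' : List (List ℤ)) : Prop :=
  ∀ h : r < chevG2.nroots, ∀ i k : chevG2.Idx,
    (∑ j, ent L i j * xg ℤ (⟨r, h⟩ : Fin chevG2.nroots) t j k) % 3 = ent L' i k % 3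

instance (L : List (List ℤ)) (r : ℕ) (t : ℤ) (L' : List (List ℤ)) : Decidable (Step L r t L') := by
  unfold Step; infer_instance

/-- a partial product -/
def L0 : List (List ℤ) :=
  [[1, 0, 0, 0, 0, 0, 0, 0, 0, 0, 0, 0, 0, 0],
   [0, 1, 0, 0, 0, 0, 0, 0, 0, 0, 0, 0, 0, 0],
   [0, 0, 1, 0, 0, 0, 0, 0, 0, 0, 0, 0, 0, 0],
   [0, 0, 0, 1, 0, 0, 0, 0, 0, 0, 0, 0, 0, 0],
   [0, 0, 0, 0, 1, 0, 0, 0, 0, 0, 0, 0, 0, 0],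
   [0, 0, 0, 0, 0, 1, 0, 0, 0, 0, 0, 0, 0, 0],
   [0, 0, 0, 0, 0, 0, 1, 0, 0, 0, 0, 0, 0, 0],
   [0, 0, 0, 0, 0, 0, 0, 1, 0, 0, 0, 0, 0, 0],
   [0, 0, 0, 0, 0, 0, 0, 0, 1, 0, 0, 0, 0, 0],
   [0, 0, 0, 0, 0, 0, 0, 0, 0, 1, 0, 0, 0, 0],
   [0, 0, 0, 0, 0, 0, 0, 0, 0, 0, 1, 0, 0, 0],
   [0, 0, 0, 0, 0, 0, 0, 0, 0, 0, 0, 1, 0, 0],
   [0, 0, 0, 0, 0, 0, 0, 0, 0, 0, 0, 0, 1, 0],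
   [0, 0, 0, 0, 0, 0, 0, 0, 0, 0, 0, 0, 0, 1]]

/-- a partial product -/
def L1 : List (List ℤ) :=
  [[1, 0, 0, 0, 2, 0, 0, 0, 0, 0, 0, 0, 0, 0],
   [0, 1, 0, 0, 0, 0, 0, 0, 0, 0, 0, 0, 0, 0],
   [0, 0, 1, 0, 0, 0, 0, 0, 0, 0, 0, 0, 0, 0],
   [0, 0, 0, 1, 0, 0, 0, 0, 0, 0, 0, 0, 0, 0],
   [0, 0, 0, 0, 1, 0, 0, 0, 0, 0, 0, 0, 0, 0],
   [0, 0, 1, 0, 0, 1, 0, 0, 0, 0, 0, 0, 0, 0],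
   [0, 0, 0, 1, 0, 0, 1, 0, 0, 0, 0, 0, 0, 0],
   [0, 0, 0, 0, 0, 0, 0, 1, 0, 0, 0, 0, 0, 0],
   [0, 0, 0, 0, 0, 0, 0, 0, 1, 0, 0, 0, 0, 0],
   [0, 0, 2, 0, 0, 1, 0, 0, 0, 1, 0, 0, 0, 0],
   [0, 0, 0, 1, 0, 0, 2, 0, 0, 0, 1, 0, 0, 0],
   [2, 0, 0, 0, 2, 0, 0, 0, 0, 0, 0, 1, 0, 0],
   [0, 0, 1, 0, 0, 0, 0, 0, 0, 0, 0, 0, 1, 0],
   [0, 0, 0, 2, 0, 0, 0, 0, 0, 0, 0, 0, 0, 1]]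

/-- a partial product -/
def L2 : List (List ℤ) :=
  [[1, 0, 1, 0, 2, 0, 0, 0, 0, 0, 0, 0, 0, 0],
   [0, 1, 2, 0, 0, 0, 0, 0, 0, 0, 0, 0, 0, 0],
   [0, 0, 1, 0, 0, 0, 0, 0, 0, 0, 0, 0, 0, 0],
   [0, 0, 0, 1, 0, 0, 0, 0, 0, 0, 0, 0, 0, 0],
   [0, 0, 0, 0, 1, 0, 0, 0, 0, 0, 0, 0, 0, 0],
   [0, 0, 1, 0, 0, 1, 0, 0, 0, 0, 0, 0, 0, 0],
   [0, 0, 0, 1, 0, 0, 1, 0, 0, 0, 0, 0, 0, 0],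
   [0, 0, 0, 0, 0, 0, 0, 1, 0, 0, 0, 0, 0, 0],
   [0, 0, 0, 1, 0, 0, 0, 0, 1, 0, 0, 0, 0, 0],
   [0, 0, 2, 0, 0, 1, 0, 0, 0, 1, 0, 0, 0, 0],
   [0, 0, 0, 1, 1, 0, 2, 0, 0, 0, 1, 0, 0, 0],
   [2, 0, 2, 0, 2, 2, 0, 0, 0, 0, 0, 1, 0, 0],
   [0, 0, 1, 0, 0, 0, 0, 2, 0, 0, 0, 0, 1, 0],
   [0, 2, 2, 2, 0, 0, 0, 0, 0, 0, 0, 0, 0, 1]]

/-- a partial product -/
def L3 : List (List ℤ) :=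
  [[2, 0, 1, 0, 2, 0, 0, 0, 0, 0, 0, 0, 2, 0],
   [0, 1, 2, 0, 0, 0, 0, 0, 0, 0, 0, 0, 1, 0],
   [0, 0, 1, 0, 0, 0, 0, 0, 0, 0, 0, 0, 2, 0],
   [0, 0, 0, 1, 0, 0, 0, 0, 0, 0, 0, 0, 0, 1],
   [2, 0, 0, 0, 1, 0, 0, 0, 0, 0, 0, 2, 0, 0],
   [0, 0, 1, 0, 0, 1, 0, 0, 0, 2, 0, 0, 0, 0],
   [0, 0, 0, 1, 0, 0, 1, 0, 0, 0, 1, 0, 0, 0],
   [0, 0, 0, 0, 0, 0, 0, 1, 0, 0, 0, 0, 0, 0],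
   [0, 0, 0, 1, 0, 0, 0, 0, 1, 0, 0, 0, 0, 1],
   [0, 0, 2, 0, 0, 1, 0, 0, 0, 0, 0, 0, 0, 0],
   [2, 0, 0, 1, 1, 0, 2, 0, 0, 0, 0, 2, 0, 0],
   [0, 0, 2, 0, 2, 2, 0, 0, 0, 1, 0, 0, 0, 0],
   [0, 0, 1, 0, 0, 0, 0, 2, 0, 0, 0, 0, 0, 0],
   [0, 2, 2, 2, 0, 0, 0, 0, 0, 0, 0, 0, 1, 0]]

/-- a partial product -/
def L4 : List (List ℤ) :=
  [[2, 2, 1, 0, 2, 0, 0, 0, 0, 0, 1, 0, 2, 1],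
   [0, 2, 2, 0, 0, 0, 0, 0, 0, 0, 0, 0, 1, 0],
   [0, 2, 1, 0, 0, 0, 0, 0, 0, 0, 0, 0, 2, 2],
   [0, 0, 0, 1, 0, 0, 0, 0, 2, 0, 0, 0, 0, 1],
   [2, 0, 0, 0, 1, 0, 0, 0, 0, 0, 2, 2, 0, 2],
   [0, 2, 1, 0, 0, 1, 0, 0, 0, 2, 0, 1, 0, 2],
   [0, 0, 0, 1, 0, 0, 1, 0, 2, 0, 1, 0, 0, 0],
   [0, 0, 0, 0, 0, 0, 0, 1, 0, 0, 0, 0, 1, 0],
   [0, 0, 0, 1, 0, 0, 0, 0, 0, 0, 0, 0, 0, 1],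
   [0, 1, 2, 0, 0, 1, 0, 0, 0, 0, 0, 1, 0, 1],
   [2, 0, 0, 1, 1, 0, 2, 0, 2, 0, 2, 2, 0, 2],
   [0, 1, 2, 0, 2, 2, 0, 0, 0, 1, 1, 2, 0, 1],
   [0, 2, 1, 0, 0, 0, 0, 2, 0, 0, 0, 0, 2, 2],
   [0, 0, 2, 2, 0, 0, 0, 0, 1, 0, 0, 0, 1, 2]]

/-- a partial product -/
def L5 : List (List ℤ) :=
  [[2, 2, 1, 1, 2, 0, 2, 0, 1, 0, 1, 0, 2, 1],
   [0, 2, 2, 0, 0, 0, 0, 0, 1, 0, 0, 0, 1, 0],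
   [0, 2, 1, 0, 0, 0, 0, 0, 2, 0, 0, 0, 2, 2],
   [0, 0, 0, 1, 0, 0, 0, 0, 2, 0, 0, 0, 0, 1],
   [2, 0, 0, 2, 1, 0, 2, 0, 0, 0, 1, 2, 0, 2],
   [2, 1, 1, 2, 2, 1, 1, 0, 1, 2, 1, 1, 0, 2],
   [0, 0, 0, 1, 0, 0, 1, 0, 1, 0, 1, 0, 0, 0],
   [0, 0, 0, 2, 0, 0, 0, 1, 1, 0, 0, 0, 1, 0],
   [0, 0, 0, 1, 0, 0, 0, 0, 0, 0, 0, 0, 0, 1],
   [0, 1, 2, 2, 2, 1, 0, 0, 1, 0, 1, 1, 0, 1],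
   [2, 0, 0, 0, 1, 0, 1, 0, 2, 0, 1, 2, 0, 2],
   [1, 2, 2, 2, 0, 2, 2, 0, 1, 1, 0, 2, 0, 1],
   [0, 2, 1, 1, 0, 0, 0, 2, 2, 0, 0, 0, 2, 2],
   [0, 0, 2, 2, 0, 0, 0, 0, 2, 0, 0, 0, 1, 2]]

/-- a partial product -/
def L6 : List (List ℤ) :=
  [[2, 0, 0, 1, 2, 1, 2, 1, 1, 1, 1, 0, 0, 1],
   [0, 0, 2, 0, 0, 0, 0, 1, 1, 0, 0, 0, 1, 0],
   [0, 1, 1, 0, 0, 0, 0, 0, 2, 0, 0, 0, 1, 2],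
   [0, 2, 2, 1, 0, 0, 0, 1, 2, 0, 0, 0, 1, 1],
   [2, 0, 1, 2, 1, 1, 2, 0, 0, 1, 1, 2, 2, 2],
   [2, 2, 2, 2, 2, 0, 1, 0, 1, 0, 1, 1, 2, 2],
   [0, 1, 2, 1, 0, 2, 1, 2, 1, 1, 1, 0, 0, 0],
   [0, 1, 1, 2, 0, 0, 0, 0, 1, 0, 0, 0, 1, 0],
   [0, 0, 2, 1, 0, 0, 0, 0, 0, 0, 0, 0, 1, 1],
   [0, 2, 0, 2, 2, 1, 0, 0, 1, 1, 1, 1, 1, 1],
   [2, 2, 0, 0, 1, 2, 1, 1, 2, 1, 1, 2, 2, 2],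
   [1, 0, 0, 2, 0, 0, 2, 1, 1, 1, 0, 2, 1, 1],
   [0, 1, 0, 1, 0, 0, 0, 2, 2, 0, 0, 0, 1, 2],
   [0, 2, 0, 2, 0, 0, 0, 1, 2, 0, 0, 0, 0, 2]]

/-- a partial product -/
def L7 : List (List ℤ) :=
  [[1, 1, 0, 1, 0, 1, 2, 0, 1, 1, 1, 0, 0, 1],
   [0, 0, 1, 0, 0, 0, 0, 1, 1, 0, 0, 0, 1, 0],
   [0, 1, 2, 0, 0, 0, 0, 2, 2, 0, 0, 0, 1, 2],
   [0, 2, 0, 1, 0, 0, 0, 2, 2, 0, 0, 0, 1, 1],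
   [1, 1, 1, 2, 2, 1, 2, 1, 0, 0, 1, 2, 2, 2],
   [1, 0, 1, 2, 1, 0, 1, 1, 1, 1, 1, 1, 2, 2],
   [2, 2, 2, 1, 2, 1, 1, 0, 1, 1, 1, 0, 0, 0],
   [0, 1, 0, 2, 0, 0, 0, 0, 1, 0, 0, 0, 1, 0],
   [0, 0, 2, 1, 0, 0, 0, 1, 0, 0, 0, 0, 1, 1],
   [2, 0, 1, 2, 2, 0, 0, 1, 1, 2, 1, 1, 1, 1],
   [1, 0, 0, 0, 0, 2, 1, 2, 2, 0, 1, 2, 2, 2],
   [1, 0, 1, 2, 1, 2, 2, 1, 1, 0, 0, 2, 1, 1],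
   [0, 1, 1, 1, 0, 0, 0, 1, 2, 0, 0, 0, 1, 2],
   [0, 2, 1, 2, 0, 0, 0, 0, 2, 0, 0, 0, 0, 2]]

/-- a partial product -/
def L8 : List (List ℤ) :=
  [[1, 1, 1, 1, 1, 0, 0, 0, 1, 1, 1, 0, 0, 1],
   [0, 0, 0, 0, 0, 0, 0, 1, 1, 0, 0, 0, 1, 0],
   [0, 1, 1, 2, 0, 0, 0, 2, 2, 0, 0, 0, 1, 2],
   [0, 2, 2, 2, 0, 0, 0, 2, 2, 0, 0, 0, 1, 1],
   [0, 1, 1, 0, 1, 1, 0, 1, 0, 0, 1, 2, 2, 2],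
   [2, 0, 1, 1, 1, 2, 2, 1, 1, 1, 1, 1, 2, 2],
   [2, 2, 0, 1, 1, 0, 2, 0, 1, 1, 1, 0, 0, 0],
   [0, 1, 2, 2, 0, 0, 0, 0, 1, 0, 0, 0, 1, 0],
   [0, 0, 1, 2, 0, 0, 0, 1, 0, 0, 0, 0, 1, 1],
   [0, 0, 1, 1, 0, 1, 1, 1, 1, 2, 1, 1, 1, 1],
   [0, 0, 2, 2, 2, 2, 2, 2, 2, 0, 1, 2, 2, 2],
   [0, 0, 1, 1, 0, 2, 2, 1, 1, 0, 0, 2, 1, 1],
   [0, 1, 0, 0, 0, 0, 0, 1, 2, 0, 0, 0, 1, 2],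
   [0, 2, 1, 1, 0, 0, 0, 0, 2, 0, 0, 0, 0, 2]]

/-- a partial product -/
def L9 : List (List ℤ) :=
  [[1, 1, 1, 0, 2, 0, 0, 0, 0, 1, 1, 0, 0, 1],
   [0, 1, 1, 2, 0, 0, 0, 1, 1, 0, 0, 0, 1, 0],
   [0, 2, 0, 2, 0, 0, 0, 2, 0, 0, 0, 0, 1, 2],
   [0, 0, 1, 0, 0, 0, 0, 2, 1, 0, 0, 0, 1, 1],
   [0, 0, 2, 2, 1, 1, 1, 1, 1, 0, 1, 2, 2, 2],
   [2, 2, 2, 1, 2, 2, 1, 1, 2, 1, 1, 1, 2, 2],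
   [2, 2, 0, 2, 2, 0, 2, 0, 1, 1, 1, 0, 0, 0],
   [0, 2, 2, 2, 0, 0, 0, 0, 1, 0, 0, 0, 1, 0],
   [0, 1, 2, 1, 0, 0, 0, 1, 2, 0, 0, 0, 1, 1],
   [0, 1, 2, 0, 2, 1, 0, 1, 0, 2, 1, 1, 1, 1],
   [0, 2, 1, 0, 2, 2, 0, 2, 0, 0, 1, 2, 2, 2],
   [0, 1, 2, 0, 0, 2, 0, 1, 0, 0, 0, 2, 1, 1],
   [0, 2, 1, 0, 0, 0, 0, 1, 0, 0, 0, 0, 1, 2],
   [0, 2, 1, 0, 0, 0, 0, 0, 0, 0, 0, 0, 0, 2]]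

/-- a partial product -/
def L10 : List (List ℤ) :=
  [[1, 0, 0, 0, 0, 0, 0, 0, 0, 1, 1, 0, 0, 1],
   [0, 1, 0, 0, 0, 0, 0, 0, 1, 0, 0, 0, 1, 0],
   [0, 0, 2, 2, 0, 0, 0, 1, 0, 0, 0, 0, 1, 2],
   [0, 2, 0, 1, 0, 0, 0, 1, 1, 0, 0, 0, 1, 1],
   [0, 1, 0, 0, 2, 2, 1, 2, 1, 0, 1, 2, 2, 2],
   [2, 0, 0, 0, 0, 1, 1, 2, 2, 1, 1, 1, 2, 2],
   [2, 2, 0, 0, 0, 0, 2, 0, 1, 1, 1, 0, 0, 0],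
   [0, 2, 0, 0, 0, 0, 0, 2, 1, 0, 0, 0, 1, 0],
   [0, 0, 0, 0, 0, 0, 0, 0, 2, 0, 0, 0, 1, 1],
   [0, 0, 0, 0, 0, 0, 0, 0, 0, 2, 1, 1, 1, 1],
   [0, 0, 0, 0, 0, 0, 0, 0, 0, 0, 1, 2, 2, 2],
   [0, 0, 0, 0, 0, 0, 0, 0, 0, 0, 0, 2, 1, 1],
   [0, 0, 0, 0, 0, 0, 0, 0, 0, 0, 0, 0, 1, 2],
   [0, 0, 0, 0, 0, 0, 0, 0, 0, 0, 0, 0, 0, 2]]

/-- a partial product -/
def L11 : List (List ℤ) :=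
  [[1, 0, 0, 0, 0, 0, 0, 0, 0, 0, 1, 1, 2, 1],
   [0, 1, 0, 0, 0, 0, 0, 0, 1, 0, 0, 0, 2, 0],
   [0, 0, 2, 2, 0, 0, 0, 2, 0, 0, 0, 0, 1, 2],
   [0, 2, 0, 1, 0, 0, 0, 0, 1, 0, 0, 0, 2, 1],
   [2, 0, 0, 0, 2, 0, 1, 0, 1, 2, 1, 0, 1, 2],
   [1, 2, 0, 0, 0, 1, 1, 0, 2, 1, 1, 2, 1, 2],
   [0, 0, 0, 0, 0, 0, 2, 0, 1, 0, 1, 1, 0, 0],
   [0, 2, 0, 0, 0, 0, 0, 2, 1, 0, 0, 0, 2, 0],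
   [0, 0, 0, 0, 0, 0, 0, 0, 2, 0, 0, 0, 0, 1],
   [0, 0, 0, 0, 0, 0, 0, 0, 0, 2, 1, 2, 1, 1],
   [0, 0, 0, 0, 0, 0, 0, 0, 0, 0, 1, 0, 0, 2],
   [0, 0, 0, 0, 0, 0, 0, 0, 0, 0, 0, 2, 0, 1],
   [0, 0, 0, 0, 0, 0, 0, 0, 0, 0, 0, 0, 1, 2],
   [0, 0, 0, 0, 0, 0, 0, 0, 0, 0, 0, 0, 0, 2]]

/-- a partial product -/
def L12 : List (List ℤ) :=
  [[1, 0, 0, 0, 0, 0, 0, 0, 0, 0, 1, 1, 2, 0],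
   [0, 1, 0, 0, 0, 0, 0, 0, 0, 0, 0, 0, 2, 2],
   [0, 1, 2, 0, 0, 0, 0, 2, 1, 0, 0, 0, 1, 0],
   [0, 2, 0, 1, 0, 0, 0, 0, 2, 0, 0, 0, 2, 0],
   [2, 0, 0, 0, 2, 0, 1, 0, 1, 2, 0, 0, 1, 0],
   [1, 2, 0, 0, 0, 1, 0, 0, 0, 1, 2, 2, 1, 0],
   [0, 0, 0, 0, 0, 0, 2, 0, 1, 0, 1, 1, 0, 0],
   [0, 0, 0, 0, 0, 0, 0, 2, 0, 0, 0, 0, 2, 2],
   [0, 0, 0, 0, 0, 0, 0, 0, 2, 0, 0, 0, 0, 1],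
   [0, 0, 0, 0, 0, 0, 0, 0, 0, 2, 0, 2, 1, 2],
   [0, 0, 0, 0, 0, 0, 0, 0, 0, 0, 1, 0, 0, 2],
   [0, 0, 0, 0, 0, 0, 0, 0, 0, 0, 0, 2, 0, 1],
   [0, 0, 0, 0, 0, 0, 0, 0, 0, 0, 0, 0, 1, 0],
   [0, 0, 0, 0, 0, 0, 0, 0, 0, 0, 0, 0, 0, 2]]

/-- a partial product -/
def L13 : List (List ℤ) :=
  [[1, 0, 0, 0, 0, 0, 0, 0, 0, 0, 0, 1, 2, 1],
   [0, 1, 0, 0, 0, 0, 0, 0, 0, 0, 0, 0, 2, 2],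
   [0, 1, 2, 0, 0, 0, 0, 2, 0, 0, 0, 0, 1, 1],
   [0, 2, 0, 1, 0, 0, 0, 0, 2, 0, 0, 0, 2, 0],
   [2, 0, 0, 0, 2, 0, 0, 0, 0, 2, 1, 1, 1, 2],
   [0, 0, 0, 0, 0, 1, 0, 0, 0, 1, 0, 1, 1, 0],
   [0, 0, 0, 0, 0, 0, 2, 0, 0, 0, 1, 1, 0, 1],
   [0, 0, 0, 0, 0, 0, 0, 2, 0, 0, 0, 0, 2, 0],
   [0, 0, 0, 0, 0, 0, 0, 0, 2, 0, 0, 0, 0, 1],
   [0, 0, 0, 0, 0, 0, 0, 0, 0, 2, 0, 0, 1, 0],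
   [0, 0, 0, 0, 0, 0, 0, 0, 0, 0, 1, 0, 0, 2],
   [0, 0, 0, 0, 0, 0, 0, 0, 0, 0, 0, 2, 0, 0],
   [0, 0, 0, 0, 0, 0, 0, 0, 0, 0, 0, 0, 1, 0],
   [0, 0, 0, 0, 0, 0, 0, 0, 0, 0, 0, 0, 0, 2]]

/-- a partial product -/
def L14 : List (List ℤ) :=
  [[1, 0, 0, 0, 0, 0, 0, 0, 0, 0, 0, 0, 2, 1],
   [0, 1, 0, 0, 0, 0, 0, 0, 0, 0, 0, 0, 2, 2],
   [0, 1, 2, 0, 0, 0, 0, 2, 0, 0, 0, 0, 2, 1],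
   [0, 2, 0, 1, 0, 0, 0, 0, 2, 0, 0, 0, 2, 1],
   [0, 0, 0, 0, 2, 0, 0, 0, 0, 2, 1, 0, 0, 0],
   [0, 0, 0, 0, 0, 1, 0, 0, 0, 0, 0, 1, 0, 0],
   [0, 0, 0, 0, 0, 0, 2, 0, 0, 0, 0, 1, 0, 0],
   [0, 0, 0, 0, 0, 0, 0, 2, 0, 0, 0, 0, 2, 0],
   [0, 0, 0, 0, 0, 0, 0, 0, 2, 0, 0, 0, 0, 1],
   [0, 0, 0, 0, 0, 0, 0, 0, 0, 2, 0, 0, 0, 0],
   [0, 0, 0, 0, 0, 0, 0, 0, 0, 0, 1, 0, 0, 0],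
   [0, 0, 0, 0, 0, 0, 0, 0, 0, 0, 0, 2, 0, 0],
   [0, 0, 0, 0, 0, 0, 0, 0, 0, 0, 0, 0, 1, 0],
   [0, 0, 0, 0, 0, 0, 0, 0, 0, 0, 0, 0, 0, 2]]

/-- a partial product -/
def L15 : List (List ℤ) :=
  [[1, 0, 0, 0, 0, 0, 0, 0, 0, 0, 0, 0, 0, 1],
   [0, 1, 0, 0, 0, 0, 0, 0, 0, 0, 0, 0, 0, 2],
   [0, 1, 2, 0, 0, 0, 0, 0, 0, 0, 0, 0, 0, 1],
   [0, 0, 0, 1, 0, 0, 0, 0, 2, 0, 0, 0, 0, 0],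
   [0, 0, 0, 0, 2, 0, 0, 0, 0, 0, 1, 0, 0, 0],
   [0, 0, 0, 0, 0, 1, 0, 0, 0, 0, 0, 1, 0, 0],
   [0, 0, 0, 0, 0, 0, 2, 0, 0, 0, 0, 0, 0, 0],
   [0, 0, 0, 0, 0, 0, 0, 2, 0, 0, 0, 0, 2, 0],
   [0, 0, 0, 0, 0, 0, 0, 0, 2, 0, 0, 0, 0, 0],
   [0, 0, 0, 0, 0, 0, 0, 0, 0, 2, 0, 0, 0, 0],
   [0, 0, 0, 0, 0, 0, 0, 0, 0, 0, 1, 0, 0, 0],
   [0, 0, 0, 0, 0, 0, 0, 0, 0, 0, 0, 2, 0, 0],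
   [0, 0, 0, 0, 0, 0, 0, 0, 0, 0, 0, 0, 1, 0],
   [0, 0, 0, 0, 0, 0, 0, 0, 0, 0, 0, 0, 0, 2]]

/-- a partial product -/
def L16 : List (List ℤ) :=
  [[1, 0, 0, 0, 0, 0, 0, 0, 0, 0, 0, 0, 0, 0],
   [0, 1, 0, 0, 0, 0, 0, 0, 0, 0, 0, 0, 0, 0],
   [0, 0, 2, 0, 0, 0, 0, 0, 0, 0, 0, 0, 0, 0],
   [0, 0, 0, 1, 0, 0, 0, 0, 0, 0, 0, 0, 0, 0],
   [0, 0, 0, 0, 2, 0, 0, 0, 0, 0, 0, 0, 0, 0],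
   [0, 0, 0, 0, 0, 1, 0, 0, 0, 0, 0, 0, 0, 0],
   [0, 0, 0, 0, 0, 0, 2, 0, 0, 0, 0, 0, 0, 0],
   [0, 0, 0, 0, 0, 0, 0, 2, 0, 0, 0, 0, 0, 0],
   [0, 0, 0, 0, 0, 0, 0, 0, 2, 0, 0, 0, 0, 0],
   [0, 0, 0, 0, 0, 0, 0, 0, 0, 2, 0, 0, 0, 0],
   [0, 0, 0, 0, 0, 0, 0, 0, 0, 0, 1, 0, 0, 0],
   [0, 0, 0, 0, 0, 0, 0, 0, 0, 0, 0, 2, 0, 0],
   [0, 0, 0, 0, 0, 0, 0, 0, 0, 0, 0, 0, 1, 0],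
   [0, 0, 0, 0, 0, 0, 0, 0, 0, 0, 0, 0, 0, 2]]

theorem step0 : Step L0 9 (1) L1 := by decide +kernel

theorem step1 : Step L1 11 (1) L2 := by decide +kernel

theorem step2 : Step L2 2 (-1) L3 := by decide +kernel

theorem step3 : Step L3 0 (-1) L4 := by decide +kernel

theorem step4 : Step L4 7 (1) L5 := by decide +kernel

theorem step5 : Step L5 6 (1) L6 := by decide +kernel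

theorem step6 : Step L6 8 (-1) L7 := by decide +kernel

theorem step7 : Step L7 9 (-1) L8 := by decide +kernel

theorem step8 : Step L8 10 (1) L9 := by decide +kernel

theorem step9 : Step L9 11 (1) L10 := by decide +kernel

theorem step10 : Step L10 4 (1) L11 := by decide +kernel

theorem step11 : Step L11 5 (1) L12 := by decide +kernel

theorem step12 : Step L12 3 (1) L13 := by decide +kernel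

theorem step13 : Step L13 2 (-1) L14 := by decide +kernel

theorem step14 : Step L14 1 (-1) L15 := by decide +kernel

theorem step15 : Step L15 0 (1) L16 := by decide +kernel

/-- the listed matrix represents a matrix over the field -/
def Rep {K : Type*} [Field K] (L : List (List ℤ)) (M : Matrix chevG2.Idx chevG2.Idx K) : Prop :=
  ∀ i j, ((ent L i j : ℤ) : K) = M i j

variable {K : Type*} [Field K] [CharP K 3]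

theorem cast_of_mod {a b : ℤ} (h : a % 3 = b % 3) : (a : K) = (b : K) := by
  rw [CharP.intCast_eq_intCast K 3]
  exact h

omit [CharP K 3] in
theorem rep_zero : Rep L0 (1 : Matrix chevG2.Idx chevG2.Idx K) := by
  have h : ∀ i j : chevG2.Idx, ent L0 i j = if i = j then 1 else 0 := by decide +kernel
  intro i j
  rw [h, Matrix.one_apply]
  split_ifs <;> simp

theorem rep_step {L L' : List (List ℤ)} {r : ℕ} {t : ℤ} (hs : Step L r t L') (hr : r < chevG2.nroots)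
    {M : Matrix chevG2.Idx chevG2.Idx K} (h : Rep L M) :
    Rep L' (M * (goodG2.xu (⟨r, hr⟩ : Fin chevG2.nroots) (t : K) : Matrix chevG2.Idx chevG2.Idx K)) := by
  intro i k
  rw [← cast_of_mod (K := K) (hs hr i k), Matrix.mul_apply, Int.cast_sum]
  refine Finset.sum_congr rfl fun j _ => ?_
  rw [Int.cast_mul, h i j, Good.coe_xu]
  congr 1
  have := congrFun (congrFun (xg_map (D := chevG2) (Int.castRingHom K) (⟨r, hr⟩ : Fin chevG2.nroots) t) j) k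
  simpa [Matrix.map_apply] using this

/-- the sixteen factors -/
def facs : List (Fin chevG2.nroots × ℤ) :=
  [(⟨9, by decide +kernel⟩, (1 : ℤ)), (⟨11, by decide +kernel⟩, (1 : ℤ)), (⟨2, by decide +kernel⟩, (-1 : ℤ)), (⟨0, by decide +kernel⟩, (-1 : ℤ)), (⟨7, by decide +kernel⟩, (1 : ℤ)), (⟨6, by decide +kernel⟩, (1 : ℤ)), (⟨8, by decide +kernel⟩, (-1 : ℤ)), (⟨9, by decide +kernel⟩, (-1 : ℤ)), (⟨10, by decide +kernel⟩, (1 : ℤ)), (⟨11, by decide +kernel⟩, (1 : ℤ)), (⟨4, by decide +kernel⟩, (1 : ℤ)), (⟨5, by decide +kernel⟩, (1 : ℤ)), (⟨3, by decide +kernel⟩, (1 : ℤ)), (⟨2, by decide +kernel⟩, (-1 : ℤ)), (⟨1, by decide +kernel⟩, (-1 : ℤ)), (⟨0, by decide +kernel⟩, (1 : ℤ))]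

theorem rep_facs :
    Rep L16 ((facs.map fun p => goodG2.xu p.1 (p.2 : K)).prod : GL chevG2.Idx K).1 := by
  have h0 : Rep L0 ((1 : GL chevG2.Idx K)).1 := rep_zero
  have h1 := rep_step step0 (by decide +kernel) h0
  have h2 := rep_step step1 (by decide +kernel) h1
  have h3 := rep_step step2 (by decide +kernel) h2
  have h4 := rep_step step3 (by decide +kernel) h3
  have h5 := rep_step step4 (by decide +kernel) h4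
  have h6 := rep_step step5 (by decide +kernel) h5
  have h7 := rep_step step6 (by decide +kernel) h6
  have h8 := rep_step step7 (by decide +kernel) h7
  have h9 := rep_step step8 (by decide +kernel) h8
  have h10 := rep_step step9 (by decide +kernel) h9
  have h11 := rep_step step10 (by decide +kernel) h10
  have h12 := rep_step step11 (by decide +kernel) h11
  have h13 := rep_step step12 (by decide +kernel) h12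
  have h14 := rep_step step13 (by decide +kernel) h13
  have h15 := rep_step step14 (by decide +kernel) h14
  have h16 := rep_step step15 (by decide +kernel) h15
  simpa only [facs, List.map_cons, List.map_nil, List.prod_cons, List.prod_nil, mul_one, Units.val_mul,
    Units.val_one, one_mul, mul_assoc] using h16

/-- the product is diagonal -/
theorem facs_eq (i j : chevG2.Idx) :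
    ((facs.map fun p => goodG2.xu p.1 (p.2 : K)).prod : GL chevG2.Idx K).1 i j =
      if i = j then Sum.elim (fun _ => (1 : K))
        (fun s => if (cart chevG2 ⟨0, by decide +kernel⟩ s + cart chevG2 ⟨1, by decide +kernel⟩ s) % 2 = 0
          then 1 else -1) i else 0 := by
  have h : ∀ i j : chevG2.Idx, ent L16 i j % 3 = (if i = j then Sum.elim (fun _ => (1 : ℤ))
      (fun s => if (cart chevG2 ⟨0, by decide +kernel⟩ s + cart chevG2 ⟨1, by decide +kernel⟩ s) % 2 = 0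
        then 1 else -1) i else 0) % 3 := by decide +kernel
  rw [← rep_facs i j, cast_of_mod (K := K) (h i j)]
  rcases i with i | i <;> simp only [Sum.elim_inl, Sum.elim_inr] <;> split_ifs <;> simp

end TG2

end CfsgLib.Lie.Chev
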