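import Cfsg.Agent.Lib.Lie.Chev.Tw.Cert
import Cfsg.Agent.Lib.Lie.Chev.GoodG2

/-!
The orbits of `graphG2` and the centraliser of the root permutation in the Weyl group of type G2.
-/

set_option autoImplicit false
set_option maxRecDepth 100000

namespace CfsgLib.Lie.Chev

open Cfsg.Lie

/-- the orbits -/
noncomputable def orbGraphG2 : OrbData where
  no := 1
  P := 0x90008000b000a00060007000400050001000000030002
  orb := (.leaf [0, 1])
  word := (.leaf [0, 1, 0, 1, 0, 1])
  tab := (.leaf 0x100020003000400050006000700080009000a000b)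
  oidx := (.node 1 (.leaf 0) (.leaf 0))

/-- the enumeration -/
noncomputable def enumGraphG2 : EnumData where
  m := 2
  P := (.node 1 (.leaf 0xb000a0009000800070006000500040003000200010000) (.leaf 0x100020003000400050006000700080009000a000b))
  par := (.node 1 (.leaf (0, 0)) (.leaf (0, 0)))
  ch := (.node 1 (.leaf [1]) (.leaf [0]))
  ord := (.node 1 (.leaf 0) (.leaf 1))
  rk := (.node 1 (.leaf 0) (.leaf 1))
  len := (.node 1 (.leaf 0) (.leaf 6))

theorem chkOrb_graphG2 : chkOrb chevG2 fastG2 orbGraphG2 = true := by decide +kernel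

theorem chkEnum_graphG2 : chkEnum chevG2 orbGraphG2 enumGraphG2 = true := by decide +kernel

/-- the lengths, counted -/
theorem lens_graphG2 : ((List.range enumGraphG2.m).map fun k => enumGraphG2.len.get k).Perm
    (List.replicate 1 0 ++ List.replicate 1 6) := by decide +kernel

end CfsgLib.Lie.Chev
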