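import Cfsg.Agent.Lib.Lie.Chev.Tw.Tools3
import Cfsg.Agent.Lib.Lie.Chev.Tw.DataG2
import Cfsg.Agent.Lib.Lie.Chev.Tw.OrbGraphG2
import Cfsg.Agent.Lib.Lie.Chev.Tw.G2Word
import Cfsg.Agent.Lib.Lie.Chev.CommG2
import Cfsg.Prelude.Def_LieTwisted

/-!
# The groups of type ²G₂

The field automorphism `θ` satisfies `θ⁻¹ x = (θ x)³`.
-/

set_option autoImplicit false
set_option maxRecDepth 100000

namespace CfsgLib.Lie.Chev

open Cfsg.Lie
open scoped MatrixGroups

namespace TG2

/-- the verified datum -/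
noncomputable def C : Full chevG2 := ⟨goodG2, fastG2, rowsOK chkRows_G2, chkComm_G2⟩

theorem emb : Emb C.G fastG2 graphG2 := emb_graphG2

/-- the permutation of the nodes -/
def node : Tree ℕ := .node 1 (.leaf 1) (.leaf 0)

theorem chk : chkTwist chevG2 fastG2 graphG2 node = true := by decide +kernel

theorem lam_cases : ∀ r : Fin chevG2.nroots, graphG2.lam.get r.val = 1 ∨ graphG2.lam.get r.val = 3 := by
  decide +kernel

/-- a root index -/
def rt (i : ℕ) (h : i < chevG2.nroots := by decide +kernel) : Fin chevG2.nroots := ⟨i, h⟩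

/-- a node index -/
def nd (i : ℕ) (h : i < chevG2.rank := by decide +kernel) : Fin chevG2.rank := ⟨i, h⟩

variable {K : Type*} [Field K] [CharP K 3]

theorem inj : Function.Injective (emb.rtgt (K := K) (hm := CharP.cast_eq_zero K 3)) := by
  have h2 : (2 : K) ≠ 0 := fun h => by
    have := (CharP.cast_eq_zero_iff K 3 2).1 (by exact_mod_cast h)
    omega
  have hK : ∃ a : K, a ≠ 0 ∧ a ≠ 1 :=
    ⟨-1, neg_ne_zero.2 one_ne_zero, fun h => h2 (by linear_combination -h)⟩
  haveI := (C.isSimpleGroup (K := K) connectedG2 (C.G.commutator_eq_top (inDerG2 C hK)) (rt 0)).1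
  haveI : CharP K graphG2.m := ‹CharP K 3›
  exact emb.rtgt_injective_of_witness (rt 0) (Sum.inr (rt 1)) (Sum.inr (rt 6)) (by decide +kernel)

variable (θ : K ≃+* K) (hcu : ∀ x, θ.symm x = θ x ^ 3)

/-- the twist for a field automorphism -/
noncomputable def twist : Twist C.G K :=
  emb.mkTwist chk (CharP.cast_eq_zero K 3) inj θ
    (fun r => if graphG2.lam.get r.val = 3 then θ.symm else θ) fun r x => by
    rcases lam_cases r with h | h
    · rw [if_neg (by rw [h]; decide), h, pow_one]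
    · rw [if_pos h, h, hcu]

/-- the orbits -/
noncomputable def orbits : Orbits C.G (twist θ hcu).p (Fin orbGraphG2.no) :=
  orbGraphG2.orbits checksG2 chkOrb_graphG2 _ fun r => by
    show graphG2.p.get r.val = _
    revert r; decide +kernel

theorem p_eq {r s : Fin chevG2.nroots} (h : graphG2.p.get r.val = s.val) :
    (twist θ hcu).p r = s :=
  Fin.ext h

theorem eps_one {r : Fin chevG2.nroots} (h : graphG2.eps.get r.val = false) :
    (twist θ hcu).eps r = 1 := by
  show (sgnB (graphG2.eps.get r.val) : K) = 1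
  rw [h]; simp [sgnB]

theorem σ_short {r : Fin chevG2.nroots} (h : graphG2.lam.get r.val = 3) (x : K) :
    (twist θ hcu).σ r x = θ.symm x := by
  show (if graphG2.lam.get r.val = 3 then θ.symm else θ) x = _
  rw [if_pos h]

theorem σ_long {r : Fin chevG2.nroots} (h : graphG2.lam.get r.val = 1) (x : K) :
    (twist θ hcu).σ r x = θ x := by
  show (if graphG2.lam.get r.val = 3 then θ.symm else θ) x = _
  rw [if_neg (by rw [h]; decide)]

theorem node_eq : ∀ j : Fin chevG2.rank, ((twist θ hcu).node j).val = node.get j.val := fun _ => rfl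

theorem simp_rt : C.G.simp' (nd 0) = rt 7 ∧ C.G.simp' (nd 1) = rt 6 := by
  refine ⟨?_, ?_⟩ <;> refine Fin.ext ((C.G.simp_val _).trans ?_) <;> decide +kernel

theorem negr_rt : C.G.negr (rt 7) = rt 4 ∧ C.G.negr (rt 6) = rt 5 ∧ C.G.negr (rt 8) = rt 3 ∧
    C.G.negr (rt 9) = rt 2 ∧ C.G.negr (rt 10) = rt 1 ∧ C.G.negr (rt 11) = rt 0 := by
  refine ⟨?_, ?_, ?_, ?_, ?_, ?_⟩ <;> refine Fin.ext ((C.G.negr_val _).trans ?_) <;> decide +kernel

/-- the two root subgroups commute in characteristic three -/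
def C3 (a b : Fin chevG2.nroots) : Prop :=
  b.val ≠ a.val ∧ b.val ≠ chevG2.neg a.val ∧ ∀ z ∈ chevG2.commTerms a.val b.val, z.2.1 % 3 = 0

noncomputable instance (a b : Fin chevG2.nroots) : Decidable (C3 a b) := by unfold C3; infer_instance

theorem comm_of {a b : Fin chevG2.nroots} (h : C3 a b) (t u : K) :
    Commute (C.G.xu a t) (C.G.xu b u) := by
  have hc := C.commAt a b (fun e => h.1 (congrArg Fin.val e))
    (fun e => h.2.1 ((congrArg Fin.val e).trans (C.G.negr_val a))) t u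
  have h0 : ∀ l : List (ℕ × K), (∀ p ∈ l, p.2 = 0) → wordR K chevG2 l = 1 := by
    intro l hl
    induction l with
    | nil => rfl
    | cons p l ih =>
      rw [wordR_cons, ih fun q hq => hl q (List.mem_cons_of_mem _ hq), mul_one, xN]
      split_ifs
      · rw [hl p List.mem_cons_self, xg_zero]
      · rfl
  unfold CommAt at hc
  rw [h0 _ fun p hp => ?_, mul_one] at hc
  · exact Units.ext hc.symm
  · obtain ⟨z, hz, rfl⟩ := List.mem_map.1 hp
    rw [show ((z.2.1 : ℤ) : K) = 0 from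
      (CharP.intCast_eq_zero_iff K 3 _).2 (Int.dvd_of_emod_eq_zero (h.2.2 z hz)), zero_mul, zero_mul]

/-- the data of an orbit of six roots -/
def Dat (a b c d x y : Fin chevG2.nroots) (z : ℤ) : Prop :=
  (graphG2.p.get a.val = b.val ∧ graphG2.p.get b.val = a.val ∧ graphG2.p.get c.val = x.val ∧
    graphG2.p.get x.val = c.val ∧ graphG2.p.get d.val = y.val ∧ graphG2.p.get y.val = d.val) ∧
  (graphG2.lam.get a.val = 3 ∧ graphG2.lam.get b.val = 1 ∧ graphG2.lam.get c.val = 3 ∧
    graphG2.lam.get x.val = 1 ∧ graphG2.lam.get d.val = 3 ∧ graphG2.lam.get y.val = 1) ∧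
  (graphG2.eps.get a.val = false ∧ graphG2.eps.get b.val = false ∧ graphG2.eps.get c.val = false ∧
    graphG2.eps.get x.val = false ∧ graphG2.eps.get d.val = false ∧ graphG2.eps.get y.val = false) ∧
  (a.val ≠ b.val ∧ a.val ≠ chevG2.neg b.val ∧
    (chevG2.commTerms b.val a.val).map (fun w => (w.1, w.2.1 % 3, w.2.2)) =
      [(c.val, z % 3, 1, 1), (d.val, (1 : ℤ), 1, 2), (x.val, (-z) % 3, 1, 3), (y.val, 1, 2, 3)]) ∧
  (C3 c d ∧ C3 c x ∧ C3 c y ∧ C3 d x ∧ C3 d y ∧ C3 x y)

noncomputable instance (a b c d x y : Fin chevG2.nroots) (z : ℤ) : Decidable (Dat a b c d x y z) :=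
  inferInstanceAs (Decidable (_ ∧ _))

/-- the product over the four roots of height above one -/
noncomputable def tail (c d x y : Fin chevG2.nroots) (e f g h : K) : GL chevG2.Idx K :=
  C.G.xu c e * C.G.xu d f * C.G.xu x g * C.G.xu y h

/-- the element of an orbit of six roots -/
noncomputable def ree (a b c d x y : Fin chevG2.nroots) (ε t u v : K) : GL chevG2.Idx K :=
  C.G.xu a (ε * θ t) * C.G.xu b (ε * t) *
    tail c d x y (ε * (θ t * t + θ u)) (ε * (θ t * θ t * t + θ v)) (ε * u) (ε * v)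

section

variable {a b c d x y : Fin chevG2.nroots} {z : ℤ} (hd : Dat a b c d x y z)

include hd

theorem tail_mul (e f g h e' f' g' h' : K) :
    tail c d x y e f g h * tail c d x y e' f' g' h' =
      tail c d x y (e + e') (f + f') (g + g') (h + h') := by
  obtain ⟨-, -, -, -, cd, cx, cy, dx, dy, xy⟩ := hd
  have h1 : Commute (C.G.xu d f * C.G.xu x g * C.G.xu y h) (C.G.xu c e') :=
    ((Commute.mul_left (comm_of cd e' f).symm (comm_of cx e' g).symm).mul_left (comm_of cy e' h).symm)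
  have h2 : Commute (C.G.xu x g * C.G.xu y h) (C.G.xu d f') :=
    Commute.mul_left (comm_of dx f' g).symm (comm_of dy f' h).symm
  have h3 : Commute (C.G.xu y h) (C.G.xu x g') := (comm_of xy g' h).symm
  simp only [tail, C.G.xu_add]
  calc C.G.xu c e * C.G.xu d f * C.G.xu x g * C.G.xu y h *
        (C.G.xu c e' * C.G.xu d f' * C.G.xu x g' * C.G.xu y h')
      = C.G.xu c e * ((C.G.xu d f * C.G.xu x g * C.G.xu y h) * C.G.xu c e') *
          C.G.xu d f' * C.G.xu x g' * C.G.xu y h' := by simp only [mul_assoc]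
    _ = C.G.xu c e * C.G.xu c e' * C.G.xu d f * ((C.G.xu x g * C.G.xu y h) * C.G.xu d f') *
          C.G.xu x g' * C.G.xu y h' := by rw [h1.eq]; simp only [mul_assoc]
    _ = C.G.xu c e * C.G.xu c e' * C.G.xu d f * C.G.xu d f' * C.G.xu x g *
          (C.G.xu y h * C.G.xu x g') * C.G.xu y h' := by rw [h2.eq]; simp only [mul_assoc]
    _ = _ := by rw [h3.eq]; simp only [mul_assoc]

theorem tail_swap (e f g h : K) :
    C.G.xu x g * C.G.xu y h * (C.G.xu c e * C.G.xu d f) = tail c d x y e f g h := by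
  obtain ⟨-, -, -, -, cd, cx, cy, dx, dy, xy⟩ := hd
  rw [tail, mul_assoc (C.G.xu c e * C.G.xu d f)]
  exact (Commute.mul_left (Commute.mul_right (comm_of cx e g).symm (comm_of dx f g).symm)
    (Commute.mul_right (comm_of cy e h).symm (comm_of dy f h).symm)).eq

/-- the commutator relation in an orbit of six roots -/
theorem six_comm {ε : K} (hε : ε = (z : K)) (h1 : ε * ε = 1) (A B : K) :
    C.G.xu a (ε * A) * C.G.xu b (ε * B) = C.G.xu b (ε * B) * C.G.xu a (ε * A) *
      tail c d x y (ε * -(A * B)) (ε * -(A * A * B)) (ε * (A ^ 3 * B)) (ε * (A ^ 3 * B * B)) := by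
  obtain ⟨g1, g2, g3⟩ := hd.2.2.2.1
  have hc := C.commAt b a (fun e => g1 (congrArg Fin.val e))
    (fun e => g2 ((congrArg Fin.val e).trans (C.G.negr_val b))) (ε * B) (ε * A)
  have hw : cwR chevG2 b.val a.val (ε * B) (ε * A) = [(c.val, ε * -(A * B)),
      (d.val, ε * -(A * A * B)), (x.val, ε * (A ^ 3 * B)), (y.val, ε * (A ^ 3 * B * B))] := by
    have hz : ∀ z : ℤ, (z : K) = ((z % 3 : ℤ) : K) := fun z => cast_of_mod (Int.emod_emod _ _).symm
    have e : cwR chevG2 b.val a.val (ε * B) (ε * A) =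
        ((chevG2.commTerms b.val a.val).map (fun w => (w.1, w.2.1 % 3, w.2.2))).map
          (fun w : ℕ × ℤ × ℕ × ℕ => (w.1, ((w.2.1 : ℤ) : K) * (-(ε * B)) ^ w.2.2.1 * (ε * A) ^ w.2.2.2)) := by
      rw [cwR, List.map_map]
      refine List.map_congr_left fun w _ => ?_
      show (w.1, (w.2.1 : K) * (-(ε * B)) ^ w.2.2.1 * (ε * A) ^ w.2.2.2) =
        (w.1, ((w.2.1 % 3 : ℤ) : K) * (-(ε * B)) ^ w.2.2.1 * (ε * A) ^ w.2.2.2)
      rw [hz w.2.1]
    rw [e, g3]
    simp only [List.map_cons, List.map_nil, ← hz, Int.cast_neg, ← hε, Int.cast_one]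
    refine List.cons_eq_cons.2 ⟨Prod.ext rfl ?_, List.cons_eq_cons.2 ⟨Prod.ext rfl ?_,
      List.cons_eq_cons.2 ⟨Prod.ext rfl ?_, List.cons_eq_cons.2 ⟨Prod.ext rfl ?_, rfl⟩⟩⟩⟩ <;>
      dsimp only
    · linear_combination -(ε * A * B) * h1
    · linear_combination -(ε * A * A * B) * h1
    · linear_combination (ε * A ^ 3 * B) * (ε * ε + 1) * h1
    · linear_combination (ε * A ^ 3 * B * B) * (ε * ε + 1) * h1
  unfold CommAt at hc
  rw [hw] at hc
  simp only [wordR_cons, wordR_nil, mul_one, xN, dif_pos c.isLt, dif_pos d.isLt, dif_pos x.isLt,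
    dif_pos y.isLt, ← mul_assoc] at hc
  simp only [tail, ← mul_assoc]
  exact Units.ext hc

variable {ε : K} (hε : ε = (z : K)) (h1 : ε * ε = 1)

include hcu hε h1

/-- the sorted form -/
theorem ree_sorted (t u v : K) :
    ree θ a b c d x y ε t u v = C.G.xu b (ε * t) * C.G.xu a (ε * θ t) *
      tail c d x y (ε * θ u) (ε * θ v) (ε * (u + θ.symm t * t)) (ε * (v + θ.symm t * t * t)) := by
  rw [ree, six_comm hd hε h1, mul_assoc, tail_mul hd, ← hcu]
  congr 2 <;> ring

theorem ree_fix (t u v : K) : ree θ a b c d x y ε t u v ∈ (twist θ hcu).Fix := by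
  have hs := ree_sorted θ hcu hd hε h1 t u v
  have hfix : ∀ e : K ≃+* K, e ε = ε := fun e => by rw [hε, map_intCast]
  obtain ⟨⟨p1, p2, p3, p4, p5, p6⟩, ⟨l1, l2, l3, l4, l5, l6⟩, ⟨e1, e2, e3, e4, e5, e6⟩, -, -⟩ := id hd
  have h := (twist θ hcu).mem_Fix_list [(a, ε * θ t), (b, ε * t), (c, ε * (θ t * t + θ u)),
    (d, ε * (θ t * θ t * t + θ v)), (x, ε * u), (y, ε * v)] (by
    simp only [List.map_cons, List.map_nil, List.prod_cons, List.prod_nil, mul_one,
      p_eq θ hcu p1, p_eq θ hcu p2, p_eq θ hcu p3, p_eq θ hcu p4, p_eq θ hcu p5, p_eq θ hcu p6,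
      eps_one θ hcu e1, eps_one θ hcu e2, eps_one θ hcu e3, eps_one θ hcu e4, eps_one θ hcu e5,
      eps_one θ hcu e6, σ_short θ hcu l1, σ_short θ hcu l3, σ_short θ hcu l5,
      σ_long θ hcu l2, σ_long θ hcu l4, σ_long θ hcu l6, one_mul, map_add, map_mul,
      RingEquiv.symm_apply_apply, hfix]
    refine Eq.trans ?_ (Eq.trans hs.symm (by simp only [ree, tail, mul_assoc]))
    rw [← tail_swap hd]
    simp only [mul_assoc]
    congr 4 <;> ring)
  simpa [ree, tail, mul_assoc] using h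

end

theorem dat : Dat (rt 7) (rt 6) (rt 8) (rt 9) (rt 10) (rt 11) 1 ∧
    Dat (rt 4) (rt 5) (rt 3) (rt 2) (rt 1) (rt 0) (-1) := by
  decide +kernel

/-- the elements of the positive orbit group -/
noncomputable def reeP (t u v : K) : GL chevG2.Idx K :=
  ree θ (rt 7) (rt 6) (rt 8) (rt 9) (rt 10) (rt 11) 1 t u v

/-- the elements of the negative orbit group -/
noncomputable def reeN (t u v : K) : GL chevG2.Idx K :=
  ree θ (rt 4) (rt 5) (rt 3) (rt 2) (rt 1) (rt 0) (-1) t u v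

section

variable {e : ℕ} (hθ : ∀ x, θ x = x ^ e)

include hθ

omit [CharP K 3] in
theorem wordU_eq (t u v : K) :
    reeWordU e t u v = [((rt 7).val, θ t), ((rt 6).val, t), ((rt 8).val, θ t * t + θ u),
      ((rt 9).val, θ t * θ t * t + θ v), ((rt 10).val, u), ((rt 11).val, v)] := by
  simp [reeWordU, rt, g2a, g2b, g2ab, g2aab, g2aaab, g2aaabb, hθ, pow_succ, pow_mul, two_mul, pow_add]

omit [CharP K 3] in
theorem wordV_eq (t u v : K) :
    reeWordV e t u v = [((rt 4).val, -θ t), ((rt 5).val, -t), ((rt 3).val, -(θ t * t + θ u)),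
      ((rt 2).val, -(θ t * θ t * t + θ v)), ((rt 1).val, -u), ((rt 0).val, -v)] := by
  have hn : [chevG2.negIdx.getD 7 0, chevG2.negIdx.getD 6 0, chevG2.negIdx.getD 8 0,
      chevG2.negIdx.getD 9 0, chevG2.negIdx.getD 10 0, chevG2.negIdx.getD 11 0] = [4, 5, 3, 2, 1, 0] := by
    decide +kernel
  simp only [List.cons.injEq, and_true] at hn
  obtain ⟨n1, n2, n3, n4, n5, n6⟩ := hn
  simp only [reeWordV, ChevalleyDatum.negWord, wordU_eq θ hθ, rt, List.map_cons, List.map_nil,
    n1, n2, n3, n4, n5, n6]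

theorem reeP_mem (t u v : K) : reeP θ t u v ∈ twistedG2 K e := by
  have h := C.G.mem_gen (S := g2Words K e) [(rt 7, θ t), (rt 6, t), (rt 8, θ t * t + θ u),
    (rt 9, θ t * θ t * t + θ v), (rt 10, u), (rt 11, v)]
    ⟨t, u, v, Or.inl (by simp [wordU_eq θ hθ])⟩
  simpa [twistedG2, reeP, ree, tail, mul_assoc] using h

theorem reeN_mem (t u v : K) : reeN θ t u v ∈ twistedG2 K e := by
  have h := C.G.mem_gen (S := g2Words K e) [(rt 4, -θ t), (rt 5, -t), (rt 3, -(θ t * t + θ u)),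
    (rt 2, -(θ t * θ t * t + θ v)), (rt 1, -u), (rt 0, -v)]
    ⟨t, u, v, Or.inr (by simp [wordV_eq θ hθ])⟩
  simpa [twistedG2, reeN, ree, tail, mul_assoc] using h

include hcu

theorem le_Fix : twistedG2 K e ≤ (twist θ hcu).Fix := by
  refine C.G.gen_le fun w hw => ?_
  obtain ⟨t, u, v, hw⟩ := hw
  rcases hw with rfl | rfl
  · refine ⟨[(rt 7, θ t), (rt 6, t), (rt 8, θ t * t + θ u), (rt 9, θ t * θ t * t + θ v), (rt 10, u),
      (rt 11, v)], by simp [wordU_eq θ hθ], ?_⟩
    simpa [ree, tail, mul_assoc] using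
      ree_fix θ hcu dat.1 (ε := 1) (by simp) (one_mul 1) t u v
  · refine ⟨[(rt 4, -θ t), (rt 5, -t), (rt 3, -(θ t * t + θ u)), (rt 2, -(θ t * θ t * t + θ v)),
      (rt 1, -u), (rt 0, -v)], by simp [wordV_eq θ hθ], ?_⟩
    simpa [ree, tail, mul_assoc] using
      ree_fix θ hcu dat.2 (ε := -1) (by simp) (by ring) t u v

end

/-- the only orbit -/
def o0 : Fin orbGraphG2.no := ⟨0, by decide +kernel⟩

theorem o_eq (o : Fin orbGraphG2.no) : o = o0 := by revert o; decide +kernel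

/-- the positive roots -/
def L : List (Fin chevG2.nroots) := [rt 6, rt 7, rt 8, rt 9, rt 10, rt 11]

theorem L_spec : ∀ o : Fin orbGraphG2.no, ((List.range chevG2.nroots).filter fun r =>
    decide (chevG2.nroots / 2 ≤ r) && decide (digit (orbGraphG2.tab.get o.val) r < chevG2.nroots / 2)) =
    L.map Fin.val := by decide +kernel

theorem wO_val (o : Fin orbGraphG2.no) (r : Fin chevG2.nroots) :
    ((orbits θ hcu).wO o r).val = digit (orbGraphG2.tab.get o.val) r.val := by
  show (C.G.pw (orbGraphG2.wl chevG2 o) r).val = _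
  rw [C.G.pw_val checksG2, OrbData.wl_val chkOrb_graphG2]
  exact ((OrbData.spec chkOrb_graphG2 o.val o.isLt).2.2.2.1 r.val r.isLt).symm

theorem L_eq (o : Fin orbGraphG2.no) : (List.finRange chevG2.nroots).filter (fun r =>
    decide (chevG2.IsPosRoot r.val ∧ ¬ chevG2.IsPosRoot ((orbits θ hcu).wO o r).val)) = L := by
  refine List.map_injective_iff.2 Fin.val_injective ?_
  rw [← L_spec o, ← List.map_coe_finRange_eq_range, List.filter_map]
  congr 1
  refine List.filter_congr fun r _ => ?_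
  rw [Function.comp_apply, ← wO_val θ hcu]
  simp only [C.G.pos_iff_half, not_le, Bool.decide_and]

theorem xu_mem_Uinv {r : Fin chevG2.nroots} (hr : r ∈ L) (t : K) :
    C.G.xu r t ∈ (Uinv C.G ((orbits θ hcu).wO o0) : Subgroup (GL chevG2.Idx K)) := by
  refine Subgroup.subset_closure ⟨r, t, ?_, rfl⟩
  rw [← L_eq θ hcu o0] at hr
  simpa using (List.mem_filter.1 hr).2

theorem reeP_mem_Uinv (t u v : K) :
    reeP θ t u v ∈ (Uinv C.G ((orbits θ hcu).wO o0) : Subgroup (GL chevG2.Idx K)) := by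
  simp only [reeP, ree, tail]
  refine mul_mem (mul_mem ?_ ?_) (mul_mem (mul_mem (mul_mem ?_ ?_) ?_) ?_) <;>
    exact xu_mem_Uinv θ hcu (by decide +kernel) _

theorem U_eq : chevG2.posUnipotent K = (Uinv C.G ((orbits θ hcu).wO o0) : Subgroup (GL chevG2.Idx K)) := by
  refine le_antisymm ?_ (C.G.Uinv_le _)
  rw [C.G.posUnipotent_eq_closure, Subgroup.closure_le]
  rintro g ⟨r, t, hr, rfl⟩
  refine xu_mem_Uinv θ hcu ?_ t
  rw [C.G.pos_iff_half] at hr
  revert r
  decide +kernel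

/-- the coordinates of the sorted form -/
noncomputable def vv (t u v : K) : Fin chevG2.nroots → K := fun r =>
  if r = rt 6 then t else if r = rt 7 then θ t else if r = rt 8 then θ u else if r = rt 9 then θ v else
    if r = rt 10 then u + θ.symm t * t else v + θ.symm t * t * t

omit [CharP K 3] in
theorem vv_vals (t u v : K) : vv θ t u v (rt 6) = t ∧ vv θ t u v (rt 7) = θ t ∧
    vv θ t u v (rt 8) = θ u ∧ vv θ t u v (rt 9) = θ v ∧ vv θ t u v (rt 10) = u + θ.symm t * t ∧
    vv θ t u v (rt 11) = v + θ.symm t * t * t := by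
  refine ⟨?_, ?_, ?_, ?_, ?_, ?_⟩ <;> simp [vv, rt, Fin.ext_iff]

include hcu in
theorem reeP_prod (t u v : K) : (L.map fun r => C.G.xu r (vv θ t u v r)).prod = reeP θ t u v := by
  obtain ⟨h1, h2, h3, h4, h5, h6⟩ := vv_vals θ t u v
  rw [reeP, ree_sorted θ hcu dat.1 (by simp) (one_mul 1)]
  simp only [L, List.map_cons, List.map_nil, List.prod_cons, List.prod_nil, mul_one, h1, h2, h3, h4,
    h5, h6, one_mul, tail, mul_assoc]

theorem X_ree {g : GL chevG2.Idx K}
    (hg : g ∈ (twist θ hcu).Fix ⊓ Uinv C.G ((orbits θ hcu).wO o0)) :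
    ∃ t u v, g = reeP θ t u v := by
  have hL := L_eq θ hcu o0
  obtain ⟨w, rfl⟩ := C.Uinv_normal (C.G.nPerm_nw _) hL hg.2
  obtain ⟨⟨p1, p2, p3, p4, p5, p6⟩, ⟨l1, l2, l3, l4, l5, l6⟩, ⟨e1, e2, e3, e4, e5, e6⟩, -, -⟩ :=
    id dat.1
  have h := (twist θ hcu).fix_list
    (l := L.map fun r => (r, w r)) (by simpa [List.map_map, Function.comp_def] using hg.1)
  simp only [L, List.map_cons, List.map_nil, List.prod_cons, List.prod_nil, mul_one,
    p_eq θ hcu p1, p_eq θ hcu p2, p_eq θ hcu p3, p_eq θ hcu p4, p_eq θ hcu p5, p_eq θ hcu p6,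
    eps_one θ hcu e1, eps_one θ hcu e2, eps_one θ hcu e3, eps_one θ hcu e4, eps_one θ hcu e5,
    eps_one θ hcu e6, σ_short θ hcu l1, σ_short θ hcu l3, σ_short θ hcu l5,
    σ_long θ hcu l2, σ_long θ hcu l4, σ_long θ hcu l6, one_mul] at h
  set A := θ (w (rt 6)) with hA; set B := θ.symm (w (rt 7)) with hB
  let v : Fin chevG2.nroots → K := fun r =>
    if r = rt 6 then B else if r = rt 7 then A else if r = rt 8 then -(A * B) + θ (w (rt 10)) else
      if r = rt 9 then -(A * A * B) + θ (w (rt 11)) else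
        if r = rt 10 then A ^ 3 * B + θ.symm (w (rt 8)) else A ^ 3 * B * B + θ.symm (w (rt 9))
  have e : (L.map fun r => C.G.xu r (v r)).prod = (L.map fun r => C.G.xu r (w r)).prod := by
    have hc := six_comm dat.1 (ε := (1 : K)) (by simp) (one_mul 1) A B
    simp only [one_mul] at hc
    simp only [L, List.map_cons, List.map_nil, List.prod_cons, List.prod_nil, mul_one]
    refine Eq.trans ?_ h
    have hs := tail_swap (K := K) dat.1 (θ (w (rt 10))) (θ (w (rt 11))) (θ.symm (w (rt 8)))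
      (θ.symm (w (rt 9)))
    rw [← mul_assoc (C.G.xu (rt 7) A) (C.G.xu (rt 6) B), hc, ← mul_assoc (C.G.xu (rt 10) _)
      (C.G.xu (rt 11) _), hs, mul_assoc, tail_mul dat.1]
    simp [v, tail, mul_assoc, rt, Fin.ext_iff]
  have e7 := C.normal_inj hL v w e (r := rt 7) (by decide +kernel)
  have e10 := C.normal_inj hL v w e (r := rt 10) (by decide +kernel)
  have e11 := C.normal_inj hL v w e (r := rt 11) (by decide +kernel)
  have v7 : v (rt 7) = A := by simp [v, rt, Fin.ext_iff]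
  have v10 : v (rt 10) = A ^ 3 * B + θ.symm (w (rt 8)) := by simp [v, rt, Fin.ext_iff]
  have v11 : v (rt 11) = A ^ 3 * B * B + θ.symm (w (rt 9)) := by simp [v, rt, Fin.ext_iff]
  rw [v7] at e7
  rw [v10, hB, ← e7, hA, RingEquiv.symm_apply_apply, ← hcu] at e10
  rw [v11, hB, ← e7, hA, RingEquiv.symm_apply_apply, ← hcu] at e11
  refine ⟨w (rt 6), θ.symm (w (rt 8)), θ.symm (w (rt 9)), ?_⟩
  rw [← reeP_prod θ hcu]
  obtain ⟨v1, v2, v3, v4, v5, v6⟩ := vv_vals θ (w (rt 6)) (θ.symm (w (rt 8))) (θ.symm (w (rt 9)))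
  simp only [L, List.map_cons, List.map_nil, v1, v2, v3, v4, v5, v6, RingEquiv.apply_symm_apply]
  rw [show θ (w (rt 6)) = w (rt 7) from e7, add_comm (θ.symm (w (rt 8))), e10,
    add_comm (θ.symm (w (rt 9))), e11]

theorem ne_one : reeN θ (0 : K) 0 1 ≠ 1 ∧ reeP θ (0 : K) 0 1 ≠ 1 := by
  constructor
  · have h := C.G.prod_ne_one (K := K) [(rt 2, -1), (rt 0, -1)] (Sum.inl (nd 0)) (Sum.inr (rt 11))
      (by decide +kernel)
    simpa [reeN, ree, tail, C.G.xu_zero] using h
  · have h := C.G.prod_ne_one (K := K) [(rt 9, 1), (rt 11, 1)] (Sum.inl (nd 0)) (Sum.inr (rt 0))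
      (by decide +kernel)
    simpa [reeP, ree, tail, C.G.xu_zero] using h

theorem pre {e : ℕ} (hθ : ∀ x, θ x = x ^ e) : Pre (orbits θ hcu) (twistedG2 K e) where
  le := le_Fix θ hcu hθ
  X_le k g hg := by
    obtain rfl := o_eq k
    obtain ⟨t, u, v, rfl⟩ := X_ree θ hcu hg
    exact reeP_mem θ hθ t u v
  V_elt k := by
    obtain rfl := o_eq k
    obtain ⟨n1, n2, n3, n4, n5, n6⟩ := negr_rt
    have hn : ∀ (r : Fin chevG2.nroots) (t : K), r.val < 6 →
        C.G.xu r t ∈ chevG2.negUnipotent K := fun r t hr => C.G.xu_mem_V (by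
      rw [C.G.isNegRoot_iff_not_pos, C.G.pos_iff_half]
      have : chevG2.nroots / 2 = 6 := by decide +kernel
      omega) t
    have hJ : ∀ (r : Fin chevG2.nroots) (t : K), r ∈ L →
        C.G.xu (C.G.negr r) t ∈ (LJ C.G ((orbits θ hcu).J o0) : Subgroup (GL chevG2.Idx K)) := by
      intro r t hr
      rw [← L_eq θ hcu o0] at hr
      have h := (List.mem_filter.1 hr).2
      rw [decide_eq_true_eq] at h
      exact (C.G.orbit_mem_LJ (orbits θ hcu) h.1 h.2 t).2
    refine ⟨_, reeN_mem θ hθ 0 0 1, ?_, ?_, (ne_one θ).1⟩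
    · simp only [reeN, ree, tail, ← n1, ← n2, ← n3, ← n4, ← n5, ← n6]
      refine mul_mem (mul_mem ?_ ?_) (mul_mem (mul_mem (mul_mem ?_ ?_) ?_) ?_) <;>
        exact hJ _ _ (by decide +kernel)
    · simp only [reeN, ree, tail]
      refine mul_mem (mul_mem ?_ ?_) (mul_mem (mul_mem (mul_mem ?_ ?_) ?_) ?_) <;>
        exact hn _ _ (by decide +kernel)

omit [CharP K 3] in
theorem ker_one {z : Fin chevG2.rank → Kˣ} (hz : C.G.torθ z = 1) : z = 1 := by
  have hM : ∀ i j : Fin chevG2.rank, ∑ l,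
      (([[2, 1], [3, 2]] : List (List ℤ)).getD i.val []).getD l.val 0 *
        cmat chevG2 j l = if j = i then (1 : ℤ) else 0 := by decide +kernel
  funext i
  have := C.G.ker_pow _ hM hz i
  rwa [zpow_one] at this

/-- the parameters of the torus -/
noncomputable def par (b : Kˣ) : Fin chevG2.rank → Kˣ := fun j =>
  if j = nd 0 then Units.map θ.toMonoidHom b else b

omit [CharP K 3] in
theorem par_vals (b : Kˣ) : par θ b (nd 0) = Units.map θ.toMonoidHom b ∧ par θ b (nd 1) = b := by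
  refine ⟨?_, ?_⟩ <;> simp [par, nd, Fin.ext_iff]

theorem nd_cases (i : Fin chevG2.rank) : i = nd 0 ∨ i = nd 1 := by revert i; decide +kernel

theorem par_fixed (b : Kˣ) : (twist θ hcu).σT (par θ b) = par θ b := by
  funext j
  obtain ⟨i, rfl⟩ := (twist θ hcu).node.surjective j
  simp only [Twist.σT, Equiv.symm_apply_apply]
  apply Units.ext
  have hn : ∀ i j : Fin chevG2.rank, node.get i.val = j.val → (twist θ hcu).node i = j := fun i j h =>
    Fin.ext ((node_eq θ hcu i).trans h)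
  obtain ⟨v0, v1⟩ := par_vals θ b
  obtain ⟨s0, s1⟩ := simp_rt
  rcases nd_cases i with rfl | rfl
  · rw [hn _ (nd 1) (by decide +kernel), v0, v1, s0]
    exact (σ_short θ hcu (by decide +kernel) _).trans (θ.symm_apply_apply _)
  · rw [hn _ (nd 0) (by decide +kernel), v0, v1, s1]
    exact σ_long θ hcu (by decide +kernel) _

theorem exists_par {g : GL chevG2.Idx K}
    (hg : g ∈ (twist θ hcu).Fix ⊓ chevG2.diagonalSubgroup K) : ∃ b, g = C.G.torθ (par θ b) := by
  obtain ⟨c, rfl, hc⟩ := (twist θ hcu).exists_fixed_tor_one hg fun z hz => ker_one hz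
  refine ⟨c (nd 1), congrArg _ ?_⟩
  have hn : ∀ i j : Fin chevG2.rank, node.get i.val = j.val → (twist θ hcu).node i = j := fun i j h =>
    Fin.ext ((node_eq θ hcu i).trans h)
  have a := congrArg Units.val (congrFun hc ((twist θ hcu).node (nd 1)))
  simp only [Twist.σT, Equiv.symm_apply_apply] at a
  rw [hn _ (nd 0) (by decide +kernel), simp_rt.2] at a
  obtain ⟨v0, v1⟩ := par_vals θ (c (nd 1))
  funext j
  rcases nd_cases j with rfl | rfl
  · rw [v0]
    exact Units.ext (a.symm.trans (σ_long θ hcu (r := rt 6) (by decide +kernel) _))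
  · exact v1.symm

/-- the involution of the torus is a product of generators -/
theorem minus_one_mem {e : ℕ} (hθ : ∀ x, θ x = x ^ e) :
    C.G.torθ (par θ (-1)) ∈ twistedG2 K e := by
  have h2 : (1 : K) + 1 = -1 := by
    have h3 : ((3 : ℕ) : K) = 0 := CharP.cast_eq_zero K 3
    push_cast at h3
    linear_combination h3
  have hmem : ((facs.map fun p => goodG2.xu p.1 (p.2 : K)).prod : GL chevG2.Idx K) ∈ twistedG2 K e := by
    have e1 : ((facs.map fun p => goodG2.xu p.1 (p.2 : K)).prod : GL chevG2.Idx K) =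
        reeP θ 0 0 1 * reeN θ 0 0 1 * reeP θ 1 1 1 * reeN θ (-1) 1 (-1) := by
      simp [facs, reeP, reeN, ree, tail, rt, C, goodG2.xu_zero, h2, mul_assoc]
    rw [e1]
    exact mul_mem (mul_mem (mul_mem (reeP_mem θ hθ _ _ _) (reeN_mem θ hθ _ _ _))
      (reeP_mem θ hθ _ _ _)) (reeN_mem θ hθ _ _ _)
  have e2 : C.G.torθ (par θ (-1 : Kˣ)) = (facs.map fun p => goodG2.xu p.1 (p.2 : K)).prod := by
    refine Units.ext (Matrix.ext fun i j => ?_)
    rw [facs_eq, C.G.torθ_eq_prod, show List.finRange chevG2.rank = [nd 0, nd 1] by decide +kernel]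
    obtain ⟨v0, v1⟩ := par_vals θ (-1 : Kˣ)
    have hm1 : Units.map θ.toMonoidHom (-1 : Kˣ) = -1 := Units.ext (by simp)
    rw [hm1] at v0
    simp only [List.map_cons, List.map_nil, List.prod_cons, List.prod_nil, mul_one, v0, v1,
      Units.val_mul, C.G.hd_simp_coe, Matrix.diagonal_mul_diagonal, Matrix.diagonal_apply]
    split_ifs with h
    · rcases i with i | s
      · simp
      · simp only [Sum.elim_inr, Units.val_neg, Units.val_one]
        rw [← zpow_add₀ (neg_ne_zero.2 (one_ne_zero (α := K)))]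
        split_ifs with h'
        · exact Even.neg_one_zpow (Int.even_iff.2 h')
        · exact Odd.neg_one_zpow (Int.odd_iff.2 (Int.emod_two_ne_zero.1 h'))
    · rfl
  rw [e2]
  exact hmem

variable [Finite K]

theorem H_mem {e : ℕ} (hθ : ∀ x, θ x = x ^ e) (hneg : ¬ IsSquare (-1 : K)) {g : GL chevG2.Idx K}
    (hg : g ∈ (twist θ hcu).Fix ⊓ chevG2.diagonalSubgroup K) : g ∈ twistedG2 K e := by
  obtain ⟨b, rfl⟩ := exists_par θ hcu hg
  have hsq : ∀ r : Kˣ, C.G.torθ (par θ (r ^ 2)) ∈ twistedG2 K e := by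
    intro r
    have e1 : par θ (r ^ 2) = par θ r ^ 2 := by
      funext j
      obtain ⟨u0, u1⟩ := par_vals θ (r ^ 2)
      obtain ⟨x0, x1⟩ := par_vals θ r
      rcases nd_cases j with rfl | rfl <;>
        simp only [Pi.pow_apply, u0, u1, x0, x1, map_pow]
    rw [e1, map_pow]
    refine (pre θ hcu hθ).sq_mem (k := o0) ?_
      (Subgroup.mem_inf.2 ⟨le_Fix θ hcu hθ (reeP_mem θ hθ 0 0 1), reeP_mem_Uinv θ hcu 0 0 1⟩)
      (ne_one θ).2 (fun i hi => absurd ?_ hi) ((twist θ hcu).torθ_mem_Fix (par_fixed θ hcu r)).1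
    · intro j hj
      refine Fin.ext ?_
      rw [show (C.G.pw ((orbits θ hcu).wl o0) (C.G.simp' j)).val = _ from wO_val θ hcu o0 _,
        C.G.negr_val, C.G.simp_val]
      have h : ∀ j : Fin chevG2.rank,
          digit (orbGraphG2.tab.get o0.val) (chevG2.simple j.val) = chevG2.neg (chevG2.simple j.val) := by
        decide +kernel
      exact h j
    · show i ∈ orbGraphG2.nodes chevG2 o0
      clear hi
      revert i
      decide +kernel
  have hcase : ∃ r : Kˣ, b = r ^ 2 ∨ b = -1 * r ^ 2 := by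
    classical
    haveI : Fintype K := Fintype.ofFinite K
    have h2 : ringChar K ≠ 2 := by rw [ringChar.eq K 3]; decide
    by_cases hb : IsSquare (b : K)
    · obtain ⟨r, hr⟩ := hb
      have h0 : r ≠ 0 := fun h => b.ne_zero (by rw [hr, h, mul_zero])
      exact ⟨Units.mk0 r h0, Or.inl (Units.ext (by simpa [pow_two] using hr))⟩
    · obtain ⟨r, hr⟩ : IsSquare (-(b : K)) := by
        rw [← quadraticChar_one_iff_isSquare (neg_ne_zero.2 b.ne_zero), neg_eq_neg_one_mul, map_mul,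
          quadraticChar_neg_one_iff_not_isSquare.2 hneg, quadraticChar_neg_one_iff_not_isSquare.2 hb]
        norm_num
      have h0 : r ≠ 0 := fun h => b.ne_zero (neg_eq_zero.1 (by rw [hr, h, mul_zero]))
      refine ⟨Units.mk0 r h0, Or.inr (Units.ext ?_)⟩
      simp [pow_two, ← hr]
  obtain ⟨r, rfl | rfl⟩ := hcase
  · exact hsq r
  · have e1 : par θ (-1 * r ^ 2) = par θ (-1) * par θ (r ^ 2) := by
      funext j
      rcases nd_cases j with rfl | rfl
      · simp only [Pi.mul_apply, (par_vals θ _).1, map_mul]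
      · simp only [Pi.mul_apply, (par_vals θ _).2]
    rw [e1, map_mul]
    exact mul_mem (minus_one_mem θ hθ) (hsq r)

theorem twGp {e : ℕ} (hθ : ∀ x, θ x = x ^ e) (hneg : ¬ IsSquare (-1 : K)) :
    TwGp (orbits θ hcu) (twistedG2 K e) where
  toPre := pre θ hcu hθ
  H_le _g hg := H_mem θ hcu hθ hneg hg
  X_ne k := by
    obtain rfl := o_eq k
    exact ⟨_, Subgroup.mem_inf.2 ⟨le_Fix θ hcu hθ (reeP_mem θ hθ 0 0 1), reeP_mem_Uinv θ hcu 0 0 1⟩,
      (ne_one θ).2⟩

theorem card_orb {e : ℕ} (hθ : ∀ x, θ x = x ^ e) (k : Fin orbGraphG2.no) :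
    Nat.card ↥((twist θ hcu).Fix ⊓ Uinv C.G ((orbits θ hcu).wO k)) =
      Nat.card K ^ (ninv C.G ((orbits θ hcu).wO k) / 2) := by
  classical
  obtain rfl := o_eq k
  have hn : ninv C.G ((orbits θ hcu).wO o0) = L.length := by
    rw [← L_eq θ hcu o0, ninv, ← List.toFinset_card_of_nodup ((List.nodup_finRange _).filter _)]
    congr 1
  have hle := le_Fix θ hcu hθ
  rw [hn, show L.length / 2 = 3 from rfl, show Nat.card K ^ 3 = Nat.card (K × K × K) by
    rw [Nat.card_prod, Nat.card_prod]; ring]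
  refine (Nat.card_eq_of_bijective (fun x : K × K × K =>
    (⟨reeP θ x.1 x.2.1 x.2.2, Subgroup.mem_inf.2
      ⟨hle (reeP_mem θ hθ x.1 x.2.1 x.2.2), reeP_mem_Uinv θ hcu x.1 x.2.1 x.2.2⟩⟩ :
      ↥((twist θ hcu).Fix ⊓ Uinv C.G ((orbits θ hcu).wO o0)))) ⟨?_, ?_⟩).symm
  · rintro ⟨t, u, v⟩ ⟨t', u', v'⟩ h
    have he := (reeP_prod θ hcu t u v).trans
      ((congrArg Subtype.val h).trans (reeP_prod θ hcu t' u' v').symm)
    have hL := L_eq θ hcu o0
    have h6 := C.normal_inj hL _ _ he (r := rt 6) (by decide +kernel)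
    have h8 := C.normal_inj hL _ _ he (r := rt 8) (by decide +kernel)
    have h9 := C.normal_inj hL _ _ he (r := rt 9) (by decide +kernel)
    obtain ⟨a1, -, a3, a4, -, -⟩ := vv_vals θ t u v
    obtain ⟨b1, -, b3, b4, -, -⟩ := vv_vals θ t' u' v'
    rw [a1, b1] at h6; rw [a3, b3] at h8; rw [a4, b4] at h9
    exact Prod.ext h6 (Prod.ext (θ.injective h8) (θ.injective h9))
  · rintro ⟨g, hg⟩
    obtain ⟨t, u, v, rfl⟩ := X_ree θ hcu hg
    exact ⟨(t, u, v), rfl⟩

theorem card_H : Nat.card ↥((twist θ hcu).Fix ⊓ chevG2.diagonalSubgroup K) = Nat.card K - 1 := by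
  classical
  rw [← Nat.card_units]
  refine (Nat.card_eq_of_bijective (fun x : Kˣ =>
    (⟨C.G.torθ (par θ x), (twist θ hcu).torθ_mem_Fix (par_fixed θ hcu x)⟩ :
      ↥((twist θ hcu).Fix ⊓ chevG2.diagonalSubgroup K))) ⟨?_, ?_⟩).symm
  · intro b b' h
    have h' : C.G.torθ (par θ b) = C.G.torθ (par θ b') := congrArg Subtype.val h
    have h2 : (par θ b)⁻¹ * par θ b' = 1 :=
      ker_one (by rw [map_mul, map_inv, h', inv_mul_cancel])
    rw [inv_mul_eq_one] at h2
    exact (par_vals θ b).2.symm.trans ((congrFun h2 _).trans (par_vals θ b').2)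
  · rintro ⟨g, hg⟩
    obtain ⟨b, rfl⟩ := exists_par θ hcu hg
    exact ⟨b, rfl⟩

end TG2

end CfsgLib.Lie.Chev
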