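import Cfsg.Agent.Lib.Lie.Chev.Tw.G2

/-!
# The groups of type ²G₂: (B, N)-pair, order, unipotent group, torus, Weyl group
-/

set_option autoImplicit false
set_option maxRecDepth 100000

namespace CfsgLib.Lie.Chev

open Cfsg.Lie
open scoped MatrixGroups

namespace TG2

variable {K : Type*} [Field K] [Fintype K] {m : ℕ}

/-- the field automorphism -/
theorem exists_theta (hK : Fintype.card K = 3 ^ (2 * m + 1)) :
    ∃ _ : CharP K 3, ∃ θ : K ≃+* K, (∀ x, θ.symm x = θ x ^ 3) ∧ (∀ x, θ x = x ^ 3 ^ m) ∧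
      ¬ IsSquare (-1 : K) := by
  obtain ⟨p, a, hp, ha, h3, hc⟩ := Frob.exists_prime (show IsPrimePow 3 from Nat.prime_three.isPrimePow) hK
  have hp3 : p = 3 := by
    have : p ∣ 3 := h3 ▸ dvd_pow_self p ha.ne'
    exact (Nat.prime_dvd_prime_iff_eq hp Nat.prime_three).1 this
  subst hp3
  haveI := hc
  haveI := Fact.mk hp
  refine ⟨hc, iterateFrobeniusEquiv K 3 m, fun x => ?_, fun x => by
    rw [coe_iterateFrobeniusEquiv, iterateFrobenius_def], ?_⟩
  · rw [RingEquiv.symm_apply_eq, coe_iterateFrobeniusEquiv, iterateFrobenius_def,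
      iterateFrobenius_def, ← pow_mul, ← pow_mul,
      show 3 ^ m * (3 * 3 ^ m) = Fintype.card K by rw [hK]; ring, FiniteField.pow_card]
  · rw [FiniteField.isSquare_neg_one_iff, hK, not_not]
    rw [pow_succ, pow_mul, Nat.mul_mod, Nat.pow_mod]
    simp

/-- the facts about the group -/
theorem summary (hK : Fintype.card K = 3 ^ (2 * m + 1)) :
    (∃ P : Cfsg.BNPair ↥(twistedG2 K (3 ^ m)),
      P.B = (chevG2.borelSubgroup K ⊓ twistedG2 K (3 ^ m)).subgroupOf (twistedG2 K (3 ^ m)) ∧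
      P.N = (chevG2.monomialSubgroup K ⊓ twistedG2 K (3 ^ m)).subgroupOf (twistedG2 K (3 ^ m))) ∧
    ((∀ g : GL chevG2.Idx K, g ∈ chevG2.posUnipotent K ⊓ twistedG2 K (3 ^ m) ↔
      ∃ t u v : K, (g : Matrix chevG2.Idx chevG2.Idx K) = chevG2.wordMat K (reeWordU (3 ^ m) t u v)) ∧
    Nat.card ↥(chevG2.posUnipotent K ⊓ twistedG2 K (3 ^ m)) = (3 ^ (2 * m + 1)) ^ 3) ∧
    Nat.card ↥(chevG2.diagonalSubgroup K ⊓ twistedG2 K (3 ^ m)) = 3 ^ (2 * m + 1) - 1 ∧
    (Nat.card ↥(twistedG2 K (3 ^ m)) =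
      (3 ^ (2 * m + 1)) ^ 3 * (3 ^ (2 * m + 1) - 1) * ((3 ^ (2 * m + 1)) ^ 3 + 1)) ∧
    ∃ φ : ↥(chevG2.monomialSubgroup K ⊓ twistedG2 K (3 ^ m)) →* Multiplicative (ZMod 2),
      Function.Surjective φ ∧ φ.ker = (chevG2.diagonalSubgroup K ⊓ twistedG2 K (3 ^ m)).subgroupOf
        (chevG2.monomialSubgroup K ⊓ twistedG2 K (3 ^ m)) := by
  obtain ⟨hc, θ, hcu, hθ, hneg⟩ := exists_theta hK
  have P := twGp θ hcu hθ hneg
  have hqK : Nat.card K = 3 ^ (2 * m + 1) := by rw [Nat.card_eq_fintype_card, hK]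
  have hd : ∀ k, 2 ∣ ninv C.G ((orbits θ hcu).wO k) := fun k => by
    classical
    have hn : ninv C.G ((orbits θ hcu).wO k) = L.length := by
      rw [← L_eq θ hcu k, ninv, ← List.toFinset_card_of_nodup ((List.nodup_finRange _).filter _)]
      congr 1
    rw [hn]
    exact ⟨3, rfl⟩
  have hQ := card_orb θ hcu hθ
  have hU := P.card_U_eq two_ne_zero hd hQ
  rw [show chevG2.nroots / 2 / 2 = 3 from by decide +kernel, hqK] at hU
  have hH : Nat.card ↥(chevG2.diagonalSubgroup K ⊓ twistedG2 K (3 ^ m)) = 3 ^ (2 * m + 1) - 1 := by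
    rw [P.H_eq, card_H θ hcu, hqK]
  refine ⟨P.exists_bnPair, ⟨fun g => ?_, hU⟩, hH, ?_, ?_⟩
  · have hword : ∀ t u v : K, chevG2.wordMat K (reeWordU (3 ^ m) t u v) =
        (reeP θ t u v : Matrix chevG2.Idx chevG2.Idx K) := fun t u v => by
      have := C.G.wordMat_eq [(rt 7, θ t), (rt 6, t), (rt 8, θ t * t + θ u),
        (rt 9, θ t * θ t * t + θ v), (rt 10, u), (rt 11, v)]
      simp only [List.map_cons, List.map_nil] at this
      rw [wordU_eq θ hθ, this]
      simp [reeP, ree, tail, mul_assoc]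
    rw [P.U_eq, U_eq θ hcu]
    constructor
    · intro hg
      obtain ⟨t, u, v, rfl⟩ := X_ree θ hcu hg
      exact ⟨t, u, v, (hword t u v).symm⟩
    · rintro ⟨t, u, v, hg⟩
      rw [show g = reeP θ t u v from Units.ext (hg.trans (hword t u v))]
      exact Subgroup.mem_inf.2 ⟨le_Fix θ hcu hθ (reeP_mem θ hθ t u v), reeP_mem_Uinv θ hcu t u v⟩
  · rw [P.card_eq two_ne_zero hd hQ, hU, hH, hqK,
      PsumP_of_chk (orbits θ hcu) (wO_val θ hcu) chkEnum_graphG2]
    generalize 3 ^ (2 * m + 1) = q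
    rw [show (List.range enumGraphG2.m).map (fun k => q ^ (enumGraphG2.len.get k / 2)) =
      ((List.range enumGraphG2.m).map fun k => enumGraphG2.len.get k).map (fun n => q ^ (n / 2)) by
        rw [List.map_map]; rfl, (lens_graphG2.map fun n => q ^ (n / 2)).sum_eq]
    simp only [List.map_append, List.map_replicate, List.sum_append, List.sum_replicate,
      smul_eq_mul, Nat.reduceDiv]
    ring
  · haveI : Fact (Nat.Prime 2) := ⟨Nat.prime_two⟩
    have hW : Nat.card ↥(Wp C.G (twist θ hcu).p) = 2 := by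
      rw [(orbits θ hcu).card_Wp (wO_val θ hcu) chkEnum_graphG2]; rfl
    exact P.exists_weyl_hom (mulEquivOfPrimeCardEq hW (by simp))

end TG2

end CfsgLib.Lie.Chev
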