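import Cfsg.Agent.Lib.Lie.Chev.Tw.G2Gp
import Cfsg.Agent.Lib.Lie.Chev.Tw.Simple
import Cfsg.Agent.Lib.Lie.Chev.Tw.FieldPick

/-!
# ²G₂: perfectness and simplicity
-/

set_option autoImplicit false
set_option maxRecDepth 100000

namespace CfsgLib.Lie.Chev

open Cfsg.Lie
open scoped MatrixGroups commutatorElement

namespace TG2

variable {K : Type*} [Field K] [Fintype K] {m : ℕ}

/-- the full coefficient vectors -/
theorem exists_full' [CharP K 3] (θ : K ≃+* K) (hcu : ∀ x, θ.symm x = θ x ^ 3)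
    {e : ℕ} (hθ : ∀ x, θ x = x ^ e) :
    ∀ j, ∃ t : Fin chevG2.nroots → K, C.uprod 0 t ∈ (twist θ hcu).Fix ∧ t (C.G.simp' j) ≠ 0 := by
  obtain ⟨s0, s1⟩ := simp_rt
  have h : (L.map fun r => C.G.xu r (vv θ (1 : K) 0 0 r)).prod ∈ (twist θ hcu).Fix := by
    rw [reeP_prod θ hcu]; exact le_Fix θ hcu hθ (reeP_mem θ hθ 1 0 0)
  obtain ⟨w1, w2, -, -, -, -⟩ := vv_vals θ (1 : K) 0 0
  intro j
  rcases nd_cases j with rfl | rfl
  · rw [s0]; exact C.exists_full (L_eq θ hcu o0) _ h (by decide +kernel) (by rw [w2, map_one]; exact one_ne_zero)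
  · rw [s1]; exact C.exists_full (L_eq θ hcu o0) _ h (by decide +kernel) (by rw [w1]; exact one_ne_zero)

/-- the trivial core -/
theorem core (hK : Fintype.card K = 3 ^ (2 * m + 1)) :
    ((chevG2.borelSubgroup K ⊓ twistedG2 K (3 ^ m)).subgroupOf (twistedG2 K (3 ^ m))).normalCore = ⊥ := by
  obtain ⟨hc, θ, hcu, hθ, hneg⟩ := exists_theta hK
  exact (twGp θ hcu hθ hneg).normalCore_eq_bot (exists_full' θ hcu hθ)

/-- perfectness and simplicity -/
theorem summary2 (hm : 1 ≤ m) (hK : Fintype.card K = 3 ^ (2 * m + 1)) :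
    commutator ↥(twistedG2 K (3 ^ m)) = ⊤ ∧
    IsSimpleGroup ↥(twistedG2 K (3 ^ m)) ∧ ¬ IsMulCommutative ↥(twistedG2 K (3 ^ m)) := by
  obtain ⟨hc, θ, hcu, hθ, hneg⟩ := exists_theta hK
  have P := twGp θ hcu hθ hneg
  obtain ⟨b, hb1, hb2⟩ := exists_unit_ne (K := K) (by
    rw [hK]
    calc 3 < 3 ^ 3 := by norm_num
      _ ≤ 3 ^ (2 * m + 1) := Nat.pow_le_pow_right (by norm_num) (by omega))
  set B : K := (b : K) with hB
  set A : K := θ B with hA
  have hB0 : B ≠ 0 := b.ne_zero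
  have hA0 : A ≠ 0 := fun h => hB0 ((map_eq_zero θ).1 h)
  have hAA : θ A ^ 3 = B := by rw [← hcu, hA, θ.symm_apply_apply]
  -- `A² = B` forces `B = 1`
  have k7 : A ^ 2 ≠ B := fun h => hb1 (by
    have e1 : θ A ^ 2 = A := by rw [← map_pow, h, hA]
    have e2 : A ^ 3 = B ^ 2 := by rw [← e1, ← pow_mul, mul_comm 2 3, pow_mul, hAA]
    have e3 : B ^ 3 * B = B ^ 3 * 1 := by
      rw [mul_one, ← pow_succ, show B ^ (3 + 1) = (B ^ 2) ^ 2 by ring, ← e2, ← h]; ring
    exact mul_left_cancel₀ (pow_ne_zero 3 hB0) e3)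
  have k6 : B ^ 2 ≠ A ^ 3 := fun h => k7 (by
    have e1 : θ (B ^ 2) = θ A ^ 3 := by rw [h, map_pow]
    rw [map_pow, hAA] at e1
    exact e1)
  have k8 : A ≠ B := fun h => by
    have e1 : B ^ 3 = B := by
      have h3 := hAA
      rw [h, ← hA, h] at h3
      exact h3
    have e2 : B ^ 2 = 1 := mul_right_cancel₀ hB0 (by rw [one_mul, ← pow_succ, e1])
    rcases sq_eq_one_iff.1 e2 with e | e
    exacts [hb1 e, hb2 e]
  have k10 : A ^ 3 ≠ B := fun h => k8 (by
    have e1 : θ (A ^ 3) = θ B := by rw [h]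
    rw [map_pow, hAA] at e1
    exact e1.symm)
  have k9 : A ≠ 1 := fun h => hb1 (θ.injective (h.trans (map_one θ).symm))
  have hperf : commutator ↥(twistedG2 K (3 ^ m)) = ⊤ := by
    refine P.commutator_eq_top (C.G.gen_le_UV fun w hw => ?_) fun k => ?_
    · have hp : ∀ r : Fin chevG2.nroots, chevG2.IsPosRoot r.val ↔ 6 ≤ r.val := fun r => by
        rw [C.G.pos_iff_half, show chevG2.nroots / 2 = 6 from by decide +kernel]
      obtain ⟨t, u, v, hw⟩ := hw
      rcases hw with rfl | rfl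
      · exact ⟨[(rt 7, θ t), (rt 6, t), (rt 8, θ t * t + θ u), (rt 9, θ t * θ t * t + θ v), (rt 10, u),
          (rt 11, v)], by simp [wordU_eq θ hθ], Or.inl (by simp [hp, rt])⟩
      · exact ⟨[(rt 4, -θ t), (rt 5, -t), (rt 3, -(θ t * t + θ u)), (rt 2, -(θ t * θ t * t + θ v)),
          (rt 1, -u), (rt 0, -v)], by simp [wordV_eq θ hθ], Or.inr (by simp [hp, rt])⟩
    · obtain rfl := o_eq k
      have hu : (Finset.univ : Finset (Fin chevG2.rank)) = {nd 0, nd 1} := by decide +kernel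
      have hd : (nd 0 : Fin chevG2.rank) ∉ ({nd 1} : Finset _) := by decide +kernel
      have hrows : (L.map fun r => [nd 0, nd 1].map fun i => cart chevG2 i r) =
          [[-3, 2], [2, -1], [-1, 1], [1, 0], [3, -1], [0, 1]] := by
        decide +kernel
      simp only [L, List.map_cons, List.map_nil, List.cons.injEq, and_true] at hrows
      obtain ⟨⟨a0, a1⟩, ⟨b0, b1⟩, ⟨c0, c1⟩, ⟨d0, d1⟩, ⟨e0, e1⟩, f0, f1⟩ := hrows
      refine P.X_derived_of_torus (L_eq θ hcu o0) (par θ b)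
        ((twist θ hcu).torθ_mem_Fix (par_fixed θ hcu b)).1 fun r hr => ?_
      obtain ⟨v0, v1⟩ := par_vals θ b
      simp only [L, List.mem_cons, List.not_mem_nil, or_false] at hr
      rw [hu, Finset.prod_insert hd, Finset.prod_singleton, v0, v1, Units.val_mul,
        Units.val_zpow_eq_zpow_val, Units.val_zpow_eq_zpow_val]
      show A ^ cart chevG2 (nd 0) r * B ^ cart chevG2 (nd 1) r ≠ 1
      rcases hr with rfl | rfl | rfl | rfl | rfl | rfl
      · rw [a0, a1]
        intro h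
        rw [zpow_neg, inv_mul_eq_one₀ (zpow_ne_zero _ hA0)] at h
        exact k6 (by simpa [zpow_ofNat] using h.symm)
      · rw [b0, b1]
        intro h
        rw [zpow_neg_one, mul_inv_eq_one₀ hB0] at h
        exact k7 (by simpa [zpow_ofNat] using h)
      · rw [c0, c1, zpow_one, zpow_neg_one]
        intro h
        exact k8 ((inv_mul_eq_one₀ hA0).1 h)
      · rw [d0, d1, zpow_one, zpow_zero, mul_one]
        exact k9
      · rw [e0, e1]
        intro h
        rw [zpow_neg_one, mul_inv_eq_one₀ hB0] at h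
        exact k10 (by simpa [zpow_ofNat] using h)
      · rw [f0, f1, zpow_one, zpow_zero, one_mul]
        exact hb1
  exact ⟨hperf, P.simple o0 (exists_full' θ hcu hθ) hperf
    ((orbits θ hcu).irred_of_tab (wO_val θ hcu) (by decide +kernel))⟩

end TG2

end CfsgLib.Lie.Chev
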