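import Cfsg.Agent.Lib.Lie.Chev.Tw.Fix

/-!
# Generation of the fixed group, and the orders of its pieces
-/

set_option autoImplicit false

namespace CfsgLib.Lie.Chev

open Cfsg.Lie
open scoped MatrixGroups

variable {D : ChevalleyDatum} {K : Type*} [Field K] {C : Full D} {T : Twist C.G K} {ι : Type}

/-- the hypotheses on a candidate group of fixed elements before its torus is known -/
structure Pre (O : Orbits C.G T.p ι) (Γ : Subgroup (GL D.Idx K)) : Prop where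
  le : Γ ≤ T.Fix
  X_le : ∀ k, T.Fix ⊓ Uinv C.G (O.wO k) ≤ Γ
  V_elt : ∀ k, ∃ v ∈ Γ, v ∈ (LJ C.G (O.J k) : Subgroup (GL D.Idx K)) ∧ v ∈ D.negUnipotent K ∧ v ≠ 1

/-- the hypotheses on a candidate group of fixed elements -/
structure TwGp (O : Orbits C.G T.p ι) (Γ : Subgroup (GL D.Idx K)) : Prop extends Pre O Γ where
  H_le : T.Fix ⊓ D.diagonalSubgroup K ≤ Γ
  X_ne : ∀ k, ∃ x ∈ T.Fix ⊓ Uinv C.G (O.wO k), x ≠ 1

namespace Good

variable (G : Good D)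

include G

theorem hd_negr_simp (i : Fin D.rank) (u : Kˣ) :
    G.hd (G.negr (G.simp' i)) u = (G.hd (G.simp' i) u)⁻¹ := by
  rw [G.hd_eq_torθ, G.hd_eq_torθ, ← map_inv]
  congr 1
  funext j
  have hw := G.coroot_w i (G.simp' i) j
  rw [G.w_simp, G.coroot_simp] at hw
  have hs : ∑ k : Fin D.rank, cart D k (G.simp' i) * (D.coroot.getD (G.simp' i).val #[]).getD k.val 0
      = 2 := by
    rw [Finset.sum_eq_single i]
    · rw [G.coroot_simp, if_pos rfl, mul_one, G.cart_simp]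
    · intro b _ hb; rw [G.coroot_simp, if_neg hb, mul_zero]
    · simp
  rw [hs] at hw
  rw [Pi.inv_apply, hw, G.coroot_simp, ← zpow_neg]
  by_cases hji : j = i <;> simp [hji]

theorem nw_hd (l : List (Fin D.rank)) (r : Fin D.nroots) (u : Kˣ) :
    G.nw l * G.hd r u * (G.nw l)⁻¹ = G.hd (G.pw l r) u := by
  induction l with
  | nil => simp [nw_nil, pw_nil]
  | cons i l ih =>
    rw [nw_cons, show G.nU i * G.nw l * G.hd r u * (G.nU i * G.nw l)⁻¹ =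
      G.nU i * (G.nw l * G.hd r u * (G.nw l)⁻¹) * (G.nU i)⁻¹ by group, ih, G.hd_w,
      mul_inv_cancel_right, G.pw_cons, Equiv.Perm.mul_apply, sP_apply]

end Good

namespace Twist

variable (T)

theorem exists_longest_Wp : ∃ π ∈ Wp C.G T.p, ∀ r : Fin D.nroots,
    D.IsPosRoot r.val → ¬ D.IsPosRoot (π r).val := by
  obtain ⟨l, hl⟩ := C.G.exists_longest
  refine ⟨C.G.pw l, mem_Wp.2 ⟨C.G.pw_mem l, ?_⟩, hl⟩
  obtain ⟨l', hl'⟩ := C.G.exists_pw (T.p_conj_mem (C.G.pw_mem l))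
  have key : C.G.pw (l'.reverse ++ l) = 1 := by
    refine C.G.pw_eq_one_of_pos _ _ rfl fun j => ?_
    rw [C.G.pw_append, Equiv.Perm.mul_apply, C.G.pw_reverse, hl']
    have hneg := hl _ (C.G.simp_pos j)
    simp only [mul_inv_rev, inv_inv, Equiv.Perm.mul_apply]
    rw [T.p_pos]
    by_contra h
    set x := (C.G.pw l)⁻¹ (T.p⁻¹ (C.G.pw l (C.G.simp' j))) with hx
    have h2 := hl (C.G.negr x) ((C.G.negr_pos_iff x).2 h)
    rw [C.G.pw_negr, C.G.negr_pos_iff, not_not, hx,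
      show C.G.pw l ((C.G.pw l)⁻¹ (T.p⁻¹ (C.G.pw l (C.G.simp' j)))) = T.p⁻¹ (C.G.pw l (C.G.simp' j)) from
        (C.G.pw l).apply_symm_apply _, ← T.p_pos,
      show T.p (T.p⁻¹ (C.G.pw l (C.G.simp' j))) = C.G.pw l (C.G.simp' j) from T.p.apply_symm_apply _] at h2
    exact hneg h2
  rw [C.G.pw_append, C.G.pw_reverse, hl', inv_mul_eq_one] at key
  exact (mul_inv_eq_iff_eq_mul.1 key)

end Twist

namespace Pre

variable {O : Orbits C.G T.p ι} {Γ : Subgroup (GL D.Idx K)} (P : Pre O Γ)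

include P

theorem exists_nk (k : ι) : ∃ n ∈ Γ, n ∈ D.monomialSubgroup K ∧ C.G.NPerm n (O.wO k) := by
  obtain ⟨v, hv, hL, hV, hne⟩ := P.V_elt k
  obtain ⟨b, hb, m, hm, hmπ, u, hu, e⟩ := O.rank_one (P.le hv) hL hV hne
  refine ⟨m, ?_, hm.2, hmπ⟩
  rw [show m = b⁻¹ * v * u⁻¹ by rw [e]; group]
  exact mul_mem (mul_mem (inv_mem (P.X_le k hb)) hv) (inv_mem (P.X_le k hu))

/-- a chosen representative of the longest element of an orbit -/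
noncomputable def nk (k : ι) : GL D.Idx K := (P.exists_nk k).choose

theorem nk_mem (k : ι) : P.nk k ∈ Γ := (P.exists_nk k).choose_spec.1

theorem nk_monomial (k : ι) : P.nk k ∈ D.monomialSubgroup K := (P.exists_nk k).choose_spec.2.1

theorem nk_perm (k : ι) : C.G.NPerm (P.nk k) (O.wO k) := (P.exists_nk k).choose_spec.2.2

theorem exists_n {π : Equiv.Perm (Fin D.nroots)} (hπ : π ∈ Wp C.G T.p) :
    ∃ n ∈ Subgroup.closure (Set.range P.nk), C.G.NPerm n π := by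
  refine O.induction_on (P := fun π => ∃ n ∈ Subgroup.closure (Set.range P.nk), C.G.NPerm n π) hπ
    ⟨1, one_mem _, Good.NPerm.one C.G⟩ ?_
  rintro π' - k - - ⟨n, hn, hnπ⟩
  exact ⟨n * P.nk k, mul_mem hn (Subgroup.subset_closure ⟨k, rfl⟩),
    Good.NPerm.mul C.G hnπ (P.nk_perm k)⟩

theorem closure_nk_le : Subgroup.closure (Set.range P.nk) ≤ Γ ⊓ D.monomialSubgroup K := by
  rw [Subgroup.closure_le]
  rintro x ⟨k, rfl⟩
  exact ⟨P.nk_mem k, P.nk_monomial k⟩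

theorem conj_mem_neg {π : Equiv.Perm (Fin D.nroots)} (hπ : π ∈ Wp C.G T.p) {k : ι}
    (hk : ∀ j ∈ O.J k, D.IsPosRoot (π (C.G.simp' j)).val) :
    (Uinv C.G π : Subgroup (GL D.Idx K)) ≤ Ukeep C.G (O.wO k) := by
  rw [Uinv, Subgroup.closure_le]
  rintro g ⟨r, t, ⟨hr, hneg⟩, rfl⟩
  refine Subgroup.subset_closure ⟨r, t, ⟨hr, (O.wO_pos_iff hr).2 fun hin => ?_⟩, rfl⟩
  obtain ⟨l, rfl⟩ := C.G.exists_pw (mem_Wp.1 hπ).1
  exact hneg (C.G.keep_posJ hk hin hr)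

/-- the fixed inversion group of `π' wO` factors -/
theorem step_bij {π' : Equiv.Perm (Fin D.nroots)} (hπ' : π' ∈ Wp C.G T.p) {k : ι}
    (hk : ∀ j ∈ O.J k, D.IsPosRoot (π' (C.G.simp' j)).val)
    {n : GL D.Idx K} (hn : n ∈ Γ) (hnπ : C.G.NPerm n π') :
    (∀ g ∈ T.Fix ⊓ Uinv C.G (π' * O.wO k), ∃ x ∈ T.Fix ⊓ Uinv C.G π',
      ∃ b ∈ T.Fix ⊓ Uinv C.G (O.wO k), g = (P.nk k)⁻¹ * x * P.nk k * b) ∧
    (∀ x ∈ T.Fix ⊓ Uinv C.G π', ∀ b ∈ T.Fix ⊓ Uinv C.G (O.wO k),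
      (P.nk k)⁻¹ * x * P.nk k * b ∈ T.Fix ⊓ Uinv C.G (π' * O.wO k)) ∧
    (∀ x ∈ T.Fix ⊓ Uinv C.G π', ∀ b ∈ T.Fix ⊓ Uinv C.G (O.wO k),
      ∀ x' ∈ T.Fix ⊓ Uinv C.G π', ∀ b' ∈ T.Fix ⊓ Uinv C.G (O.wO k),
      (P.nk k)⁻¹ * x * P.nk k * b = (P.nk k)⁻¹ * x' * P.nk k * b' → x = x' ∧ b = b') := by
  have hw := P.nk_perm k
  have hwF := P.le (P.nk_mem k)
  have hinv : C.G.NPerm (P.nk k)⁻¹ (O.wO k) := by
    have := Good.NPerm.inv C.G hw
    rwa [O.wO_inv] at this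
  have hprod : C.G.NPerm (n * P.nk k) (π' * O.wO k) := Good.NPerm.mul C.G hnπ hw
  have hU : ∀ x ∈ (Uinv C.G π' : Subgroup (GL D.Idx K)),
      (P.nk k)⁻¹ * x * P.nk k ∈ D.posUnipotent K := by
    intro x hx
    have := C.G.conj_Ukeep hinv x (P.conj_mem_neg hπ' hk hx)
    simpa using this
  have hkeep : ∀ x ∈ (Uinv C.G π' : Subgroup (GL D.Idx K)),
      (P.nk k)⁻¹ * x * P.nk k ∈ (Ukeep C.G (O.wO k) : Subgroup (GL D.Idx K)) := fun x hx =>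
    C.mem_Ukeep_of_conj hw (hU x hx) (by
      rw [show P.nk k * ((P.nk k)⁻¹ * x * P.nk k) * (P.nk k)⁻¹ = x by group]
      exact C.G.Uinv_le _ hx)
  have hsub : (Uinv C.G (O.wO k) : Subgroup (GL D.Idx K)) ≤ Uinv C.G (π' * O.wO k) := by
    rw [Uinv, Subgroup.closure_le]
    rintro g ⟨r, t, ⟨hr, hneg⟩, rfl⟩
    refine Subgroup.subset_closure ⟨r, t, ⟨hr, ?_⟩, rfl⟩
    obtain ⟨l, rfl⟩ := C.G.exists_pw (mem_Wp.1 hπ').1
    have hin : InJ C.G (O.J k) r := not_not.1 fun h => hneg ((O.wO_pos_iff hr).2 h)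
    rw [Equiv.Perm.mul_apply, Orbits.wO, C.G.keep_signJ hk ((C.G.inJ_pw (O.wl_mem k)).2 hin)]
    exact hneg
  refine ⟨fun g hg => ?_, fun x hx b hb => Subgroup.mem_inf.2 ⟨mul_mem (mul_mem (mul_mem (inv_mem hwF) hx.1) hwF) hb.1, ?_⟩,
    fun x hx b hb x' hx' b' hb' e => ?_⟩
  · obtain ⟨hgF, hgU⟩ := hg
    obtain ⟨a, ha, b, hb, rfl⟩ := C.exists_keep_mul_inv (O.wO k) (C.G.Uinv_le _ hgU)
    obtain ⟨haF, hbF⟩ := T.fix_split (O.wO_mem k) ha hb hgF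
    have haU : a ∈ (Uinv C.G (π' * O.wO k) : Subgroup (GL D.Idx K)) := by
      simpa using Subgroup.mul_mem _ hgU (Subgroup.inv_mem _ (hsub hb))
    refine ⟨P.nk k * a * (P.nk k)⁻¹, Subgroup.mem_inf.2 ⟨mul_mem (mul_mem hwF haF) (inv_mem hwF), ?_⟩, b, ⟨hbF, hb⟩,
      by group⟩
    refine C.mem_Uinv_of_conj hnπ (C.G.conj_Ukeep hw a ha) ?_
    rw [show n * (P.nk k * a * (P.nk k)⁻¹) * n⁻¹ = n * P.nk k * a * (n * P.nk k)⁻¹ by group]
    exact C.G.conj_Uinv hprod a haU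
  · refine mul_mem (C.mem_Uinv_of_conj hprod (hU x hx.2) ?_) (hsub hb.2)
    rw [show n * P.nk k * ((P.nk k)⁻¹ * x * P.nk k) * (n * P.nk k)⁻¹ = n * x * n⁻¹ by group]
    exact C.G.conj_Uinv hnπ x hx.2
  · have h1 : ((P.nk k)⁻¹ * x' * P.nk k)⁻¹ * ((P.nk k)⁻¹ * x * P.nk k) = b' * b⁻¹ := by
      rw [eq_mul_inv_iff_mul_eq, mul_assoc, e, inv_mul_cancel_left]
    have h2 : b' * b⁻¹ = 1 := Subgroup.mem_bot.1 (C.G.Ukeep_inf_Uinv hw ▸ Subgroup.mem_inf.2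
      ⟨h1 ▸ mul_mem (inv_mem (hkeep _ hx'.2)) (hkeep _ hx.2), mul_mem hb'.2 (inv_mem hb.2)⟩)
    rw [mul_inv_eq_one] at h2
    subst h2
    exact ⟨mul_left_cancel (mul_right_cancel (mul_right_cancel e)), rfl⟩

theorem X_mem {π : Equiv.Perm (Fin D.nroots)} (hπ : π ∈ Wp C.G T.p) :
    T.Fix ⊓ Uinv C.G π ≤ Γ := by
  refine O.induction_on (P := fun π => T.Fix ⊓ Uinv C.G π ≤ Γ) hπ ?_ ?_
  · rintro g ⟨-, hg⟩
    have : g = 1 := by
      have h := C.G.conj_Uinv (Good.NPerm.one C.G) g hg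
      simp only [one_mul, inv_one, mul_one] at h
      exact Subgroup.mem_bot.1 (C.G.U_inf_V_eq (K := K) ▸
        Subgroup.mem_inf.2 ⟨C.G.Uinv_le _ hg, h⟩)
    exact this ▸ one_mem _
  · intro π' hπ' k hk _ ih g hg
    obtain ⟨n, hn, hnπ⟩ := P.exists_n hπ'
    obtain ⟨x, hx, b, hb, rfl⟩ := (P.step_bij hπ' hk ((P.closure_nk_le hn).1) hnπ).1 g hg
    exact mul_mem (mul_mem (mul_mem (inv_mem (P.nk_mem k)) (ih hx)) (P.nk_mem k)) (P.X_le k hb)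

theorem card_X [Finite K] {Q e : ℕ}
    (hQ : ∀ k, Nat.card ↥(T.Fix ⊓ Uinv C.G (O.wO k)) ^ e = Q ^ ninv C.G (O.wO k))
    {π : Equiv.Perm (Fin D.nroots)} (hπ : π ∈ Wp C.G T.p) :
    Nat.card ↥(T.Fix ⊓ Uinv C.G π) ^ e = Q ^ ninv C.G π := by
  refine O.induction_on
    (P := fun π => Nat.card ↥(T.Fix ⊓ Uinv C.G π) ^ e = Q ^ ninv C.G π) hπ ?_ ?_
  · have h0 : ninv C.G (1 : Equiv.Perm (Fin D.nroots)) = 0 := by simp [ninv]
    have hb : T.Fix ⊓ Uinv C.G 1 = ⊥ := by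
      rw [eq_bot_iff]
      rintro g ⟨-, hg⟩
      have h := C.G.conj_Uinv (Good.NPerm.one C.G) g hg
      simp only [one_mul, inv_one, mul_one] at h
      exact C.G.U_inf_V_eq (K := K) ▸ Subgroup.mem_inf.2 ⟨C.G.Uinv_le _ hg, h⟩
    rw [hb, h0, Subgroup.card_bot, one_pow, pow_zero]
  · intro π' hπ' k hk hadd ih
    obtain ⟨n, hn, hnπ⟩ := P.exists_n hπ'
    obtain ⟨h1, h2, h3⟩ := P.step_bij hπ' hk ((P.closure_nk_le hn).1) hnπ
    have hb : Function.Bijective (fun x : ↥(T.Fix ⊓ Uinv C.G π') × ↥(T.Fix ⊓ Uinv C.G (O.wO k)) =>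
        (⟨(P.nk k)⁻¹ * x.1.1 * P.nk k * x.2.1, h2 _ x.1.2 _ x.2.2⟩ : ↥(T.Fix ⊓ Uinv C.G (π' * O.wO k)))) := by
      refine ⟨fun x y h => ?_, fun g => ?_⟩
      · obtain ⟨e1, e2⟩ := h3 _ x.1.2 _ x.2.2 _ y.1.2 _ y.2.2 (congrArg Subtype.val h)
        exact Prod.ext (Subtype.ext e1) (Subtype.ext e2)
      · obtain ⟨x, hx, b, hb, e⟩ := h1 g g.2
        exact ⟨(⟨x, hx⟩, ⟨b, hb⟩), Subtype.ext e.symm⟩
    rw [← Nat.card_eq_of_bijective _ hb, Nat.card_prod, mul_pow, ih, hQ, hadd, pow_add]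

theorem U_le : T.Fix ⊓ D.posUnipotent K ≤ Γ := by
  obtain ⟨π, hπ, hneg⟩ := T.exists_longest_Wp
  rintro g ⟨hgF, hgU⟩
  refine P.X_mem hπ ⟨hgF, ?_⟩
  rw [SetLike.mem_coe, C.G.posUnipotent_eq_closure] at hgU
  refine Subgroup.closure_mono ?_ hgU
  rintro x ⟨r, t, hr, hx⟩
  exact ⟨r, t, ⟨hr, hneg r hr⟩, hx⟩

theorem card_U [Finite K] {Q e : ℕ}
    (hQ : ∀ k, Nat.card ↥(T.Fix ⊓ Uinv C.G (O.wO k)) ^ e = Q ^ ninv C.G (O.wO k)) :
    Nat.card ↥(T.Fix ⊓ D.posUnipotent K) ^ e = Q ^ (D.nroots / 2) := by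
  obtain ⟨π, hπ, hneg⟩ := T.exists_longest_Wp
  have h1 : (Uinv C.G π : Subgroup (GL D.Idx K)) = D.posUnipotent K := by
    refine le_antisymm (C.G.Uinv_le π) ?_
    rw [C.G.posUnipotent_eq_closure]
    refine Subgroup.closure_mono ?_
    rintro x ⟨r, t, hr, hx⟩
    exact ⟨r, t, ⟨hr, hneg r hr⟩, hx⟩
  have h2 : ninv C.G π = D.nroots / 2 := by
    classical
    rw [ninv, ← C.nPos_eq, Fintype.card_subtype]
    congr 1
    ext r
    simp only [Finset.mem_filter, Finset.mem_univ, true_and]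
    exact ⟨And.left, fun h => ⟨h, hneg r h⟩⟩
  rw [← h1, ← h2]
  exact P.card_X hQ hπ

/-- conjugation by the torus and the squares of the torus of an orbit -/
theorem sq_mem {k : ι} (hm : ∀ j ∈ O.J k, C.G.pw (O.wl k) (C.G.simp' j) = C.G.negr (C.G.simp' j))
    {x : GL D.Idx K} (hx : x ∈ T.Fix ⊓ Uinv C.G (O.wO k)) (hx1 : x ≠ 1)
    {c : Fin D.rank → Kˣ} (hc : ∀ i, i ∉ O.J k → c i = 1) (hF : C.G.torθ c ∈ T.Fix) :
    C.G.torθ c ^ 2 ∈ Γ := by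
  set h := C.G.torθ c with hh
  have hH : h ∈ D.diagonalSubgroup K := (C.G.diagonal_eq_range (K := K)).symm ▸ ⟨c, rfl⟩
  set n := P.nk k
  have hnΓ : n ∈ Γ := P.nk_mem k
  have hnF := P.le hnΓ
  set v := n * x * n⁻¹ with hv
  have hnL : ∀ {d : GL D.Idx K}, d ∈ (LJ C.G (O.J k) : Subgroup (GL D.Idx K)) →
      n * d * n⁻¹ ∈ (LJ C.G (O.J k) : Subgroup (GL D.Idx K)) := by
    intro d hd
    induction hd using Subgroup.closure_induction with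
    | one => simp
    | mul a b _ _ ha hb =>
      rw [show n * (a * b) * n⁻¹ = (n * a * n⁻¹) * (n * b * n⁻¹) by group]; exact mul_mem ha hb
    | inv a _ ha => rw [show n * a⁻¹ * n⁻¹ = (n * a * n⁻¹)⁻¹ by group]; exact inv_mem ha
    | mem y hy =>
      obtain ⟨r, t, hr, rfl⟩ := hy
      obtain ⟨a, ha⟩ := P.nk_perm k r
      rw [ha]
      exact Subgroup.subset_closure ⟨_, _, (C.G.inJ_pw (O.wl_mem k)).2 hr, rfl⟩
  have hvΓ : v ∈ Γ := mul_mem (mul_mem hnΓ (P.X_le k hx)) (inv_mem hnΓ)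
  have hvV : v ∈ D.negUnipotent K := C.G.conj_Uinv (P.nk_perm k) x hx.2
  have hv1 : v ≠ 1 := fun e => hx1 (by rwa [hv, conj_eq_one_iff] at e)
  obtain ⟨b, hb, m, hm', hmπ, u, hu, e⟩ :=
    O.rank_one (P.le hvΓ) (hnL (O.Uinv_le_LJ k hx.2)) hvV hv1
  have hmΓ : m ∈ Γ := by
    rw [show m = b⁻¹ * v * u⁻¹ by rw [e]; group]
    exact mul_mem (mul_mem (inv_mem (P.X_le k hb)) hvΓ) (inv_mem (P.X_le k hu))
  have hconjX : ∀ {d z : GL D.Idx K}, d ∈ T.Fix → d ∈ D.diagonalSubgroup K →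
      z ∈ T.Fix ⊓ Uinv C.G (O.wO k) → d * z * d⁻¹ ∈ T.Fix ⊓ Uinv C.G (O.wO k) :=
    fun hdF hd hz => Subgroup.mem_inf.2 ⟨mul_mem (mul_mem hdF hz.1) (inv_mem hdF), C.G.Uinv_congr_H hd _ hz.2⟩
  have hhv : h * v * h⁻¹ ∈ Γ := by
    have hd : n⁻¹ * h * n ∈ D.diagonalSubgroup K :=
      (Subgroup.mem_normalizer_iff''.1 (C.G.monomial_le_normalizer (P.nk_monomial k)) h).1 hH
    rw [show h * v * h⁻¹ = n * ((n⁻¹ * h * n) * x * (n⁻¹ * h * n)⁻¹) * n⁻¹ by rw [hv]; group]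
    exact mul_mem (mul_mem hnΓ (P.X_le k (hconjX (mul_mem (mul_mem (inv_mem hnF) hF) hnF) hd hx)))
      (inv_mem hnΓ)
  have hhm : h * m * h⁻¹ ∈ Γ := by
    rw [show h * m * h⁻¹ = (h * b * h⁻¹)⁻¹ * (h * v * h⁻¹) * (h * u * h⁻¹)⁻¹ by rw [e]; group]
    exact mul_mem (mul_mem (inv_mem (P.X_le k (hconjX hF hH hb))) hhv)
      (inv_mem (P.X_le k (hconjX hF hH hu)))
  have hmh : m * h * m⁻¹ = h⁻¹ := by
    have hd0 : m * (C.G.nw (K := K) (O.wl k))⁻¹ ∈ D.diagonalSubgroup K := by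
      refine C.G.mem_H_of_nPerm_one (mul_mem hm'.2 (inv_mem (C.G.nw_mem_monomial _))) ?_
      have := Good.NPerm.mul C.G hmπ (Good.NPerm.inv C.G (C.G.nPerm_nw (K := K) (O.wl k)))
      rwa [show O.wO k * (C.G.pw (O.wl k))⁻¹ = 1 from mul_inv_cancel _] at this
    set w := C.G.nw (K := K) (O.wl k)
    set d0 := m * w⁻¹
    have hwH : w * h * w⁻¹ = h⁻¹ := by
      have key : ∀ l : List (Fin D.rank),
          w * (l.map fun i => C.G.hd (C.G.simp' i) (c i)).prod * w⁻¹ =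
            (l.map fun i => (C.G.hd (C.G.simp' i) (c i))⁻¹).prod := by
        intro l
        induction l with
        | nil => simp
        | cons i l ih =>
          rw [List.map_cons, List.map_cons, List.prod_cons, List.prod_cons, ← ih]
          have hi : w * C.G.hd (C.G.simp' i) (c i) * w⁻¹ = (C.G.hd (C.G.simp' i) (c i))⁻¹ := by
            by_cases hij : i ∈ O.J k
            · rw [C.G.nw_hd, hm i hij, C.G.hd_negr_simp]
            · rw [hc i hij, map_one, inv_one, mul_one, mul_inv_cancel]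
          rw [← hi]; group
      rw [hh, C.G.torθ_eq_prod, key]
      have e1 : (fun i => (C.G.hd (C.G.simp' i) (c i))⁻¹) =
          fun i => C.G.hd (C.G.simp' i) ((c⁻¹ : Fin D.rank → Kˣ) i) := by
        funext i; simp
      rw [e1, ← C.G.torθ_eq_prod, map_inv, C.G.torθ_eq_prod]
    rw [show m * h * m⁻¹ = d0 * (w * h * w⁻¹) * d0⁻¹ by simp only [d0]; group, hwH,
      C.G.diagonal_comm hd0 (inv_mem hH), mul_inv_cancel_right]
  rw [show h ^ 2 = h * m * h⁻¹ * m⁻¹ by rw [mul_assoc _ h⁻¹, mul_assoc,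
    show m * (h⁻¹ * m⁻¹) = (m * h * m⁻¹)⁻¹ by group, hmh, inv_inv, pow_two]]
  exact mul_mem hhm (inv_mem hmΓ)

end Pre

namespace TwGp

variable {O : Orbits C.G T.p ι} {Γ : Subgroup (GL D.Idx K)} (P : TwGp O Γ)

include P

theorem N_decomp {m : GL D.Idx K} (hm : m ∈ T.Fix ⊓ D.monomialSubgroup K) :
    ∃ d ∈ T.Fix ⊓ D.diagonalSubgroup K, ∃ n ∈ Subgroup.closure (Set.range P.toPre.nk), m = d * n := by
  obtain ⟨l, hl⟩ := C.G.exists_nPerm hm.2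
  obtain ⟨n, hn, hnπ⟩ := P.toPre.exists_n (T.mem_Wp_of_fix hm.1 hm.2 hl)
  obtain ⟨hnΓ, hnN⟩ := P.toPre.closure_nk_le hn
  refine ⟨m * n⁻¹, Subgroup.mem_inf.2 ⟨mul_mem hm.1 (inv_mem (P.le hnΓ)),
    C.G.mem_H_of_nPerm_one (mul_mem hm.2 (inv_mem hnN)) ?_⟩, n, hn, by group⟩
  have := Good.NPerm.mul C.G hl (Good.NPerm.inv C.G hnπ)
  rwa [mul_inv_cancel] at this

theorem N_le : T.Fix ⊓ D.monomialSubgroup K ≤ Γ := fun m hm => by
  obtain ⟨d, hd, n, hn, rfl⟩ := P.N_decomp hm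
  exact mul_mem (P.H_le hd) (P.toPre.closure_nk_le hn).1

theorem eq_Fix : Γ = T.Fix := by
  refine le_antisymm P.le fun g hg => ?_
  obtain ⟨v, m, u, π, hv, hm, hπ, -, hu, rfl⟩ := T.fix_bruhat hg
  exact mul_mem (mul_mem (P.toPre.U_le hv) (P.N_le hm)) (P.toPre.X_mem hπ hu)

end TwGp

end CfsgLib.Lie.Chev
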