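import Cfsg.Agent.Lib.Lie.Chev.Tw.Emb
import Cfsg.Agent.Lib.Lie.Chev.FieldMap

/-!
# The homomorphism given by an intertwiner
-/

set_option autoImplicit false

namespace CfsgLib.Lie.Chev

open Cfsg.Lie
open scoped MatrixGroups

variable {D : ChevalleyDatum} {f : Fast} {E : EmbData} {G : Good D} {K : Type*} [Field K]

namespace Emb

variable (h : Emb G f E) (hm : (E.m : K) = 0)

include h hm

theorem src_zero {g : GL D.Idx K} (hg : g ∈ D.group K) :
    ∀ a b, E.inT (pos D a) = true → E.inT (pos D b) = false →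
      (g : Matrix D.Idx D.Idx K) a b = 0 := by
  rw [G.group_eq] at hg
  induction hg using Subgroup.closure_induction'' with
  | one =>
    intro a b ha hb
    exact Matrix.one_apply_ne fun e => by rw [e, hb] at ha; exact Bool.false_ne_true ha
  | mul x y _ _ hx hy =>
    intro a b ha hb
    rw [Units.val_mul, Matrix.mul_apply]
    refine Finset.sum_eq_zero fun c _ => ?_
    cases hc : E.inT (pos D c) with
    | false => rw [hx a c ha hc, zero_mul]
    | true => rw [hy c b hc hb, mul_zero]
  | mem x hx =>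
    obtain ⟨r, t, rfl⟩ := hx
    exact fun a b ha hb => h.xg_src_zero hm r t ha hb
  | inv_mem x hx =>
    obtain ⟨r, t, rfl⟩ := hx
    rw [G.xu_inv]
    exact fun a b ha hb => h.xg_src_zero hm r _ ha hb

theorem tgt_zero {g : GL D.Idx K} (hg : g ∈ D.group K) :
    ∀ a b, E.inS (pos D a) = false → E.inS (pos D b) = true →
      (g : Matrix D.Idx D.Idx K) a b = 0 := by
  rw [G.group_eq] at hg
  induction hg using Subgroup.closure_induction'' with
  | one =>
    intro a b ha hb
    exact Matrix.one_apply_ne fun e => by rw [e, hb] at ha; exact Bool.false_ne_true ha.symm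
  | mul x y _ _ hx hy =>
    intro a b ha hb
    rw [Units.val_mul, Matrix.mul_apply]
    refine Finset.sum_eq_zero fun c _ => ?_
    cases hc : E.inS (pos D c) with
    | false => rw [hy c b hc hb, mul_zero]
    | true => rw [hx a c ha hc, zero_mul]
  | mem x hx =>
    obtain ⟨r, t, rfl⟩ := hx
    exact fun a b ha hb => h.xg_tgt_zero hm r t ha hb
  | inv_mem x hx =>
    obtain ⟨r, t, rfl⟩ := hx
    rw [G.xu_inv]
    exact fun a b ha hb => h.xg_tgt_zero hm r _ ha hb

omit h hm in
theorem sg_mul_self (a : D.Idx) : (sg E a : K) * (sg E a : K) = 1 := by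
  rw [← Int.cast_mul, show sg E a = sgnB (E.neg.get (pos D a)) from rfl, sgnB_sq, Int.cast_one]

/-- the action on the source block -/
noncomputable def rsrc : ↥(D.group K) →* Matrix (TIdx D E) (TIdx D E) K where
  toFun g := Matrix.of fun a b =>
    (sg E a.1 : K) * (sg E b.1 : K) * ((g : GL D.Idx K) : Matrix D.Idx D.Idx K) a.1 b.1
  map_one' := by
    ext a b
    by_cases e : a = b
    · subst e; simp [sg_mul_self]
    · simp [Matrix.one_apply_ne e, Matrix.one_apply_ne (fun e' => e (Subtype.ext e') : a.1 ≠ b.1)]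
  map_mul' g g' := by
    ext a b
    simp only [Matrix.of_apply, Matrix.mul_apply, Subgroup.coe_mul, Units.val_mul, Finset.mul_sum]
    refine (Fintype.sum_of_injective (fun c : TIdx D E => c.1) (fun _ _ e => Subtype.ext e) _ _
      (fun c hc => ?_) (fun c => ?_)).symm
    · cases hc' : E.inT (pos D c) with
      | false => rw [h.src_zero hm g.2 a.1 c a.2 hc']; ring
      | true => exact absurd ⟨⟨c, hc'⟩, rfl⟩ hc
    · linear_combination (sg E a.1 : K) * (sg E b.1 : K) *
        ((g : GL D.Idx K) : Matrix D.Idx D.Idx K) a.1 c.1 *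
        ((g' : GL D.Idx K) : Matrix D.Idx D.Idx K) c.1 b.1 * sg_mul_self (K := K) (E := E) c.1

/-- the action on the target block -/
noncomputable def rtgt : ↥(D.group K) →* Matrix (TIdx D E) (TIdx D E) K where
  toFun g := Matrix.of fun a b => ((g : GL D.Idx K) : Matrix D.Idx D.Idx K) (h.σ a) (h.σ b)
  map_one' := by
    ext a b
    by_cases e : a = b
    · subst e; simp
    · simp [Matrix.one_apply_ne e, Matrix.one_apply_ne (fun e' => e (h.σ_injective e'))]
  map_mul' g g' := by
    ext a b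
    simp only [Matrix.of_apply, Matrix.mul_apply, Subgroup.coe_mul, Units.val_mul]
    refine (Fintype.sum_of_injective h.σ h.σ_injective _ _ (fun c hc => ?_) (fun c => rfl)).symm
    cases hc' : E.inS (pos D c) with
    | false => rw [h.tgt_zero hm g'.2 c (h.σ b) hc' (h.inS_σ b), mul_zero]
    | true => exact absurd (h.exists_σ hc') hc

theorem rtgt_xu (r : Fin D.nroots) (t : K) :
    h.rtgt hm ⟨G.xu (h.proot r) ((sgnB (E.eps.get r.val) : K) * t ^ E.lam.get r.val), G.xu_mem _ _⟩ =
      h.rsrc hm ⟨G.xu r t, G.xu_mem _ _⟩ := by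
  ext a b
  exact h.xg_block hm r t a b

/-- an intertwiner gives an endomorphism of the group when the target block is faithful -/
theorem exists_hom (hinj : Function.Injective (h.rtgt hm)) :
    ∃ φ : ↥(D.group K) →* ↥(D.group K),
      (∀ r t, φ ⟨G.xu r t, G.xu_mem _ _⟩ =
        ⟨G.xu (h.proot r) ((sgnB (E.eps.get r.val) : K) * t ^ E.lam.get r.val), G.xu_mem _ _⟩) ∧
      ∀ g, h.rtgt hm (φ g) = h.rsrc hm g := by
  have hmem : ∀ g, h.rsrc hm g ∈ MonoidHom.mrange (h.rtgt hm) := by
    intro g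
    let S : Subgroup ↥(D.group K) :=
      { (MonoidHom.mrange (h.rtgt hm)).comap (h.rsrc hm) with
        inv_mem' := fun {x} ⟨y, hy⟩ => ⟨y⁻¹, by
          have e : h.rtgt hm y * h.rsrc hm x⁻¹ = 1 := by rw [hy, ← map_mul, mul_inv_cancel, map_one]
          exact left_inv_eq_right_inv (by rw [← map_mul, inv_mul_cancel, map_one]) e⟩ }
    have : (g : GL D.Idx K) ∈ S.map (D.group K).subtype := by
      refine (show D.group K ≤ _ from le_of_eq_of_le G.group_eq ((Subgroup.closure_le _).2 ?_)) g.2
      rintro x ⟨r, t, rfl⟩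
      exact ⟨⟨_, G.xu_mem r t⟩, ⟨_, h.rtgt_xu hm r t⟩, rfl⟩
    obtain ⟨y, hy, e⟩ := this
    exact (Subtype.ext e : y = g) ▸ hy
  choose φ hφ using hmem
  refine ⟨⟨⟨φ, hinj (by rw [hφ, map_one, map_one])⟩, fun a b =>
    hinj (by rw [map_mul, hφ, hφ, hφ, map_mul])⟩, fun r t => hinj ?_, hφ⟩
  show h.rtgt hm (φ _) = _
  rw [hφ, h.rtgt_xu hm]

/-- an intertwiner between faithful blocks gives an automorphism of the group -/
theorem exists_aut (hinjT : Function.Injective (h.rsrc hm)) (hinjS : Function.Injective (h.rtgt hm))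
    (hp : Function.Surjective h.proot)
    (hpow : ∀ r : Fin D.nroots, ∀ y : K, ∃ x : K, x ^ E.lam.get r.val = y) :
    ∃ φ : ↥(D.group K) ≃* ↥(D.group K),
      ∀ r t, φ ⟨G.xu r t, G.xu_mem _ _⟩ =
        ⟨G.xu (h.proot r) ((sgnB (E.eps.get r.val) : K) * t ^ E.lam.get r.val), G.xu_mem _ _⟩ := by
  obtain ⟨φ, hφ, hφ'⟩ := h.exists_hom hm hinjS
  refine ⟨MulEquiv.ofBijective φ ⟨fun x y e => hinjT (by rw [← hφ', ← hφ', e]), fun y => ?_⟩, hφ⟩
  have : (y : GL D.Idx K) ∈ φ.range.map (D.group K).subtype := by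
    refine (show D.group K ≤ _ from le_of_eq_of_le G.group_eq ((Subgroup.closure_le _).2 ?_)) y.2
    rintro x ⟨s, u, rfl⟩
    obtain ⟨r, rfl⟩ := hp s
    obtain ⟨t, ht⟩ := hpow r ((sgnB (E.eps.get r.val) : K) * u)
    refine ⟨⟨_, G.xu_mem (h.proot r) u⟩, ⟨⟨G.xu r t, G.xu_mem _ _⟩, ?_⟩, rfl⟩
    rw [hφ, ht]
    simp only [← mul_assoc, ← Int.cast_mul, sgnB_sq, Int.cast_one, one_mul]
  obtain ⟨z, ⟨x, hx⟩, e⟩ := this
  exact ⟨x, by rw [← (Subtype.ext e : z = y)]; exact hx⟩

/-- the source block is faithful on a simple group as soon as one root element acts on it -/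
theorem rsrc_injective_of_simple [IsSimpleGroup ↥(D.group K)] {r : Fin D.nroots} {a b : TIdx D E}
    (hab : a ≠ b) (hne : xg K r (1 : K) a.1 b.1 ≠ 0) : Function.Injective (h.rsrc hm) := by
  have hN : (h.rsrc hm).ker = ⊥ := by
    refine ((h.rsrc hm).normal_ker.eq_bot_or_eq_top).resolve_right fun e => hne ?_
    have h1 : h.rsrc hm ⟨G.xu r 1, G.xu_mem _ _⟩ = 1 :=
      MonoidHom.mem_ker.1 (e ▸ Subgroup.mem_top _)
    have h2 := congrFun (congrFun h1 a) b
    rw [Matrix.one_apply_ne hab] at h2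
    simp only [rsrc, MonoidHom.coe_mk, OneHom.coe_mk, Matrix.of_apply] at h2
    have h0 : ∀ c : D.Idx, (sg E c : K) ≠ 0 := fun c e' => by
      have h4 := sg_mul_self (K := K) (E := E) c
      rw [e', mul_zero] at h4
      exact zero_ne_one h4
    exact (mul_eq_zero.1 h2).resolve_left (mul_ne_zero (h0 _) (h0 _))
  exact (MonoidHom.ker_eq_bot_iff _).1 hN

/-- the target block is faithful on a simple group as soon as one root element acts on it -/
theorem rtgt_injective_of_simple [IsSimpleGroup ↥(D.group K)] {r : Fin D.nroots} {a b : TIdx D E}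
    (hab : a ≠ b) (hne : xg K r (1 : K) (h.σ a) (h.σ b) ≠ 0) : Function.Injective (h.rtgt hm) := by
  have hN : (h.rtgt hm).ker = ⊥ := by
    refine ((h.rtgt hm).normal_ker.eq_bot_or_eq_top).resolve_right fun e => hne ?_
    have h1 : h.rtgt hm ⟨G.xu r 1, G.xu_mem _ _⟩ = 1 :=
      MonoidHom.mem_ker.1 (e ▸ Subgroup.mem_top _)
    have h2 := congrFun (congrFun h1 a) b
    rw [Matrix.one_apply_ne hab] at h2
    exact h2
  exact (MonoidHom.ker_eq_bot_iff _).1 hN

/-- faithfulness descends to subfields -/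
theorem rsrc_injective_of_map {L : Type*} [Field L] (ι : K →+* L) (hm' : (E.m : L) = 0)
    (hi : Function.Injective (h.rsrc hm')) : Function.Injective (h.rsrc hm) := fun x y e => by
  refine Subtype.ext (fmap_injective ι ?_)
  have := @hi ⟨_, G.fmap_mem_group ι x.2⟩ ⟨_, G.fmap_mem_group ι y.2⟩ ?_
  · exact congrArg Subtype.val this
  · ext a b
    have e' := congrArg ι (congrFun (congrFun e a) b)
    simpa [rsrc, coe_fmap] using e'

/-- faithfulness descends to subfields -/
theorem rtgt_injective_of_map {L : Type*} [Field L] (ι : K →+* L) (hm' : (E.m : L) = 0)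
    (hi : Function.Injective (h.rtgt hm')) : Function.Injective (h.rtgt hm) := fun x y e => by
  refine Subtype.ext (fmap_injective ι ?_)
  have := @hi ⟨_, G.fmap_mem_group ι x.2⟩ ⟨_, G.fmap_mem_group ι y.2⟩ ?_
  · exact congrArg Subtype.val this
  · ext a b
    exact congrArg ι (congrFun (congrFun e a) b)

/-- a block containing every coordinate is faithful -/
theorem rsrc_injective_of_all (hT : ∀ a : D.Idx, E.inT (pos D a) = true) :
    Function.Injective (h.rsrc hm) := fun x y e => by
  refine Subtype.ext (Units.ext (Matrix.ext fun a b => ?_))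
  have e' := congrFun (congrFun e ⟨a, hT a⟩) ⟨b, hT b⟩
  change (sg E a : K) * (sg E b : K) * ((x : GL D.Idx K) : Matrix D.Idx D.Idx K) a b =
    (sg E a : K) * (sg E b : K) * ((y : GL D.Idx K) : Matrix D.Idx D.Idx K) a b at e'
  calc ((x : GL D.Idx K) : Matrix D.Idx D.Idx K) a b
      = (sg E a : K) * (sg E a : K) * ((sg E b : K) * (sg E b : K)) * _ := by
        rw [sg_mul_self, sg_mul_self, one_mul, one_mul]
    _ = (sg E a : K) * (sg E b : K) * ((sg E a : K) * (sg E b : K) *
          ((x : GL D.Idx K) : Matrix D.Idx D.Idx K) a b) := by ring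
    _ = (sg E a : K) * (sg E b : K) * ((sg E a : K) * (sg E b : K) *
          ((y : GL D.Idx K) : Matrix D.Idx D.Idx K) a b) := by rw [e']
    _ = (sg E a : K) * (sg E a : K) * ((sg E b : K) * (sg E b : K)) *
          ((y : GL D.Idx K) : Matrix D.Idx D.Idx K) a b := by ring
    _ = _ := by rw [sg_mul_self, sg_mul_self, one_mul, one_mul]

/-- a block containing every coordinate is faithful -/
theorem rtgt_injective_of_all (hS : ∀ a : D.Idx, E.inS (pos D a) = true) :
    Function.Injective (h.rtgt hm) := fun x y e => by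
  refine Subtype.ext (Units.ext (Matrix.ext fun a b => ?_))
  obtain ⟨a', rfl⟩ := h.exists_σ (hS a)
  obtain ⟨b', rfl⟩ := h.exists_σ (hS b)
  exact congrFun (congrFun e a') b'

end Emb

end CfsgLib.Lie.Chev
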