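import Cfsg.Agent.Lib.Lie.Chev.Tw.InvolE6Tools
import Cfsg.Agent.Lib.Lie.Chev.Tw.E6Gp

/-!
# The three classes of involutions of ²E₆(q), q even
-/

set_option autoImplicit false
set_option maxRecDepth 100000
set_option maxHeartbeats 1000000
set_option linter.unusedSectionVars false
set_option linter.style.haveILetI false

namespace CfsgLib.Lie.Chev.TE6Invol

open Cfsg.Lie CfsgLib.Lie.Laced
open scoped MatrixGroups

variable {K : Type*} [Field K] [CharP K 2] {θ : K ≃+* K}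

theorem trace_move (h2 : ∀ t : K, θ (θ t) = t) {β : K} (hβ : β + θ β = 1) {v m s : Fin chevE6.nroots}
    (hv : (TE6.twist θ).p v ≠ v) (hvm : ip chevE6 v m = -1)
    (e1 : TE6.C.G.rho s = TE6.C.G.rho v + TE6.C.G.rho m)
    (e2 : TE6.C.G.rho s = TE6.C.G.rho ((TE6.twist θ).p v) + TE6.C.G.rho ((TE6.twist θ).p m))
    (h1 : (ip chevE6 v ((TE6.twist θ).p m) = 0 ∨ ip chevE6 v ((TE6.twist θ).p m) = 1) ∧
      (TE6.twist θ).p m ≠ TE6.C.G.negr v)
    (h3 : (ip chevE6 ((TE6.twist θ).p v) m = 0 ∨ ip chevE6 ((TE6.twist θ).p v) m = 1) ∧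
      m ≠ TE6.C.G.negr ((TE6.twist θ).p v))
    (h4 : (ip chevE6 v s = 0 ∨ ip chevE6 v s = 1) ∧ s ≠ TE6.C.G.negr v)
    (h5 : (ip chevE6 s ((TE6.twist θ).p m) = 0 ∨ ip chevE6 s ((TE6.twist θ).p m) = 1) ∧
      (TE6.twist θ).p m ≠ TE6.C.G.negr s)
    (hpos : chevE6.IsPosRoot v.val)
    (R : List (Fin chevE6.nroots))
    (hR : ∀ x ∈ R, ((ip chevE6 v x = 0 ∨ ip chevE6 v x = 1) ∧ x ≠ TE6.C.G.negr v) ∧
      ((ip chevE6 ((TE6.twist θ).p v) x = 0 ∨ ip chevE6 ((TE6.twist θ).p v) x = 1) ∧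
        x ≠ TE6.C.G.negr ((TE6.twist θ).p v))) :
    CjF θ (xprod TE6.C (K := K) (m :: (TE6.twist θ).p m :: R))
      (xprod TE6.C (m :: (TE6.twist θ).p m :: s :: R)) := by
  have H := twLaced θ h2
  set pv := (TE6.twist θ).p v
  set pm := (TE6.twist θ).p m
  set u := H.orbEl v β with hu
  have huu : u * u = 1 := H.orbEl_sq hpos β
  refine ⟨u, H.orbEl_fix hpos (fun e => absurd e hv), ?_⟩
  rw [inv_eq_of_mul_eq_one_right huu]
  have hor : u = TE6.C.G.xu v β * TE6.C.G.xu pv (θ β) := if_neg hv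
  have hfl : ∀ {r : Fin chevE6.nroots} (t : K) (L : List (Fin chevE6.nroots)),
      (∀ x ∈ L, (ip chevE6 r x = 0 ∨ ip chevE6 r x = 1) ∧ x ≠ TE6.C.G.negr r) →
      TE6.C.G.xu r t * xprod TE6.C (K := K) L * TE6.C.G.xu r t = xprod TE6.C L := by
    intro r t L
    induction L with
    | nil => intro _; simp [xprod, xu_sq]
    | cons a L ih =>
      intro hL
      simp only [xprod, List.map_cons, List.prod_cons] at ih ⊢
      rw [TwLaced.conj_mul_two (xu_sq TE6.C r t), conj_of_zero lacedC (hL a List.mem_cons_self).1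
        (hL a List.mem_cons_self).2, ih fun x hx => hL x (List.mem_cons_of_mem _ hx)]
  have hc : TE6.C.G.xu pv (θ β) * TE6.C.G.xu v β = TE6.C.G.xu v β * TE6.C.G.xu pv (θ β) := H.orb_commute hpos _ _
  have c1 : TE6.C.G.xu pv (θ β) * TE6.C.G.xu m 1 * TE6.C.G.xu pv (θ β) = TE6.C.G.xu m 1 :=
    conj_of_zero lacedC h3.1 h3.2 _ _
  have c2 : TE6.C.G.xu pv (θ β) * TE6.C.G.xu pm 1 * TE6.C.G.xu pv (θ β) = TE6.C.G.xu pm 1 * TE6.C.G.xu s (θ β) := by
    rw [conj_of_sum lacedC (z := s) e2, mul_one]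
  have c3 : TE6.C.G.xu v β * TE6.C.G.xu m 1 * TE6.C.G.xu v β = TE6.C.G.xu m 1 * TE6.C.G.xu s β := by
    rw [conj_of_sum lacedC (z := s) e1, mul_one]
  have c4 : TE6.C.G.xu v β * TE6.C.G.xu pm 1 * TE6.C.G.xu v β = TE6.C.G.xu pm 1 :=
    conj_of_zero lacedC h1.1 h1.2 _ _
  have c5 : TE6.C.G.xu v β * TE6.C.G.xu s (θ β) * TE6.C.G.xu v β = TE6.C.G.xu s (θ β) :=
    conj_of_zero lacedC h4.1 h4.2 _ _
  have c6 : TE6.C.G.xu pm 1 * TE6.C.G.xu s β = TE6.C.G.xu s β * TE6.C.G.xu pm 1 :=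
    xu_commute lacedC h5.1 h5.2 β 1
  have r1 := hfl (r := pv) (θ β) R fun x hx => (hR x hx).2
  have r2 := hfl (r := v) β R fun x hx => (hR x hx).1
  simp only [xprod, List.map_cons, List.prod_cons] at r1 r2 ⊢
  rw [hor, TwLaced.sandwich_two hc, TwLaced.conj_mul_two (xu_sq TE6.C pv _), c1,
    TwLaced.conj_mul_two (xu_sq TE6.C pv _), c2, r1,
    TwLaced.conj_mul_two (xu_sq TE6.C v _), c3, TwLaced.conj_mul_two (xu_sq TE6.C v _),
    TwLaced.conj_mul_two (xu_sq TE6.C v _), c4, c5, r2]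
  simp only [← mul_assoc]
  rw [mul_assoc _ (TE6.C.G.xu s β) (TE6.C.G.xu pm 1), ← c6, ← mul_assoc,
    mul_assoc _ (TE6.C.G.xu s β) (TE6.C.G.xu s (θ β)), ← TE6.C.G.xu_add, hβ]

theorem toRoots_cons {a : ℕ} (ha : a < chevE6.nroots) (l : List ℕ) :
    toRoots chevE6 (a :: l) = ⟨a, ha⟩ :: toRoots chevE6 l := by
  simp [toRoots, ha]

theorem mv_fix (h2 : ∀ t : K, θ (θ t) = t) : ∀ L : List ℕ, (∀ r ∈ L, chevE6.IsPosRoot r) →
    nprod TE6.C (K := K) (L.flatMap orbF) ∈ (TE6.twist θ).Fix ∧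
      nprod TE6.C (K := K) (L.flatMap orbF).reverse = (nprod TE6.C (L.flatMap orbF))⁻¹ ∧
      ∀ r ∈ L.flatMap orbF, chevE6.IsPosRoot r := by
  have H := twLaced θ h2
  intro L
  induction L with
  | nil => intro _; simp [nprod]
  | cons a L ih =>
    intro hL
    obtain ⟨i1, i2, i3⟩ := ih fun r hr => hL r (List.mem_cons_of_mem _ hr)
    have ha := hL a List.mem_cons_self
    set A : Fin chevE6.nroots := ⟨a, ha.1⟩
    have hA : nprod TE6.C (K := K) (orbF a) = H.orbEl A 1 := by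
      rw [show orbF a = (TwLaced.orbR (TE6.twist θ) A).map Fin.val from (orbR_val θ A).symm, nprod_val]
      unfold TwLaced.orbR TwLaced.orbEl xprod
      split <;> simp
    have hfix : H.orbEl A (1 : K) ∈ (TE6.twist θ).Fix := H.orbEl_fix ha fun _ => map_one θ
    have hArev : nprod TE6.C (K := K) (orbF a).reverse = (nprod TE6.C (orbF a))⁻¹ := by
      simp only [nprod, List.map_reverse, List.prod_inv_reverse, List.map_map]
      congr 2
      refine List.map_congr_left fun x _ => ?_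
      simp only [Function.comp_apply, xn]
      split
      · rw [xu_inv_self]
      · rw [inv_one]
    refine ⟨?_, ?_, fun r hr => ?_⟩
    · rw [List.flatMap_cons, nprod_append, hA]; exact mul_mem hfix i1
    · rw [List.flatMap_cons, List.reverse_append, nprod_append, nprod_append, _root_.mul_inv_rev, i2, hArev]
    · rw [List.flatMap_cons, List.mem_append] at hr
      rcases hr with hr | hr
      · rw [show orbF a = (TwLaced.orbR (TE6.twist θ) A).map Fin.val from (orbR_val θ A).symm,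
          List.mem_map] at hr
        obtain ⟨x, hx, rfl⟩ := hr
        unfold TwLaced.orbR at hx
        split at hx
        · simp only [List.mem_singleton] at hx; rw [hx]; exact ha
        · simp only [List.mem_cons, List.not_mem_nil, or_false] at hx
          rcases hx with rfl | rfl
          exacts [ha, H.hp_pos.2 ha]
      · exact i3 r hr

theorem reps_spec {i : ℕ} (hi : i < reps.length) :
    (∀ a ∈ reps.getD i [], a < chevE6.nroots) ∧
      (toRoots chevE6 (reps.getD i [])).Pairwise (fun a b => ip chevE6 a b = 0) ∧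
      (∀ a ∈ repOrbs.getD i [], chevE6.IsPosRoot a) ∧
      (reps.getD i []).Perm ((repOrbs.getD i []).flatMap orbF) := by
  have h := allLt_spec reps_ok i hi
  simp only [Bool.and_eq_true] at h
  obtain ⟨⟨⟨hz, ho⟩, hp⟩, hperm⟩ := h
  obtain ⟨hlt, hzo⟩ := zoList_spec hz
  have hnd : (toRoots chevE6 (reps.getD i [])).Nodup := by
    rw [← List.nodup_map_iff Fin.val_injective, toRoots_val hlt]
    simp only [zoList, Bool.and_eq_true, decide_eq_true_eq] at hz
    exact hz.1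
  refine ⟨hlt, List.Pairwise.imp_of_mem (fun {a b} ha hb hab => ?_) hnd,
    fun a ha => posB_spec (rowsOK checksE6.rows) (allList_spec hp a ha), List.isPerm_iff.1 hperm⟩
  have ha' : a.val ∈ reps.getD i [] := by rw [← toRoots_val hlt]; exact List.mem_map_of_mem ha
  have hb' : b.val ∈ reps.getD i [] := by rw [← toRoots_val hlt]; exact List.mem_map_of_mem hb
  have := allList_spec (allList_spec ho _ ha') _ hb'
  rw [natBeq_false (fun e => hab (Fin.ext e)), Bool.false_or] at this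
  rw [← ipF_eq (rowsOK checksE6.rows)]
  exact intBeq_spec this

theorem side_spec (h2 : ∀ t : K, θ (θ t) = t) {β : K} (hβ : β + θ β = 1) {i : ℕ} (hi : i < reps.length)
    {S : Side} (h : sideB i S = true) :
    (∀ a ∈ S.mid, a < chevE6.nroots) ∧
      (toRoots chevE6 S.mid).Pairwise (fun a b => ip chevE6 a b = 0 ∨ ip chevE6 a b = 1) ∧
      CjF θ (nprod TE6.C (K := K) (reps.getD i [])) (nprod TE6.C S.mid) := by
  obtain ⟨hlt, hor, -, -⟩ := reps_spec hi
  rcases S with ⟨w, conf, mv, tr, mid⟩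
  simp only [sideB, Bool.and_eq_true] at h
  obtain ⟨⟨⟨⟨hw, hzc⟩, hzm⟩, hpos⟩, hmove⟩ := h
  obtain ⟨hclt, hcz⟩ := zoList_spec hzc
  obtain ⟨hmlt, hmz⟩ := zoList_spec hzm
  obtain ⟨l, hl, hmap⟩ := mapsT_spec (θ := θ) hlt hw
  have e1 := hmap (toRoots chevE6 _) (toRoots chevE6 conf) (toRoots_val hlt) (toRoots_val hclt)
  have h1 : CjF θ (nprod TE6.C (K := K) (reps.getD i [])) (nprod TE6.C conf) := by
    rw [← toRoots_val hlt, ← toRoots_val hclt, nprod_val, nprod_val]
    rw [← perm01 e1 (List.pairwise_map.2 (hor.imp fun hab => Or.inl (ip_zero_pw lacedC l hab)))]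
    exact cjF_word hl _
  refine ⟨hmlt, hmz, h1.trans ?_⟩
  have hp : ∀ r ∈ conf ++ (mv ++ mid), chevE6.IsPosRoot r := fun r hr =>
    posB_spec (rowsOK checksE6.rows) (allList_spec hpos r hr)
  cases tr with
  | none =>
    simp only [beq_iff_eq] at hmove
    obtain ⟨hfix, hrev, hmp⟩ := mv_fix (K := K) h2 mv fun r hr => hp r (by simp [hr])
    refine ⟨_, hfix, ?_⟩
    have := nprod_eq_of_collect (K := K) lacedC (rowsOK checksE6.rows) TE6.C.keys
      (fun r hr => by
        simp only [List.mem_append, List.mem_reverse] at hr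
        rcases hr with hr | hr | hr
        exacts [hmp r hr, hp r (by simp [hr]), hmp r hr])
      (fun r hr => hp r (by simp [hr])) hmove
    rw [← this, nprod_append, nprod_append, hrev, ← mul_assoc]
  | some t =>
    obtain ⟨v, m, s⟩ := t
    simp only [Bool.and_eq_true, beq_iff_eq, Nat.blt_eq, Bool.not_eq_true', Nat.beq_eq] at hmove
    obtain ⟨⟨⟨⟨⟨⟨⟨⟨⟨⟨⟨⟨⟨⟨⟨⟨hvp, hm⟩, hs⟩, hpv⟩, hpm⟩, hps⟩, ec⟩, em⟩, i1⟩, s1⟩, i2⟩, s2⟩, z1⟩, z2⟩, z3⟩, z4⟩,
      hR⟩ := hmove
    have hvp' := posB_spec (rowsOK checksE6.rows) hvp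
    set V : Fin chevE6.nroots := ⟨v, hvp'.1⟩
    set M : Fin chevE6.nroots := ⟨m, hm⟩
    set Sr : Fin chevE6.nroots := ⟨s, hs⟩
    set PM := (TE6.twist θ).p M
    have hne : (TE6.twist θ).p V ≠ V := fun e => by
      have := congrArg Fin.val e
      rw [p_val] at this
      rw [show Nat.beq (pF v) v = true from Nat.beq_eq.mpr this] at hpv
      exact Bool.noConfusion hpv
    have hip1 : ip chevE6 V M = -1 := by
      rw [← ipF_eq (rowsOK checksE6.rows)]; exact intBeq_spec i1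
    have hip2 : ip chevE6 ((TE6.twist θ).p V) PM = -1 := by
      rw [← ipF_eq (rowsOK checksE6.rows)]; exact intBeq_spec i2
    have hdl : ∀ x ∈ conf.drop 2, x < chevE6.nroots := fun x hx => hclt x (List.mem_of_mem_drop hx)
    have key := trace_move (θ := θ) h2 hβ (v := V) (m := M) (s := Sr) hne hip1
      (rho_of_sumF hip1 s1) (rho_of_sumF hip2 s2) (zoB_spec z1) (zoB_spec z2) (zoB_spec z3) (zoB_spec z4)
      ?_ (toRoots chevE6 (conf.drop 2)) (fun x hx => ?_)
    · rw [← toRoots_val hclt, ← toRoots_val hmlt, nprod_val, nprod_val]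
      have hpm' : pF m < chevE6.nroots := PM.isLt
      rw [ec, em, toRoots_cons hm, toRoots_cons hpm', toRoots_cons hm, toRoots_cons hpm', toRoots_cons hs]
      exact key
    · exact hvp'
    · have hx' : x.val ∈ conf.drop 2 := by rw [← toRoots_val hdl]; exact List.mem_map_of_mem hx
      have := allList_spec hR _ hx'
      rw [Bool.and_eq_true] at this
      exact ⟨zoB_spec this.1, zoB_spec this.2⟩

end CfsgLib.Lie.Chev.TE6Invol
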