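import Cfsg.Agent.Lib.Lie.Chev.Tw.InvolE6Data
import Cfsg.Agent.Lib.Lie.Chev.Tw.E6
import Cfsg.Agent.Lib.Lie.Laced.Classify

/-!
# Checked data for the classes of involutions of ²E₆(q), q even
-/

set_option autoImplicit false
set_option maxRecDepth 100000

namespace CfsgLib.Lie.Chev.TE6Invol

open Cfsg.Lie CfsgLib.Lie.Laced

/-- the action of the graph symmetry on indices -/
noncomputable def pF (r : ℕ) : ℕ := graphE6.p.get r

/-- the roots of an orbit -/
noncomputable def orbF (r : ℕ) : List ℕ := cond (Nat.beq (pF r) r) [r] [r, pF r]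

/-- the nodes of an orbit of nodes -/
def fold (o : ℕ) : List ℕ := ([[1], [3], [2, 4], [0, 5]] : List (List ℕ)).getD o []

/-- the word in nodes of a word in orbits of nodes -/
def foldW (w : List ℕ) : List ℕ := w.flatMap fold

/-- a folded word maps one list onto another -/
noncomputable def mapsT (w A B : List ℕ) : Bool :=
  allList w (fun o => Nat.blt o 4) && mapsB chevE6 fastE6 (foldW w) A B

/-- the pairing is zero or one -/
noncomputable def zoB (a b : ℕ) : Bool := intBeq (ipF fastE6 a b) 0 || intBeq (ipF fastE6 a b) 1

/-- pairings in a list -/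
noncomputable def zoList (R : List ℕ) : Bool :=
  decide R.Nodup && allList R (fun a => Nat.blt a 72 && allList R fun b => Nat.beq a b || zoB a b)

/-- every extension of a representative is covered -/
noncomputable def chkStepsT : Bool :=
  allLt reps.length fun i => allLt 72 fun r =>
    cond (allList (reps.getD i []) (fun s => intBeq (ipF fastE6 r s) 0) &&
        (Nat.beq (pF r) r || intBeq (ipF fastE6 r (pF r)) 0))
      (steps.any fun x => Nat.beq x.1 i && Nat.beq x.2.1 r && Nat.blt x.2.2.2 reps.length &&
        mapsT x.2.2.1 (orbF r ++ reps.getD i []) (reps.getD x.2.2.2 []))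
      true

/-- one side of a reduction is valid -/
noncomputable def sideB (i : ℕ) (S : Side) : Bool :=
  mapsT S.word (reps.getD i []) S.conf && zoList S.conf && zoList S.mid &&
  allList (S.conf ++ (S.mv ++ S.mid)) (posB chevE6 fastE6) &&
  match S.tr with
  | none => collect chevE6 fastE6 60 (S.mv.flatMap orbF ++ (S.conf ++ (S.mv.flatMap orbF).reverse)) ==
      collect chevE6 fastE6 60 S.mid
  | some (v, m, s) =>
    posB chevE6 fastE6 v && Nat.blt m 72 && Nat.blt s 72 && !Nat.beq (pF v) v && !Nat.beq (pF m) m && Nat.beq (pF s) s &&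
    (S.conf == m :: pF m :: S.conf.drop 2) && (S.mid == m :: pF m :: s :: S.conf.drop 2) &&
    intBeq (ipF fastE6 v m) (-1) && (sumF chevE6 fastE6 v m == [s]) &&
    intBeq (ipF fastE6 (pF v) (pF m)) (-1) && (sumF chevE6 fastE6 (pF v) (pF m) == [s]) &&
    zoB v (pF m) && zoB (pF v) m && zoB v s && zoB s (pF m) &&
    allList (S.conf.drop 2) (fun x => zoB v x && zoB (pF v) x)

/-- one reduction is valid -/
noncomputable def redT (x : Red) : Bool :=
  Nat.blt x.j x.i && Nat.blt x.i reps.length && sideB x.i x.side₁ && sideB x.j x.side₂ &&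
    mapsT x.word x.side₁.mid x.side₂.mid

/-- every representative other than a target is reduced -/
noncomputable def chkRedsT : Bool :=
  allList reds redT &&
    allLt reps.length fun i => Nat.beq i 0 || [1, 2, 3].any (Nat.beq i) || reds.any fun x => Nat.beq x.i i

theorem steps_ok : chkStepsT = true := by decide +kernel

theorem reds_ok : chkRedsT = true := by decide +kernel

theorem reps_ok : (allLt reps.length fun i => zoList (reps.getD i []) &&
    allList (reps.getD i []) (fun a => allList (reps.getD i []) fun b => Nat.beq a b || intBeq (ipF fastE6 a b) 0) &&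
    allList (repOrbs.getD i []) (posB chevE6 fastE6) &&
    (reps.getD i []).isPerm ((repOrbs.getD i []).flatMap orbF)) = true := by decide +kernel

theorem p_fold : (allLt 4 fun o => allLt 72 fun r =>
    Nat.beq (pF (wordF fastE6 (fold o) r)) (wordF fastE6 (fold o) (pF r))) = true := by decide +kernel

/-- the representatives of type E6 -/
def orthE6Reps : List (List ℕ) := [[], [71], [68, 66], [55, 65, 67]]

theorem toE6_ok : (allLt 4 fun t => Nat.beq t 0 ||
    mapsB chevE6 fastE6 (toE6.getD t []) (reps.getD t []) (orthE6Reps.getD t [])) = true := by decide +kernel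

end CfsgLib.Lie.Chev.TE6Invol
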