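import Cfsg.Agent.Lib.Lie.Chev.Tw.InvolE6

/-!
# Counting the classes of involutions of ²E₆(q), q even
-/

set_option autoImplicit false
set_option maxRecDepth 100000
set_option maxHeartbeats 1000000
set_option linter.unusedSectionVars false
set_option linter.style.haveILetI false

namespace CfsgLib.Lie.Chev.TE6Invol

open Cfsg.Lie CfsgLib.Lie.Laced
open scoped MatrixGroups

variable {K : Type*} [Field K] [CharP K 2] {θ : K ≃+* K}

theorem map_orbR {l : List (Fin chevE6.rank)} (hl : FWord θ l) (L : List (Fin chevE6.nroots)) :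
    (L.flatMap (TwLaced.orbR (TE6.twist θ))).map (TE6.C.G.pw l) =
      (L.map (TE6.C.G.pw l)).flatMap (TwLaced.orbR (TE6.twist θ)) := by
  rw [List.map_flatMap, List.flatMap_map]
  refine List.flatMap_congr fun r _ => ?_
  unfold TwLaced.orbR
  rw [hl.comm]
  by_cases e : (TE6.twist θ).p r = r
  · rw [if_pos e, if_pos (by rw [e])]; rfl
  · rw [if_neg e, if_neg (fun e' => e ((TE6.C.G.pw l).injective e'))]; rfl

theorem pairwise_flat (h2 : ∀ t : K, θ (θ t) = t) {L : List (Fin chevE6.nroots)}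
    (hp : L.Pairwise fun a b => TwLaced.Zr (TE6.twist θ) a b) :
    (L.flatMap (TwLaced.orbR (TE6.twist θ))).Pairwise fun a b => ip chevE6 a b = 0 := by
  have H := twLaced θ h2
  refine List.pairwise_flatMap.2 ⟨fun a _ => ?_, hp.imp fun {a b} hab x hx y hy => ?_⟩
  · unfold TwLaced.orbR
    by_cases e : (TE6.twist θ).p a = a
    · rw [if_pos e]; simp
    · rw [if_neg e]; simp [(H.orth a).resolve_left e]
  · have hpa : ip chevE6 a ((TE6.twist θ).p b) = 0 := by rw [← H.ip_p]; exact hab.2
    have hpp : ip chevE6 ((TE6.twist θ).p a) ((TE6.twist θ).p b) = 0 := by rw [H.ipp]; exact hab.1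
    unfold TwLaced.orbR at hx hy
    split at hx <;> split at hy <;>
      simp only [List.mem_cons, List.not_mem_nil, or_false] at hx hy
    · rw [hx, hy]; exact hab.1
    · rcases hy with rfl | rfl <;> rw [hx]
      exacts [hab.1, hpa]
    · rcases hx with rfl | rfl <;> rw [hy]
      exacts [hab.1, hab.2]
    · rcases hx with rfl | rfl <;> rcases hy with rfl | rfl
      exacts [hab.1, hpa, hab.2, hpp]

theorem exists_repT (h2 : ∀ t : K, θ (θ t) = t) :
    ∀ L : List (Fin chevE6.nroots), L.Pairwise (fun a b => TwLaced.Zr (TE6.twist θ) a b) →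
    ∃ i < reps.length, ∃ l : List (Fin chevE6.rank), FWord θ l ∧
      ((L.flatMap (TwLaced.orbR (TE6.twist θ))).map (TE6.C.G.pw l)).Perm (toRoots chevE6 (reps.getD i [])) := by
  have H := twLaced θ h2
  have hR : ∀ i, ∀ a ∈ reps.getD i [], a < chevE6.nroots := fun i a ha => by
    by_cases hi : i < reps.length
    · exact (reps_spec hi).1 a ha
    · rw [List.getD_eq_default _ _ (not_lt.1 hi)] at ha
      simp at ha
  intro L
  induction L with
  | nil =>
    intro _
    exact ⟨0, by decide, [], FWord.of_folds [] (by simp), by simp [reps, toRoots]⟩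
  | cons a L ih =>
    intro hp
    rw [List.pairwise_cons] at hp
    obtain ⟨i, hi, l, hlF, hl⟩ := ih hp.2
    set a' := TE6.C.G.pw l a with ha'
    have hcond : (allList (reps.getD i []) (fun s => intBeq (ipF fastE6 a'.val s) 0) &&
        (Nat.beq (pF a'.val) a'.val || intBeq (ipF fastE6 a'.val (pF a'.val)) 0)) = true := by
      rw [Bool.and_eq_true]
      constructor
      · refine allList_of_forall fun s hs => ?_
        have hs' : (⟨s, hR i s hs⟩ : Fin chevE6.nroots) ∈ toRoots chevE6 (reps.getD i []) :=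
          List.mem_filterMap.2 ⟨s, hs, dif_pos (hR i s hs)⟩
        obtain ⟨b, hb, hbs⟩ := List.mem_map.1 (hl.mem_iff.2 hs')
        obtain ⟨c, hc, hbc⟩ := List.mem_flatMap.1 hb
        have hab : ip chevE6 a b = 0 := by
          have hz := hp.1 c hc
          unfold TwLaced.orbR at hbc
          split at hbc <;> simp only [List.mem_cons, List.not_mem_nil, or_false] at hbc
          · rw [hbc]; exact hz.1
          · rcases hbc with rfl | rfl
            exacts [hz.1, by rw [← H.ip_p]; exact hz.2]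
        have h0 := ip_zero_pw lacedC l hab
        rw [hbs] at h0
        rw [show ipF fastE6 a'.val s = ip chevE6 a' ⟨s, hR i s hs⟩ from
          ipF_eq (rowsOK checksE6.rows) a' ⟨s, hR i s hs⟩, ha', h0]
        rfl
      · have := allLt_spec orth_ok a'.val a'.isLt
        exact this
    have hx := allLt_spec (allLt_spec steps_ok i hi) a'.val a'.isLt
    rw [hcond, cond_true, List.any_eq_true] at hx
    obtain ⟨⟨i', r', w, j⟩, -, hx⟩ := hx
    simp only [Bool.and_eq_true, Nat.beq_eq, Nat.blt_eq] at hx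
    obtain ⟨⟨⟨rfl, rfl⟩, hj⟩, hmap⟩ := hx
    obtain ⟨l', hl'F, hl'⟩ := mapsT_spec (θ := θ) (A := orbF a'.val ++ reps.getD i' []) (fun b hb => by
      rcases List.mem_append.1 hb with hb | hb
      · rw [← orbR_val θ, List.mem_map] at hb
        obtain ⟨x, -, rfl⟩ := hb
        exact x.isLt
      · exact hR i' b hb) hmap
    refine ⟨j, hj, l' ++ l, hl'F.append hlF, ?_⟩
    have h1 := hl' (TwLaced.orbR (TE6.twist θ) a' ++ toRoots chevE6 (reps.getD i' [])) (toRoots chevE6 (reps.getD j []))
      (by rw [List.map_append, orbR_val, toRoots_val (hR i')]) (toRoots_val (hR j))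
    have h2' : ((a :: L).flatMap (TwLaced.orbR (TE6.twist θ))).map (TE6.C.G.pw (l' ++ l)) =
        (((a :: L).flatMap (TwLaced.orbR (TE6.twist θ))).map (TE6.C.G.pw l)).map (TE6.C.G.pw l') := by
      rw [List.map_map]
      refine List.map_congr_left fun x _ => ?_
      rw [Good.pw_append, Equiv.Perm.mul_apply]
      rfl
    rw [h2', map_orbR hlF, List.map_cons, List.flatMap_cons]
    rw [map_orbR hlF] at hl
    exact ((hl.append_left _).map _).trans h1

theorem targets_spec : ∀ t ∈ [1, 2, 3], (∀ a ∈ orthE6Reps.getD t [], a < chevE6.nroots) ∧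
    t ∈ orthE6.targets ∧ orthE6.reps.getD t [] = orthE6Reps.getD t [] := by decide

theorem rank_rep {t : ℕ} (ht : t ∈ [1, 2, 3]) :
    (((nprod TE6.C (K := K) (reps.getD t []) : GL chevE6.Idx K) : Matrix chevE6.Idx chevE6.Idx K) - 1).rank =
        rkE6 t ∧ orderOf (nprod TE6.C (K := K) (reps.getD t [])) = 2 := by
  have ht4 : t < 4 ∧ t ≠ 0 ∧ t < reps.length := by
    revert t; decide
  have h := allLt_spec toE6_ok t ht4.1
  rw [natBeq_false ht4.2.1, Bool.false_or] at h
  obtain ⟨hlt, hor, -, -⟩ := reps_spec ht4.2.2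
  obtain ⟨l, hl⟩ := mapsB_spec (C := TE6.C) checksE6 hlt h
  have hlt' := (targets_spec t ht).1
  have e := hl (toRoots chevE6 _) (toRoots chevE6 _) (toRoots_val hlt) (toRoots_val hlt')
  obtain ⟨x, hx, ex⟩ := cj_pw TE6.C (K := K) l (toRoots chevE6 (reps.getD t []))
  rw [perm01 e (List.pairwise_map.2 (hor.imp fun hab => Or.inl (ip_zero_pw lacedC l hab))), ← nprod_val,
    ← nprod_val, toRoots_val hlt, toRoots_val hlt'] at ex
  have htt := (targets_spec t ht).2
  rw [← htt.2] at ex
  refine ⟨(rank_conj ex).trans (rank_target (certE6 TE6.C) htt.1), ?_⟩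
  rw [← orderOf_target (certE6 TE6.C) (K := K) htt.1, ← ex, ← MulAut.conj_apply, MulEquiv.orderOf_eq]

theorem rep_fix (h2 : ∀ t : K, θ (θ t) = t) {t : ℕ} (ht : t < reps.length) :
    nprod TE6.C (K := K) (reps.getD t []) ∈ (TE6.twist θ).Fix := by
  obtain ⟨hlt, hor, hpos, hperm⟩ := reps_spec ht
  obtain ⟨hfix, -, hp⟩ := mv_fix (K := K) h2 _ hpos
  have e : (toRoots chevE6 (reps.getD t [])).Perm (toRoots chevE6 ((repOrbs.getD t []).flatMap orbF)) :=
    hperm.filterMap _
  rw [← toRoots_val hlt, nprod_val, perm01 e (hor.imp fun hab => Or.inl hab), ← nprod_val,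
    toRoots_val fun a ha => (hp a ha).1]
  exact hfix

variable [Finite K]

theorem classify (h2 : ∀ t : K, θ (θ t) = t) (hβ : ∃ β, β + θ β = 1) {g : GL chevE6.Idx K}
    (hg : g ∈ US TE6.C (K := K) (fun a => chevE6.IsPosRoot a.val)) (hgf : g ∈ (TE6.twist θ).Fix)
    (hg2 : g * g = 1) (hg1 : g ≠ 1) :
    ∃ t ∈ [1, 2, 3], CjF θ g (nprod TE6.C (reps.getD t [])) := by
  have H := twLaced θ h2
  obtain ⟨L, hp, hmem, u, hu, eu⟩ := H.exists_orb_prod hβ hg hgf hg2
  obtain ⟨s, hs, -, es⟩ := H.scale_orb L hp hmem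
  set L' := L.map Prod.fst
  have hp' : L'.Pairwise fun a b => TwLaced.Zr (TE6.twist θ) a b := List.pairwise_map.2 hp
  obtain ⟨i, hi, l, hlF, hl⟩ := exists_repT h2 L' hp'
  have hgi : CjF θ g (nprod TE6.C (reps.getD i [])) := by
    have h1 : CjF θ g (xprod TE6.C (L'.flatMap (TwLaced.orbR (TE6.twist θ)))) :=
      ⟨s * u, mul_mem hs hu, by rw [← es, ← eu]; group⟩
    have := h1.trans (cjF_word hlF _)
    rwa [perm01 hl (List.pairwise_map.2 ((pairwise_flat h2 hp').imp fun hab => Or.inl (ip_zero_pw lacedC l hab))),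
      ← nprod_val, toRoots_val (reps_spec hi).1] at this
  obtain ⟨β, hβ⟩ := hβ
  have hred := reds_ok
  simp only [chkRedsT, Bool.and_eq_true] at hred
  obtain ⟨hok, hall⟩ := hred
  clear hl
  induction i using Nat.strong_induction_on with
  | _ i ih =>
    have hx := allLt_spec hall i hi
    simp only [Bool.or_eq_true, List.any_eq_true, Nat.beq_eq] at hx
    rcases hx with (rfl | ⟨t, ht, rfl⟩) | ⟨x, hxm, rfl⟩
    · exfalso
      obtain ⟨y, -, e⟩ := hgi
      rw [show reps.getD 0 [] = [] from rfl, show nprod TE6.C (K := K) [] = 1 by simp [nprod], mul_inv_eq_one,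
        mul_eq_left] at e
      exact hg1 e
    · exact ⟨_, ht, hgi⟩
    · have hxr := allList_spec hok x hxm
      simp only [redT, Bool.and_eq_true, Nat.blt_eq] at hxr
      obtain ⟨⟨⟨⟨hji, -⟩, hs1⟩, hs2⟩, hw⟩ := hxr
      have hj : x.j < reps.length := by omega
      obtain ⟨m1, z1, c1⟩ := side_spec (θ := θ) h2 hβ hi hs1
      obtain ⟨m2, z2, c2⟩ := side_spec (θ := θ) h2 hβ hj hs2
      obtain ⟨l', hl'F, hl'⟩ := mapsT_spec (θ := θ) m1 hw
      have e := hl' (toRoots chevE6 x.side₁.mid) (toRoots chevE6 x.side₂.mid) (toRoots_val m1) (toRoots_val m2)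
      have cm : CjF θ (nprod TE6.C (K := K) x.side₁.mid) (nprod TE6.C x.side₂.mid) := by
        rw [← toRoots_val m1, ← toRoots_val m2, nprod_val, nprod_val, perm01 e.symm z2]
        exact cjF_word hl'F _
      exact ih x.j hji hj (((hgi.trans c1).trans cm).trans c2.symm)

end CfsgLib.Lie.Chev.TE6Invol
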