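import Mathlib.Data.Nat.Notation

/-!
# Data for the classes of involutions of ²E₆(q), q even
-/

set_option autoImplicit false

namespace CfsgLib.Lie.Chev.TE6Invol

/-- one side of a reduction: the word moves a representative to `conf`; the orbits `mv` or the trace move at `tr`
turn `conf` into `mid` -/
structure Side where
  word : List ℕ
  conf : List ℕ
  mv : List ℕ
  tr : Option (ℕ × ℕ × ℕ)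
  mid : List ℕ

/-- a reduction of representative `i` to representative `j` -/
structure Red where
  i : ℕ
  j : ℕ
  side₁ : Side
  word : List ℕ
  side₂ : Side

/-- extension steps -/
def steps0 : List (ℕ × ℕ × List ℕ × ℕ) := [
  (0, 0, [1, 2, 3, 0, 1, 2, 1, 0], 1),
  (0, 1, [1, 2, 3, 0, 1, 2, 1], 1),
  (0, 2, [1, 2, 3, 0, 1, 2], 1),
  (0, 3, [3, 2, 1, 2, 0, 1, 2, 3], 4),
  (0, 4, [3, 2, 1, 2, 0, 1, 2], 4),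
  (0, 5, [3, 2, 1, 2, 0, 1, 2, 3], 4),
  (0, 6, [1, 2, 3, 0, 1], 1),
  (0, 7, [3, 2, 1, 2, 0, 1], 4),
  (0, 8, [1, 2, 3, 0], 1),
  (0, 9, [3, 2, 1, 2, 0], 4),
  (0, 10, [3, 2, 1, 0], 4),
  (0, 11, [1, 2, 3], 1),
  (0, 12, [3, 2, 1, 2], 4),
  (0, 13, [3, 2, 1], 4),
  (0, 14, [3, 2], 4),
  (0, 15, [3], 4)]

/-- extension steps -/
def steps1 : List (ℕ × ℕ × List ℕ × ℕ) := [
  (0, 16, [3, 2, 1, 2, 0, 1, 2], 4),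
  (0, 17, [3, 2, 1, 2, 0, 1], 4),
  (0, 18, [1, 2, 0, 1], 1),
  (0, 19, [3, 2, 1, 2, 0], 4),
  (0, 20, [1, 2, 0], 1),
  (0, 21, [2, 3, 2, 1, 0], 4),
  (0, 22, [3, 2, 1, 0], 4),
  (0, 23, [2, 3, 2, 1, 0], 4),
  (0, 24, [1, 0], 1),
  (0, 25, [0, 1, 0], 1),
  (0, 26, [3, 2, 1, 2], 4),
  (0, 27, [1, 2], 1),
  (0, 28, [2, 3, 2, 1], 4),
  (0, 29, [2, 3, 2], 4),
  (0, 30, [3, 2, 1], 4),
  (0, 31, [2, 3, 2, 1], 4)]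

/-- extension steps -/
def steps2 : List (ℕ × ℕ × List ℕ × ℕ) := [
  (0, 32, [1], 1),
  (0, 33, [3, 2], 4),
  (0, 34, [2, 3, 2], 4),
  (0, 35, [3], 4),
  (0, 36, [], 4),
  (0, 37, [2, 3], 4),
  (0, 38, [2], 4),
  (0, 39, [], 1),
  (0, 40, [2, 3, 1], 4),
  (0, 41, [2, 1], 4),
  (0, 42, [2, 3], 4),
  (0, 43, [2, 3, 1], 4),
  (0, 44, [2], 1),
  (0, 45, [2, 1, 2], 4),
  (0, 46, [0, 1], 1),
  (0, 47, [0], 1)]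

/-- extension steps -/
def steps3 : List (ℕ × ℕ × List ℕ × ℕ) := [
  (0, 48, [2, 3, 1, 0], 4),
  (0, 49, [2, 1, 0], 4),
  (0, 50, [2, 3, 1, 0], 4),
  (0, 51, [2, 0], 1),
  (0, 52, [2, 1, 2, 0], 4),
  (0, 53, [2, 0, 1], 1),
  (0, 54, [2, 1, 2, 0, 1], 4),
  (0, 55, [2, 1, 2, 0, 1, 2], 4),
  (0, 56, [], 4),
  (0, 57, [2], 4),
  (0, 58, [2, 1], 4),
  (0, 59, [2, 1, 2], 4),
  (0, 60, [2, 3], 1),
  (0, 61, [2, 1, 0], 4),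
  (0, 62, [2, 1, 2, 0], 4),
  (0, 63, [2, 3, 0], 1)]

/-- extension steps -/
def steps4 : List (ℕ × ℕ × List ℕ × ℕ) := [
  (0, 64, [2, 1, 2, 0, 1], 4),
  (0, 65, [2, 3, 0, 1], 1),
  (0, 66, [2, 1, 2, 0, 1, 2, 3], 4),
  (0, 67, [2, 1, 2, 0, 1, 2], 4),
  (0, 68, [2, 1, 2, 0, 1, 2, 3], 4),
  (0, 69, [2, 3, 0, 1, 2], 1),
  (0, 70, [2, 3, 0, 1, 2, 1], 1),
  (0, 71, [2, 3, 0, 1, 2, 1, 0], 1),
  (1, 0, [1, 2, 3, 0, 1, 2, 1, 0], 2),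
  (1, 3, [3, 2, 1, 2, 0, 1, 2, 3, 1, 0], 5),
  (1, 4, [3, 2, 1, 2, 0, 1, 2, 1, 0], 5),
  (1, 5, [3, 2, 1, 2, 0, 1, 2, 3, 1, 0], 5),
  (1, 10, [3, 0, 1, 2, 1, 0], 5),
  (1, 11, [1, 2, 3], 2),
  (1, 12, [3, 2, 1, 2], 5),
  (1, 15, [3], 5)]

/-- extension steps -/
def steps5 : List (ℕ × ℕ × List ℕ × ℕ) := [
  (1, 16, [3, 2, 1, 2, 0, 1, 2, 1, 0], 5),
  (1, 21, [0, 1, 2, 3, 2, 1, 0], 5),
  (1, 22, [3, 0, 1, 2, 1, 0], 5),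
  (1, 23, [0, 1, 2, 3, 2, 1, 0], 5),
  (1, 26, [3, 2, 1, 2], 5),
  (1, 27, [1, 2], 2),
  (1, 35, [3], 5),
  (1, 36, [], 5),
  (1, 44, [], 2),
  (1, 45, [2, 1, 2], 5),
  (1, 48, [0, 1, 2, 3, 1, 0], 5),
  (1, 49, [0, 1, 2, 1, 0], 5),
  (1, 50, [0, 1, 2, 3, 1, 0], 5),
  (1, 55, [2, 1, 2, 0, 1, 2, 1, 0], 5),
  (1, 56, [], 5),
  (1, 59, [2, 1, 2], 5)]

/-- extension steps -/
def steps6 : List (ℕ × ℕ × List ℕ × ℕ) := [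
  (1, 60, [3], 2),
  (1, 61, [0, 1, 2, 1, 0], 5),
  (1, 66, [2, 1, 2, 0, 1, 2, 3, 1, 0], 5),
  (1, 67, [2, 1, 2, 0, 1, 2, 1, 0], 5),
  (1, 68, [2, 1, 2, 0, 1, 2, 3, 1, 0], 5),
  (1, 71, [3, 0, 1, 2, 1, 0], 2),
  (2, 0, [1, 2, 3, 0, 1, 2, 1, 0], 3),
  (2, 3, [3, 2, 1, 2, 0, 1, 2, 3, 1, 0], 6),
  (2, 5, [3, 2, 1, 2, 0, 1, 2, 3, 1, 0], 6),
  (2, 11, [1, 2, 3], 3),
  (2, 21, [0, 1, 2, 3, 2, 1, 0], 6),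
  (2, 23, [0, 1, 2, 3, 2, 1, 0], 6),
  (2, 48, [0, 1, 2, 3, 1, 0], 6),
  (2, 50, [0, 1, 2, 3, 1, 0], 6),
  (2, 60, [], 3),
  (2, 66, [2, 1, 2, 0, 1, 2, 3, 1, 0], 6)]

/-- extension steps -/
def steps7 : List (ℕ × ℕ × List ℕ × ℕ) := [
  (2, 68, [2, 1, 2, 0, 1, 2, 3, 1, 0], 6),
  (2, 71, [0, 1, 2, 1, 0], 3),
  (3, 0, [1, 2, 3, 0, 1, 2, 1, 0], 7),
  (3, 71, [], 7),
  (4, 0, [1, 2, 0, 1, 2, 3, 2, 1, 2, 0], 5),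
  (4, 1, [1, 2, 0, 1, 2, 3, 2, 1, 2], 5),
  (4, 2, [1, 2, 0, 1, 2, 3, 2, 1, 2, 1], 5),
  (4, 24, [1, 0], 5),
  (4, 25, [0, 1, 0], 5),
  (4, 32, [1], 5),
  (4, 39, [], 5),
  (4, 46, [0, 1], 5),
  (4, 47, [0], 5),
  (4, 69, [2, 0, 1, 2, 3, 2, 1, 2, 1], 5),
  (4, 70, [2, 0, 1, 2, 3, 2, 1, 2], 5),
  (4, 71, [2, 0, 1, 2, 3, 2, 1, 2, 0], 5)]

/-- extension steps -/
def steps8 : List (ℕ × ℕ × List ℕ × ℕ) := [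
  (5, 0, [1, 2, 0, 1, 2, 3, 2, 1, 2, 0], 6),
  (5, 71, [], 6)]

/-- the extension steps -/
def steps : List (ℕ × ℕ × List ℕ × ℕ) :=
  steps0 ++ steps1 ++ steps2 ++ steps3 ++ steps4 ++ steps5 ++ steps6 ++ steps7 ++ steps8

/-- representative orbit-stable orthogonal sets -/
def reps : List (List ℕ) := [[], [39], [39, 44], [39, 44, 60], [36, 56], [36, 39, 56], [36, 39, 56, 71], [39, 44, 60, 71]]

/-- orbit representatives of the representatives -/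
def repOrbs : List (List ℕ) := [[], [39], [39, 44], [39, 44, 60], [36], [36, 39], [36, 39, 71], [39, 44, 60, 71]]

/-- the reductions -/
def reds : List Red := [
  ⟨4, 2, ⟨[2], [57, 38], [], some (41, 57, 60), [57, 38, 60]⟩, [2, 1, 2, 3, 2, 0, 1], ⟨[2, 3, 1, 0], [46, 69], [45], none, [46, 52, 62]⟩⟩,
  ⟨5, 3, ⟨[2], [57, 38, 44], [], some (41, 57, 60), [57, 38, 60, 44]⟩, [3, 1, 2, 0, 1], ⟨[1, 0], [46, 53, 65], [36], none, [46, 53, 54, 64]⟩⟩,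
  ⟨6, 5, ⟨[2, 1, 2, 1, 0], [45, 51, 59, 63], [44], none, [45, 51, 59, 63, 69]⟩, [0, 1, 2, 1], ⟨[2], [38, 44, 57], [49, 53], none, [38, 44, 57, 69, 71]⟩⟩,
  ⟨7, 6, ⟨[1, 0], [46, 53, 65, 69], [36], none, [46, 53, 54, 64, 69]⟩, [1, 2, 0, 1, 2, 3, 1], ⟨[2, 1, 2, 1, 0], [59, 45, 51, 63], [], some (54, 59, 70), [59, 45, 70, 51, 63]⟩⟩]

/-- words to the representatives of type E6 -/
def toE6 : List (List ℕ) := [[], [1, 3, 4, 5, 2, 3, 4, 0, 2, 1], [0, 2, 3, 4, 5, 4, 3, 0, 2, 1, 0],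
  [3, 4, 5, 2, 3, 4, 0, 2, 3, 0, 2, 1, 0]]

end CfsgLib.Lie.Chev.TE6Invol
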