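import Cfsg.Agent.Lib.Lie.Chev.Tw.InvolE6Count

/-!
# The number of classes of involutions of ²E₆(q), q even
-/

set_option autoImplicit false
set_option maxRecDepth 100000
set_option maxHeartbeats 1000000
set_option linter.unusedSectionVars false
set_option linter.style.haveILetI false

namespace CfsgLib.Lie.Chev.TE6Invol

open Cfsg.Lie CfsgLib.Lie.Laced
open scoped MatrixGroups

variable {K : Type*} [Field K] [Fintype K] [CharP K 2] {q : ℕ}

theorem q_even (hK : Fintype.card K = q ^ 2) : IsPrimePow q ∧ 2 ∣ q := by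
  obtain ⟨n, -, hn⟩ := FiniteField.card K 2
  have hd : q ∣ 2 ^ (n : ℕ) := by rw [← hn, hK]; exact dvd_pow_self q (by norm_num)
  obtain ⟨a, -, rfl⟩ := (Nat.dvd_prime_pow Nat.prime_two).1 hd
  have ha : a ≠ 0 := by
    rintro rfl
    have := Fintype.one_lt_card (α := K)
    rw [hK] at this
    simp at this
  exact ⟨Nat.prime_two.isPrimePow.pow ha, dvd_pow_self 2 ha⟩

theorem exists_beta {θ : K ≃+* K} (hθ : ∀ x, θ x = x ^ q) (h2 : ∀ t : K, θ (θ t) = t)
    (hK : Fintype.card K = q ^ 2) : ∃ β, β + θ β = 1 := by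
  obtain ⟨hq, -⟩ := q_even hK
  obtain ⟨x, hx⟩ : ∃ x : K, θ x ≠ x := by
    by_contra hall
    push_neg at hall
    have hc := Frob.card_fixed (K := K) hq hK
    rw [Nat.card_congr (Equiv.subtypeUnivEquiv fun x => (hθ x).symm.trans (hall x)), Nat.card_eq_fintype_card,
      hK, pow_two] at hc
    have h1 := hq.one_lt
    have : q * 1 < q * q := Nat.mul_lt_mul_of_pos_left h1 hq.pos
    omega
  have hd : x + θ x ≠ 0 := fun e => hx (by rw [← sub_eq_zero, CharTwo.sub_eq_add, add_comm]; exact e)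
  refine ⟨x / (x + θ x), ?_⟩
  rw [map_div₀, map_add, h2, add_comm (θ x) x, ← add_div, div_self hd]

theorem type_of_orderOf (hK : Fintype.card K = q ^ 2) {θ : K ≃+* K} (hθ : ∀ x, θ x = x ^ q)
    (h2 : ∀ t : K, θ (θ t) = t) {g : GL chevE6.Idx K} (hg : g ∈ twistedE6 K q) (h : orderOf g = 2) :
    ∃ t ∈ [1, 2, 3], CjF θ g (nprod TE6.C (reps.getD t [])) := by
  classical
  obtain ⟨hq, h2q⟩ := q_even hK
  obtain ⟨-, hU, -, hG, -⟩ := TE6.summary hq hK
  have hfix : twistedE6 K q = (TE6.twist θ).Fix := (TE6.twGp θ hθ h2).eq_Fix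
  haveI : Fact (Nat.Prime 2) := ⟨Nat.prime_two⟩
  set S := (chevE6.posUnipotent K ⊓ twistedE6 K q).subgroupOf (twistedE6 K q)
  have hScard : Nat.card S = q ^ 36 := by
    rw [Nat.card_congr (Subgroup.subgroupOfEquivOfLe inf_le_right).toEquiv, hU]
  have hS : IsPGroup 2 S := by
    obtain ⟨n, -, hn⟩ := FiniteField.card K 2
    refine IsPGroup.of_card (n := 18 * (n : ℕ)) ?_
    rw [hScard, show q ^ 36 = (q ^ 2) ^ 18 by ring, ← hK, hn, ← pow_mul, mul_comm]
  have hidx : ¬ 2 ∣ S.index := by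
    have hm := Subgroup.card_mul_index S
    rw [← hm, hScard, mul_left_comm, mul_assoc, mul_assoc, mul_assoc, mul_assoc, mul_assoc] at hG
    have h0 : 0 < q ^ 36 := pow_pos hq.pos 36
    have he := Nat.eq_of_mul_eq_mul_left h0 hG
    intro hd
    have hd' := hd.mul_left (Nat.gcd 3 (q + 1))
    rw [he] at hd'
    obtain ⟨b, rfl⟩ := h2q
    have hb : 1 ≤ b := by have := hq.pos; omega
    have hodd : ∀ n, n ≠ 0 → ¬ 2 ∣ (2 * b) ^ n - 1 ∧ ¬ 2 ∣ (2 * b) ^ n + 1 := fun n hn => by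
      have h1 : 2 ∣ (2 * b) ^ n := (dvd_mul_right 2 b).trans (dvd_pow_self _ hn)
      have h2' : 1 ≤ (2 * b) ^ n := Nat.one_le_pow _ _ (by omega)
      omega
    simp only [Nat.prime_two.dvd_mul] at hd'
    rcases hd' with hd' | hd' | hd' | hd' | hd' | hd'
    exacts [(hodd 2 (by norm_num)).1 hd', (hodd 5 (by norm_num)).2 hd', (hodd 6 (by norm_num)).1 hd',
      (hodd 8 (by norm_num)).1 hd', (hodd 9 (by norm_num)).2 hd', (hodd 12 (by norm_num)).1 hd']
  set g' : ↥(twistedE6 K q) := ⟨g, hg⟩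
  have hg2 : orderOf g' = 2 := (Subgroup.orderOf_coe g').symm.trans h
  obtain ⟨Q, hQ⟩ := (IsPGroup.of_card (p := 2) (n := 1) (G := ↥(Subgroup.zpowers g'))
    (by rw [Nat.card_zpowers, hg2, pow_one])).exists_le_sylow
  obtain ⟨x, hx⟩ := MulAction.exists_smul_eq ↥(twistedE6 K q) Q (hS.toSylow hidx)
  have hmem : x * g' * x⁻¹ ∈ ((hS.toSylow hidx : Sylow 2 ↥(twistedE6 K q)) : Subgroup ↥(twistedE6 K q)) := by
    rw [← hx, Sylow.coe_subgroup_smul]
    exact Subgroup.smul_mem_pointwise_smul _ (MulAut.conj x) _ (hQ (Subgroup.mem_zpowers g'))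
  rw [IsPGroup.toSylow_coe, Subgroup.mem_subgroupOf, Subgroup.mem_inf, TE6.C.G.posUnipotent_eq] at hmem
  simp only [Subgroup.coe_mul, Subgroup.coe_inv] at hmem
  set y := (x : GL chevE6.Idx K) * g * (x : GL chevE6.Idx K)⁻¹ with hy
  have hord : orderOf y = 2 := by rw [hy, ← MulAut.conj_apply, MulEquiv.orderOf_eq, h]
  obtain ⟨t, ht, e⟩ := classify (θ := θ) h2 (exists_beta hθ h2 hK) (g := y)
    (Uge_le_US TE6.C (fun a _ ha => ha) hmem.1) (by rw [← hfix]; exact hmem.2)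
    (by rw [← pow_two, ← hord]; exact pow_orderOf_eq_one y)
    (fun e => by rw [e, orderOf_one] at hord; omega)
  exact ⟨t, ht, CjF.trans ⟨x, by rw [← hfix]; exact x.2, rfl⟩ e⟩

theorem card_classes (hK : Fintype.card K = q ^ 2) :
    (ConjClasses.mk '' {g : ↥(twistedE6 K q) | orderOf g = 2}).ncard = 3 := by
  classical
  obtain ⟨hq, -⟩ := q_even hK
  obtain ⟨θ, hθ⟩ := Frob.exists_powEquiv (K := K) hq hK
  have h2 : ∀ t : K, θ (θ t) = t := fun t => by
    rw [hθ, hθ, ← pow_mul, show q * q = q ^ 2 from (pow_two q).symm, ← hK, FiniteField.pow_card]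
  have hfix : twistedE6 K q = (TE6.twist θ).Fix := (TE6.twGp θ hθ h2).eq_Fix
  have hlen : ∀ t ∈ [1, 2, 3], t < reps.length := by decide
  let y : {t // t ∈ [1, 2, 3]} → ConjClasses ↥(twistedE6 K q) := fun t =>
    ConjClasses.mk ⟨nprod TE6.C (reps.getD t.1 []), by rw [hfix]; exact rep_fix h2 (hlen _ t.2)⟩
  have hset : ConjClasses.mk '' {g : ↥(twistedE6 K q) | orderOf g = 2} = Set.range y := by
    ext c
    constructor
    · rintro ⟨g, hg, rfl⟩
      obtain ⟨t, ht, x, hx, e⟩ := type_of_orderOf hK hθ h2 g.2 ((Subgroup.orderOf_coe g).trans hg)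
      exact ⟨⟨t, ht⟩, (ConjClasses.mk_eq_mk_iff_isConj.2
        (isConj_iff.2 ⟨⟨x, by rw [hfix]; exact hx⟩, Subtype.ext e⟩)).symm⟩
    · rintro ⟨⟨t, ht⟩, rfl⟩
      refine ⟨_, ?_, rfl⟩
      show orderOf _ = 2
      rw [← Subgroup.orderOf_coe]
      exact (rank_rep ht).2
  have hinj : Function.Injective y := fun s t e => by
    obtain ⟨x, hx⟩ := isConj_iff.1 (ConjClasses.mk_eq_mk_iff_isConj.1 e)
    have hr := rank_conj (congrArg Subtype.val hx)
    rw [(rank_rep s.2).1, (rank_rep t.2).1] at hr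
    have key : ∀ a ∈ [1, 2, 3], ∀ b ∈ [1, 2, 3], rkE6 a = rkE6 b → a = b := by decide
    exact Subtype.ext (key _ s.2 _ t.2 hr)
  rw [hset, Set.ncard_range_of_injective hinj, Nat.card_eq_fintype_card,
    Fintype.card_of_subtype ([1, 2, 3] : List ℕ).toFinset (by simp)]
  rfl

end CfsgLib.Lie.Chev.TE6Invol
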