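import Cfsg.Agent.Lib.Lie.Chev.Tw.InvolE6Cert
import Cfsg.Agent.Lib.Lie.Laced.OrthTwistScale
import Cfsg.Agent.Lib.Lie.Laced.CertE6

/-!
# Folded words and moves in ²E₆(q), q even
-/

set_option autoImplicit false
set_option maxRecDepth 100000
set_option maxHeartbeats 1000000
set_option linter.unusedSectionVars false
set_option linter.style.haveILetI false

namespace CfsgLib.Lie.Chev.TE6Invol

open Cfsg.Lie CfsgLib.Lie.Laced
open scoped MatrixGroups

theorem lacedC : IsLaced chevE6 TE6.C := (certE6 TE6.C).laced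

theorem ipp_ok : (allLt 72 fun r => allLt 72 fun s =>
    intBeq (ipF fastE6 (pF r) (pF s)) (ipF fastE6 r s)) = true := by decide +kernel

theorem orth_ok : (allLt 72 fun r => Nat.beq (pF r) r || intBeq (ipF fastE6 r (pF r)) 0) = true := by decide +kernel

theorem pp_ok : ∀ r : Fin chevE6.nroots, pF (pF r.val) = r.val := by decide +kernel

theorem pos_ok : ∀ r : Fin chevE6.nroots,
    decide (chevE6.nroots / 2 ≤ r.val) = decide (0 < ∑ i, TE6.C.G.rho r i) := by decide +kernel

theorem hp_ok : ∀ r : Fin chevE6.nroots, ∀ s : Fin chevE6.nroots, pF r.val = s.val →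
    (∑ i, TE6.C.G.rho s i) = ∑ i, TE6.C.G.rho r i := by
  have h : ∀ r : Fin chevE6.nroots, (∑ i, TE6.C.G.rho r i) = (fastE6.rho.get r.val).sum := by decide +kernel
  have h' : ∀ r : Fin chevE6.nroots, (fastE6.rho.get (pF r.val)).sum = (fastE6.rho.get r.val).sum := by
    decide +kernel
  intro r s e
  rw [h, h, ← e, h']

/-- the height -/
noncomputable def ht6 (r : Fin chevE6.nroots) : ℤ := ∑ i, TE6.C.G.rho r i

variable {K : Type*} [Field K] (θ : K ≃+* K)

theorem p_val (r : Fin chevE6.nroots) : ((TE6.twist θ).p r).val = pF r.val := rfl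

theorem orbR_val (r : Fin chevE6.nroots) :
    (TwLaced.orbR (TE6.twist θ) r).map Fin.val = orbF r.val := by
  unfold TwLaced.orbR orbF
  by_cases e : (TE6.twist θ).p r = r
  · rw [if_pos e, show Nat.beq (pF r.val) r.val = true by rw [Nat.beq_eq, ← p_val θ, e], cond_true]
    rfl
  · rw [if_neg e, natBeq_false (fun e' => e (Fin.ext (by rw [p_val]; exact e'))), cond_false]
    rfl

variable [CharP K 2]

theorem twLaced (h2 : ∀ t : K, θ (θ t) = t) : TwLaced (TE6.twist θ) θ ht6 where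
  laced := lacedC
  eps r := by
    show (sgnB (graphE6.eps.get r.val) : K) = 1
    cases graphE6.eps.get r.val <;> simp [sgnB, CharTwo.neg_eq]
  sig r := rfl
  pp r := Fin.ext (by rw [p_val, p_val, pp_ok])
  th := h2
  ipp r s := by
    rw [← ipF_eq (rowsOK checksE6.rows), ← ipF_eq (rowsOK checksE6.rows), p_val, p_val]
    exact intBeq_spec (allLt_spec (allLt_spec ipp_ok r.val r.isLt) s.val s.isLt)
  orth r := by
    have := allLt_spec orth_ok r.val r.isLt
    rw [Bool.or_eq_true, Nat.beq_eq] at this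
    refine this.imp (fun e => Fin.ext (by rw [p_val]; exact e)) fun e => ?_
    rw [← ipF_eq (rowsOK checksE6.rows), p_val]
    exact intBeq_spec e
  hp r := hp_ok r _ (p_val θ r).symm
  hadd a b z e := by
    simp only [ht6, e, Pi.add_apply, Finset.sum_add_distrib]
  hpos r := by
    rw [TE6.C.G.pos_iff_half]
    exact decide_eq_decide.1 (pos_ok r)

/-- conjugacy in the fixed group -/
def CjF (g h : GL chevE6.Idx K) : Prop := ∃ x ∈ (TE6.twist θ).Fix, x * g * x⁻¹ = h

variable {θ}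

theorem CjF.trans {g h k : GL chevE6.Idx K} (h1 : CjF θ g h) (h2 : CjF θ h k) : CjF θ g k := by
  obtain ⟨x, hx, rfl⟩ := h1
  obtain ⟨y, hy, rfl⟩ := h2
  exact ⟨y * x, mul_mem hy hx, by group⟩

theorem CjF.symm {g h : GL chevE6.Idx K} (h1 : CjF θ g h) : CjF θ h g := by
  obtain ⟨x, hx, rfl⟩ := h1
  exact ⟨x⁻¹, inv_mem hx, by group⟩

variable (θ)

theorem fix_nU {i : Fin chevE6.rank} (h : TE6.node.get i.val = i.val) :
    TE6.C.G.nU i ∈ (TE6.twist θ).Fix := by
  refine (TE6.twist θ).mem_Fix.2 ⟨TE6.C.G.nU_mem_group i, ?_⟩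
  rw [(TE6.twist θ).φ_nU]
  apply Subtype.ext
  show TE6.C.G.nU ((TE6.twist θ).node i) = _
  rw [show (TE6.twist θ).node i = i from Fin.ext ((TE6.node_eq θ i).trans h)]

theorem fix_nU2 {i j : Fin chevE6.rank} (hi : TE6.node.get i.val = j.val) (hj : TE6.node.get j.val = i.val)
    (hw : chevE6.reflectRoot i.val (TE6.C.G.simp' j).val = (TE6.C.G.simp' j).val) :
    TE6.C.G.nU i * TE6.C.G.nU j ∈ (TE6.twist θ).Fix := by
  have hc : TE6.C.G.nU i * TE6.C.G.nU (K := K) j = TE6.C.G.nU j * TE6.C.G.nU i := by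
    have he : (TE6.C.G.eta i (TE6.C.G.simp' j) : K) = 1 := by
      rcases TE6.C.G.eta_unit i (TE6.C.G.simp' j) with e | e <;> simp [e, CharTwo.neg_eq]
    rw [← TE6.C.G.nE_simp_one j, TE6.C.G.nU_nE, he, one_mul,
      show TE6.C.G.w i (TE6.C.G.simp' j) = TE6.C.G.simp' j from
        Fin.ext ((TE6.C.G.w_reflect i _).trans hw)]
  refine (TE6.twist θ).mem_Fix.2 ⟨mul_mem (TE6.C.G.nU_mem_group i) (TE6.C.G.nU_mem_group j), ?_⟩
  rw [show (⟨TE6.C.G.nU i * TE6.C.G.nU j, _⟩ : ↥(chevE6.group K)) =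
    ⟨TE6.C.G.nU i, TE6.C.G.nU_mem_group i⟩ * ⟨TE6.C.G.nU j, TE6.C.G.nU_mem_group j⟩ from rfl, map_mul,
    (TE6.twist θ).φ_nU, (TE6.twist θ).φ_nU]
  apply Subtype.ext
  show TE6.C.G.nU ((TE6.twist θ).node i) * TE6.C.G.nU ((TE6.twist θ).node j) =
    TE6.C.G.nU i * TE6.C.G.nU j
  rw [show (TE6.twist θ).node i = j from Fin.ext ((TE6.node_eq θ i).trans hi),
    show (TE6.twist θ).node j = i from Fin.ext ((TE6.node_eq θ j).trans hj), hc]

/-- the nodes of an orbit of nodes -/
def foldN (o : ℕ) : List (Fin chevE6.rank) :=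
  ([[TE6.nd 1], [TE6.nd 3], [TE6.nd 2, TE6.nd 4], [TE6.nd 0, TE6.nd 5]] : List (List (Fin chevE6.rank))).getD o []

theorem foldN_val {o : ℕ} (ho : o < 4) : (foldN o).map Fin.val = fold o := by
  interval_cases o <;> rfl

theorem foldN_fix {o : ℕ} (ho : o < 4) : TE6.C.G.nw (foldN o) ∈ (TE6.twist θ).Fix := by
  obtain ⟨s0, s1, s2, s3, s4, s5⟩ := TE6.simp_rt
  interval_cases o
  · simpa [Good.nw, foldN] using fix_nU θ (i := TE6.nd 1) (by decide +kernel)
  · simpa [Good.nw, foldN] using fix_nU θ (i := TE6.nd 3) (by decide +kernel)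
  · simpa [Good.nw, foldN] using fix_nU2 θ (i := TE6.nd 2) (j := TE6.nd 4) (by decide +kernel) (by decide +kernel)
      (by rw [s4]; decide +kernel)
  · simpa [Good.nw, foldN] using fix_nU2 θ (i := TE6.nd 0) (j := TE6.nd 5) (by decide +kernel) (by decide +kernel)
      (by rw [s5]; decide +kernel)

theorem foldN_comm {o : ℕ} (ho : o < 4) (r : Fin chevE6.nroots) :
    (TE6.twist θ).p (TE6.C.G.pw (foldN o) r) = TE6.C.G.pw (foldN o) ((TE6.twist θ).p r) := by
  apply Fin.ext
  rw [p_val, TE6.C.G.pw_val checksE6, TE6.C.G.pw_val checksE6, foldN_val ho, p_val]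
  exact Nat.beq_eq.mp (allLt_spec (allLt_spec p_fold o ho) r.val r.isLt)

/-- a word of folded reflections -/
structure FWord (l : List (Fin chevE6.rank)) : Prop where
  fix : TE6.C.G.nw l ∈ (TE6.twist θ).Fix
  comm : ∀ r, (TE6.twist θ).p (TE6.C.G.pw l r) = TE6.C.G.pw l ((TE6.twist θ).p r)

variable {θ}

theorem FWord.append {l l' : List (Fin chevE6.rank)} (h : FWord θ l) (h' : FWord θ l') : FWord θ (l ++ l') where
  fix := by
    rw [show TE6.C.G.nw (l ++ l') = TE6.C.G.nw l * TE6.C.G.nw l' by simp [Good.nw]]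
    exact mul_mem h.fix h'.fix
  comm r := by
    simp only [Good.pw_append, Equiv.Perm.mul_apply]
    rw [h.comm, h'.comm]

theorem FWord.of_folds : ∀ w : List ℕ, (∀ o ∈ w, o < 4) → FWord θ (w.flatMap foldN) := by
  intro w
  induction w with
  | nil => intro _; exact ⟨by simp [Good.nw], fun r => by simp [Good.pw]⟩
  | cons o w ih =>
    intro hw
    rw [List.flatMap_cons]
    exact FWord.append ⟨foldN_fix θ (hw o List.mem_cons_self), foldN_comm θ (hw o List.mem_cons_self)⟩
      (ih fun x hx => hw x (List.mem_cons_of_mem _ hx))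

theorem cjF_word {l : List (Fin chevE6.rank)} (h : FWord θ l) (T : List (Fin chevE6.nroots)) :
    CjF θ (xprod TE6.C (K := K) T) (xprod TE6.C (T.map (TE6.C.G.pw l))) := by
  refine ⟨TE6.C.G.nw l, h.fix, ?_⟩
  induction T with
  | nil => simp [xprod]
  | cons a T ih =>
    simp only [xprod, List.map_cons, List.prod_cons] at ih ⊢
    rw [← nw_conj TE6.C, ← ih]
    group

theorem mapsT_spec {w A B : List ℕ} (hA : ∀ a ∈ A, a < chevE6.nroots) (h : mapsT w A B = true) :
    ∃ l : List (Fin chevE6.rank), FWord θ l ∧ ∀ TA TB : List (Fin chevE6.nroots),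
      TA.map Fin.val = A → TB.map Fin.val = B → (TA.map (TE6.C.G.pw l)).Perm TB := by
  simp only [mapsT, mapsB, Bool.and_eq_true] at h
  obtain ⟨hw, -, hperm⟩ := h
  have hw' : ∀ o ∈ w, o < 4 := fun o ho => by simpa [Nat.blt_eq] using allList_spec hw o ho
  have e : (w.flatMap foldN).map Fin.val = foldW w := by
    unfold foldW
    rw [List.map_flatMap]
    exact List.flatMap_congr fun o ho => foldN_val (hw' o ho)
  refine ⟨_, FWord.of_folds w hw', fun TA TB eA eB => ?_⟩
  refine (List.map_perm_map_iff Fin.val_injective).1 ?_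
  rw [List.map_map, eB]
  have e2 : TA.map (Fin.val ∘ TE6.C.G.pw (w.flatMap foldN)) = A.map (wordF fastE6 (foldW w)) := by
    rw [← eA, List.map_map]
    refine List.map_congr_left fun a _ => ?_
    simp only [Function.comp_apply, TE6.C.G.pw_val checksE6, e]
  rw [e2]
  exact List.isPerm_iff.1 hperm

theorem perm01 {T T' : List (Fin chevE6.nroots)} (h : T.Perm T')
    (hT : T.Pairwise fun a b => ip chevE6 a b = 0 ∨ ip chevE6 a b = 1) :
    xprod TE6.C (K := K) T = xprod TE6.C T' := by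
  refine (h.map _).prod_eq' (List.pairwise_map.2 (hT.imp fun {a b} hab => ?_))
  have hn : b ≠ TE6.C.G.negr a := fun e => by rw [e, ip_negr, lacedC.2.1] at hab; omega
  exact (xu_commute lacedC hab hn 1 1).symm

theorem zoB_spec {a b : Fin chevE6.nroots} (h : zoB a.val b.val = true) :
    (ip chevE6 a b = 0 ∨ ip chevE6 a b = 1) ∧ b ≠ TE6.C.G.negr a := by
  rw [zoB, Bool.or_eq_true] at h
  have h' : ip chevE6 a b = 0 ∨ ip chevE6 a b = 1 := by
    rw [← ipF_eq (rowsOK checksE6.rows)]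
    exact h.imp intBeq_spec intBeq_spec
  exact ⟨h', fun e => by rw [e, ip_negr, lacedC.2.1] at h'; omega⟩

theorem zoList_spec {R : List ℕ} (h : zoList R = true) :
    (∀ a ∈ R, a < chevE6.nroots) ∧
      (toRoots chevE6 R).Pairwise fun a b => ip chevE6 a b = 0 ∨ ip chevE6 a b = 1 := by
  simp only [zoList, Bool.and_eq_true, decide_eq_true_eq] at h
  have hlt : ∀ a ∈ R, a < chevE6.nroots := fun a ha => by
    have := allList_spec h.2 a ha
    rw [Bool.and_eq_true, Nat.blt_eq] at this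
    exact this.1
  have hnd : (toRoots chevE6 R).Nodup := by
    rw [← List.nodup_map_iff Fin.val_injective, toRoots_val hlt]; exact h.1
  refine ⟨hlt, List.Pairwise.imp_of_mem (fun {a b} ha hb hab => ?_) hnd⟩
  have ha' : a.val ∈ R := by rw [← toRoots_val hlt]; exact List.mem_map_of_mem ha
  have hb' : b.val ∈ R := by rw [← toRoots_val hlt]; exact List.mem_map_of_mem hb
  have := allList_spec h.2 _ ha'
  rw [Bool.and_eq_true] at this
  have := allList_spec this.2 _ hb'
  rw [natBeq_false (fun e => hab (Fin.ext e)), Bool.false_or] at this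
  exact (zoB_spec this).1

theorem rho_of_sumF {r s z : Fin chevE6.nroots} (hip : ip chevE6 r s = -1)
    (h : sumF chevE6 fastE6 r.val s.val = [z.val]) :
    TE6.C.G.rho z = TE6.C.G.rho r + TE6.C.G.rho s := by
  rw [sumF, commTermsF_eq (rowsOK checksE6.rows) TE6.C.keys r.isLt s.isLt] at h
  have h1 : s ≠ r := fun e => by rw [e, lacedC.2.1] at hip; omega
  have h2 : s ≠ TE6.C.G.negr r := fun e => by rw [e, ip_negr, lacedC.2.1] at hip; omega
  rcases lacedC.2.2 r s h1 h2 with ⟨-, h' | h'⟩ | ⟨z', c, e, -, -⟩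
  · omega
  · omega
  rw [e] at h
  simp only [List.map_cons, List.map_nil, List.cons.injEq, and_true] at h
  obtain ⟨-, -, hz, hzr⟩ := TE6.C.commTerms_weight (r := r) (s := s) (c := (z', c, 1, 1)) (by rw [e]; simp)
  rw [show z = ⟨z', hz⟩ from Fin.ext h.symm]
  simpa using hzr

end CfsgLib.Lie.Chev.TE6Invol
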