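import Cfsg.Agent.Lib.Lie.Chev.Tw.InvolF4Base

/-!
# Reduction of the involutions in the unipotent subgroup of ²F₄(q)
-/

set_option autoImplicit false
set_option maxRecDepth 100000
set_option maxHeartbeats 1000000
set_option linter.unusedSectionVars false
set_option linter.style.haveILetI false

namespace CfsgLib.Lie.Chev.TF4Invol

open Cfsg.Lie CfsgLib.Lie.CharTwo
open scoped MatrixGroups

/-- membership in a list -/
noncomputable def memB (k : ℕ) (l : List ℕ) : Bool := l.any (Nat.beq k)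

/-- the check of a conjugation step: the coordinates in `L` become zero, the one at `o` stays one -/
noncomputable def chkStep (G : List (ℕ × Sym.Poly × Sym.Poly)) (Z : List ℕ) (one : ℕ) (extra : List ℕ)
    (o : ℕ × ℕ) (L : List (ℕ × ℕ)) : Bool :=
  let w := col (conjW G Z one)
  decide (w.map Prod.fst = List.range' 24 24) && decide (Sym.coord o.1 w = [[]]) &&
    decide (o.2 = 2 * one) && decide (one < 12) &&
    go w L [] &&
    decide ((col (Pw (sub (L.map fun km => km.2 / 2) 12))).map Prod.fst = List.range' 24 24) &&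
    decide (Sym.coord o.1 (col (Pw (sub (L.map fun km => km.2 / 2) 12))) = Sym.v o.2)
where
  /-- the reading of the zero coordinates in turn -/
  go (w : Sym.Word) : List (ℕ × ℕ) → List ℕ → Bool
    | [], _ => true
    | (k, m) :: L, acc => ((Sym.coord k w).isEmpty || memB k extra) && decide (m < 24) &&
        decide ((col (Pw (sub acc 12))).map Prod.fst = List.range' 24 24) &&
        decide (Sym.coord k (col (Pw (sub acc 12))) = Sym.v m) && go w L ((m / 2) :: acc)

variable {K : Type*} [Field K] [CharP K 2] (θ : K ≃+* K) (Γ : Subgroup (GL chevF4.Idx K))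

/-- conjugacy in the group -/
def Cj (g h : GL chevF4.Idx K) : Prop := ∃ x ∈ Γ, x * g * x⁻¹ = h

theorem Cj.trans {g h k : GL chevF4.Idx K} (h1 : Cj Γ g h) (h2 : Cj Γ h k) : Cj Γ g k := by
  obtain ⟨x, hx, rfl⟩ := h1
  obtain ⟨y, hy, rfl⟩ := h2
  exact ⟨y * x, mul_mem hy hx, by group⟩

theorem Cj.sq {g g' : GL chevF4.Idx K} (h : Cj Γ g g') (hg : g * g = 1) : g' * g' = 1 := by
  obtain ⟨x, -, rfl⟩ := h
  calc x * g * x⁻¹ * (x * g * x⁻¹) = x * (g * g) * x⁻¹ := by group
    _ = 1 := by rw [hg, mul_one, mul_inv_cancel]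

variable {θ}

/-- the first representative -/
noncomputable def repA (θ : K ≃+* K) : GL chevF4.Idx K := P θ fun j => if j = 0 then 1 else 0

/-- the second representative -/
noncomputable def repB (θ : K ≃+* K) : GL chevF4.Idx K := P θ fun j => if j = 11 then 1 else 0

theorem P_congr {c c' : ℕ → K} (h : ∀ j < 12, c j = c' j) : P θ c = P θ c' := by
  refine W_subst θ fun i hi => ?_
  rw [Sym.ev_v]
  simp only [val, hi, if_true]
  rw [h (i / 2) (by omega)]

theorem sq_coord {Z : List ℕ} {one : ℕ} {c : ℕ → K} (hc : Ok Z one c) (h : P θ c * P θ c = 1) {k : ℕ}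
    {p : Sym.Poly} (hp : Sym.coord k (col (Pw (sub Z one) ++ Pw (sub Z one))) = p)
    (h0 : Sym.coord k (col []) = [] := by decide +kernel)
    (l : (col (Pw (sub Z one) ++ Pw (sub Z one))).map Prod.fst = List.range' 24 24 := by decide +kernel) :
    Sym.ev (val θ c) p = 0 := by
  have := coord_eq (ρ := val θ c) (ρ' := val θ c) (posW_append (posW_Pw _) (posW_Pw _)) (b := []) rfl l
    (by decide +kernel) (by rw [W_append, P_sub θ hc, h]; rfl) k
  rwa [hp, h0, Sym.ev_nil] at this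

variable (hsq : ∀ x, θ.symm x = θ x ^ 2) (hU : (TF4.twist θ hsq).Fix ⊓ chevF4.posUnipotent K ≤ Γ)
  (hs : ∀ g ∈ (TF4.twist θ hsq).Fix ⊓ chevF4.posUnipotent K, ∃ c, P θ c = g)

include hsq hU hs

theorem step {Z : List ℕ} {one : ℕ} {c : ℕ → K} (hc : Ok Z one c) (G : List (ℕ × Sym.Poly × Sym.Poly))
    (hG : ∀ e ∈ G, θ (Sym.ev (val θ c) e.2.1) = Sym.ev (val θ c) e.2.2) (extra : List ℕ) (o : ℕ × ℕ)
    (L : List (ℕ × ℕ)) (chk : chkStep G Z one extra o L = true)
    (hx : ∀ k ∈ extra, Sym.ev (val θ c) (Sym.coord k (col (conjW G Z one))) = 0) :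
    ∃ c', Cj Γ (P θ c) (P θ c') ∧ Ok (L.map fun km => km.2 / 2) one c' := by
  simp only [chkStep, Bool.and_eq_true, decide_eq_true_eq] at chk
  obtain ⟨⟨⟨⟨⟨⟨hl, ho⟩, ho2⟩, hone⟩, hgo⟩, hl2⟩, ho3⟩ := chk
  obtain ⟨ok, om⟩ := o
  dsimp only at ho ho2 ho3
  subst ho2
  set ρ := val θ c
  have hgs : ∀ i, Sym.ev ρ (gsub G (2 * i + 1)) = θ (Sym.ev ρ (gsub G (2 * i))) := by
    intro i
    clear hgo hl ho hx
    induction G with
    | nil => simp [gsub, Sym.ev_nil]
    | cons e G ih =>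
      simp only [gsub, show (2 * i + 1) / 2 = i by omega, show 2 * i / 2 = i by omega,
        show (2 * i + 1) % 2 = 1 by omega, show 2 * i % 2 = 0 by omega]
      cases Nat.beq i e.1 with
      | true => exact (hG e List.mem_cons_self).symm
      | false => exact ih fun x hx => hG x (List.mem_cons_of_mem _ hx)
  set g : ℕ → K := fun j => Sym.ev ρ (gsub G (2 * j))
  have hg : W ρ (Pw (gsub G)) = P θ g := W_subst θ fun i hi => by
    rcases Nat.even_or_odd' i with ⟨j, rfl | rfl⟩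
    · rw [val_even θ (by omega)]
    · rw [val_odd θ (by omega)]; exact hgs j
  have hw : W ρ (conjW G Z one) = P θ g * P θ c * (P θ g)⁻¹ := by
    rw [conjW, W_append, W_append, W_reverse _ (posW_Pw _), hg, P_sub θ hc]
  have hgm := P_mem_inf θ hsq g
  obtain ⟨c', hc'⟩ := hs (W ρ (conjW G Z one))
    (by rw [hw]; exact mul_mem (mul_mem hgm (P_mem_inf θ hsq c)) (inv_mem hgm))
  refine ⟨c', ⟨P θ g, hU hgm, by rw [← hw, hc']⟩, ?_⟩
  have key : ∀ k, Sym.ev (val θ c') (Sym.coord k CP) = Sym.ev ρ (Sym.coord k (col (conjW G Z one))) :=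
    fun k => coord_eq (posW_Pw _) (posW_conjW G Z one) (by decide +kernel) hl hc' k
  have main : ∀ (l : List (ℕ × ℕ)) (acc : List ℕ), chkStep.go extra (col (conjW G Z one)) l acc = true →
      (∀ j ∈ acc, c' j = 0) → ∀ km ∈ l, c' (km.2 / 2) = 0 := by
    intro l
    induction l with
    | nil => intro _ _ _ km h; cases h
    | cons a l ih =>
      obtain ⟨k, m⟩ := a
      intro acc hl' hacc km hkm
      simp only [chkStep.go, Bool.and_eq_true, decide_eq_true_eq] at hl'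
      obtain ⟨⟨⟨⟨h1, hm⟩, h2⟩, h3⟩, h4⟩ := hl'
      have e := (read θ (one := 12) (c := c') ⟨hacc, fun h => absurd h (by norm_num)⟩ h2 k).symm.trans (key k)
      rw [h3, Sym.ev_v] at e
      have e' : Sym.ev ρ (Sym.coord k (col (conjW G Z one))) = 0 := by
        simp only [Bool.or_eq_true, List.isEmpty_iff] at h1
        rcases h1 with h1 | h1
        · rw [h1, Sym.ev_nil]
        · obtain ⟨y, hy, he⟩ := List.any_eq_true.1 h1
          obtain rfl := Nat.eq_of_beq_eq_true he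
          exact hx _ hy
      rw [e'] at e
      have hz : c' (m / 2) = 0 := by
        simp only [val, hm, if_true] at e
        split at e
        · exact e
        · simpa using e
      rcases List.mem_cons.1 hkm with rfl | hkm
      · exact hz
      · refine ih _ h4 (fun j hj => ?_) km hkm
        rcases List.mem_cons.1 hj with rfl | hj
        exacts [hz, hacc j hj]
  have hz := main L [] hgo fun j h => by cases h
  have hzZ : ∀ j ∈ L.map (fun km => km.2 / 2), c' j = 0 := fun j hj => by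
    obtain ⟨km, hkm, rfl⟩ := List.mem_map.1 hj
    exact hz km hkm
  refine ⟨hzZ, fun h1 => ?_⟩
  have e := (read θ (one := 12) (c := c') ⟨hzZ, fun h => absurd h (by norm_num)⟩ hl2 ok).symm.trans (key ok)
  rw [ho3, ho, Sym.ev_v, Sym.ev_one, val_even θ h1] at e
  exact e

/-- an involution with leading parameter one in the first ray -/
theorem reduceA {c : ℕ → K} (hc : Ok [10, 11] 0 c) (h : P θ c * P θ c = 1) : Cj Γ (P θ c) (repA θ) := by
  obtain ⟨c1, j1, h1⟩ := step Γ hsq hU hs hc [(10, Sym.v 2, Sym.v 3)]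
    (by simp [Sym.ev_v, val]) [] (24, 0) [(25, 20), (26, 2), (28, 22)] (by decide +kernel) (by simp)
  obtain ⟨c2, j2, h2⟩ := step Γ hsq hU hs h1 [(11, Sym.v 9, Sym.v 33)]
    (by simp [Sym.ev_v, val]) [] (24, 0) [(25, 20), (26, 2), (28, 22), (29, 9)] (by decide +kernel) (by simp)
  have g2 := j2.sq Γ (j1.sq Γ h)
  have x0 : c2 7 = 0 := by
    have := sq_coord h2 g2 (k := 36) (p := Sym.v 15) (by decide +kernel)
    simpa [Sym.ev_v, val] using this
  have h2' : Ok [7, 10, 1, 11, 4] 0 c2 := ⟨by simp [x0, h2.1], h2.2⟩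
  have d0 : c2 9 = 0 := by
    have := sq_coord h2' g2 (k := 38) (p := Sym.v 19) (by decide +kernel)
    simpa [Sym.ev_v, val] using this
  have h2'' : Ok [9, 7, 10, 1, 11, 4] 0 c2 := ⟨by simp [x0, d0, h2.1], h2.2⟩
  have y0 : c2 8 = 0 := by
    have := sq_coord h2'' g2 (k := 44) (p := Sym.v 16) (by decide +kernel)
    simpa [Sym.ev_v, val] using this
  have h2₃ : Ok [8, 9, 7, 10, 1, 11, 4] 0 c2 := ⟨by simp [x0, d0, y0, h2.1], h2.2⟩
  obtain ⟨c3, j3, h3⟩ := step Γ hsq hU hs h2₃ [(4, Sym.ppow (Sym.v 5) 2, Sym.v 4)]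
    (by simp [Sym.ev_v, Sym.ev_ppow, val, ← hsq]) [] (24, 0)
    [(25, 20), (26, 2), (28, 22), (29, 9), (31, 14), (32, 18), (36, 4), (40, 16)] (by decide +kernel) (by simp)
  obtain ⟨c4, j4, h4⟩ := step Γ hsq hU hs h3 [(9, Sym.v 13, Sym.v 37)]
    (by simp [Sym.ev_v, val]) [45] (24, 0)
    [(25, 20), (26, 2), (28, 22), (29, 9), (31, 14), (32, 18), (36, 4), (40, 16), (45, 12)] (by decide +kernel)
    (by
      intro k hk
      rw [List.mem_singleton.1 hk, show Sym.coord 45 (col (conjW [(9, Sym.v 13, Sym.v 37)]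
        ([(25, 20), (26, 2), (28, 22), (29, 9), (31, 14), (32, 18), (36, 4), (40, 16)].map
          fun km : ℕ × ℕ => km.2 / 2) 0)) = Sym.padd (Sym.v 12) (Sym.ppow (Sym.v 37) 2) by decide +kernel]
      simp [Sym.ev_v, Sym.ev_padd, Sym.ev_ppow, val, tt_sq θ hsq, CharTwo.add_self_eq_zero])
  obtain ⟨c5, j5, h5⟩ := step Γ hsq hU hs h4 [(4, Sym.v 7, Sym.v 31), (7, Sym.v 7, Sym.v 31)]
    (by simp [Sym.ev_v, val]) [43] (24, 0)
    [(25, 20), (26, 2), (28, 22), (29, 9), (31, 14), (32, 18), (36, 4), (40, 16), (45, 12), (43, 6)]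
    (by decide +kernel)
    (by
      intro k hk
      rw [List.mem_singleton.1 hk, show Sym.coord 43 (col (conjW [(4, Sym.v 7, Sym.v 31), (7, Sym.v 7, Sym.v 31)]
        ([(25, 20), (26, 2), (28, 22), (29, 9), (31, 14), (32, 18), (36, 4), (40, 16), (45, 12)].map
          fun km : ℕ × ℕ => km.2 / 2) 0)) = Sym.padd (Sym.v 6) (Sym.ppow (Sym.v 31) 2) by decide +kernel]
      simp [Sym.ev_v, Sym.ev_padd, Sym.ev_ppow, val, tt_sq θ hsq, CharTwo.add_self_eq_zero])
  obtain ⟨c6, j6, h6⟩ := step Γ hsq hU hs h5 [(8, Sym.v 10, Sym.v 11)]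
    (by simp [Sym.ev_v, val]) [] (24, 0)
    [(25, 20), (26, 2), (28, 22), (29, 9), (31, 14), (32, 18), (36, 4), (40, 16), (45, 12), (43, 6), (44, 10)]
    (by decide +kernel) (by simp)
  refine ((((((j1.trans Γ j2).trans Γ j3).trans Γ j4).trans Γ j5).trans Γ j6).trans Γ ⟨1, one_mem _, ?_⟩)
  rw [one_mul, inv_one, mul_one, repA]
  refine P_congr fun j hj => ?_
  have hz : ∀ j < 12, j ≠ 0 → j ∈ [(25, 20), (26, 2), (28, 22), (29, 9), (31, 14), (32, 18), (36, 4), (40, 16),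
      (45, 12), (43, 6), (44, 10)].map fun km : ℕ × ℕ => km.2 / 2 := by decide
  by_cases h0 : j = 0
  · subst h0
    rw [if_pos rfl]; exact h6.2 (by norm_num)
  · rw [if_neg h0]; exact h6.1 j (hz j hj h0)

/-- an involution with leading parameter one in the last ray -/
theorem reduceB {c : ℕ → K} (hc : Ok [0, 10] 11 c) (h : P θ c * P θ c = 1) :
    ∃ c', Cj Γ (P θ c) (P θ c') ∧ Ok [0, 10, 1, 4, 7, 9, 2, 3, 5, 8] 11 c' := by
  have t0 : c 1 = 0 := by
    have := sq_coord hc h (k := 32) (p := Sym.v 2) (by decide +kernel)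
    simpa [Sym.ev_v, val] using this
  have hc' : Ok [1, 0, 10] 11 c := ⟨by simp [t0, hc.1], hc.2⟩
  obtain ⟨c1, j1, h1⟩ := step Γ hsq hU hs hc' [(0, Sym.v 14, Sym.v 15)]
    (by simp [Sym.ev_v, val]) [] (28, 22) [(24, 0), (25, 20), (26, 2), (31, 14)] (by decide +kernel) (by simp)
  obtain ⟨c2, j2, h2⟩ := step Γ hsq hU hs h1 [(1, Sym.v 18, Sym.v 19)]
    (by simp [Sym.ev_v, val]) [] (28, 22) [(24, 0), (25, 20), (26, 2), (31, 14), (32, 18)] (by decide +kernel)
    (by simp)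
  have g2 := j2.sq Γ (j1.sq Γ h)
  have u0 : c2 2 = 0 := by
    have := sq_coord h2 g2 (k := 45) (p := Sym.ppow (Sym.v 5) 2) (by decide +kernel)
    simpa [Sym.ev_v, Sym.ev_ppow, val] using this
  have h2' : Ok [2, 0, 10, 1, 7, 9] 11 c2 := ⟨by simp [u0, h2.1], h2.2⟩
  have v0 : c2 4 = 0 := by
    have := sq_coord h2' g2 (k := 44) (p := Sym.pmul (Sym.v 8) (Sym.v 9)) (by decide +kernel)
    simpa [Sym.ev_v, Sym.ev_pmul, val] using this
  have h2'' : Ok [4, 2, 0, 10, 1, 7, 9] 11 c2 := ⟨by simp [u0, v0, h2.1], h2.2⟩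
  have b0 : c2 3 = 0 := by
    have := sq_coord h2'' g2 (k := 46) (p := Sym.v 6) (by decide +kernel)
    simpa [Sym.ev_v, val] using this
  have h2₃ : Ok [3, 4, 2, 0, 10, 1, 7, 9] 11 c2 := ⟨by simp [u0, v0, b0, h2.1], h2.2⟩
  obtain ⟨c3, j3, h3⟩ := step Γ hsq hU hs h2₃ [(2, Sym.v 11, Sym.v 35)]
    (by simp [Sym.ev_v, val]) [44] (28, 22)
    [(24, 0), (25, 20), (26, 2), (29, 9), (31, 14), (32, 18), (36, 4), (43, 6), (44, 10)] (by decide +kernel)
    (by
      intro k hk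
      rw [List.mem_singleton.1 hk, show Sym.coord 44 (col (conjW [(2, Sym.v 11, Sym.v 35)]
        [3, 4, 2, 0, 10, 1, 7, 9] 11)) = Sym.padd (Sym.v 10) (Sym.ppow (Sym.v 35) 2) by decide +kernel]
      simp [Sym.ev_v, Sym.ev_padd, Sym.ev_ppow, val, tt_sq θ hsq, CharTwo.add_self_eq_zero])
  obtain ⟨c4, j4, h4⟩ := step Γ hsq hU hs h3 [(3, Sym.ppow (Sym.v 17) 2, Sym.v 16)]
    (by simp [Sym.ev_v, Sym.ev_ppow, val, ← hsq]) [] (28, 22)
    [(24, 0), (25, 20), (26, 2), (29, 9), (31, 14), (32, 18), (36, 4), (43, 6), (44, 10), (40, 16)]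
    (by decide +kernel) (by simp)
  exact ⟨c4, (((j1.trans Γ j2).trans Γ j3).trans Γ j4), h4⟩

end CfsgLib.Lie.Chev.TF4Invol
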