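import Cfsg.Agent.Lib.Lie.CharTwo.Sym
import Cfsg.Agent.Lib.Lie.Chev.Tw.F4Gp
import Cfsg.Agent.Lib.Lie.Laced.Pairing

/-!
# Coordinates in the unipotent subgroup of ²F₄(q)

The twelve parameters are numbered along the eight rays of the octagon; the variable `2 * j` stands for the
parameter `j`, the variable `2 * j + 1` for its image under `θ`, and the variable `25 + 2 * j` for its image
under `θ` applied twice.
-/

set_option autoImplicit false
set_option maxRecDepth 100000
set_option maxHeartbeats 1000000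
set_option linter.unusedSectionVars false
set_option linter.style.haveILetI false

namespace CfsgLib.Lie.Chev.TF4Invol

open Cfsg.Lie CfsgLib.Lie.CharTwo
open scoped MatrixGroups

/-- the collection -/
noncomputable def col (w : Sym.Word) : Sym.Word := Sym.collect chevF4 fastF4 200 (List.range' 24 24) w

/-- the word of a ray of type A -/
noncomputable def ray2 (a b : ℕ) (T T1 : Sym.Poly) : Sym.Word := [(a, T1), (b, T)]

/-- the word of a ray of type B₂ -/
noncomputable def ray4 (a b c d : ℕ) (T T1 U U1 : Sym.Poly) : Sym.Word :=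
  [(a, T1), (b, T), (c, Sym.padd (Sym.pmul T1 T) U), (d, Sym.ppow U1 2)]

/-- the word with given parameters -/
noncomputable def Pw (T : ℕ → Sym.Poly) : Sym.Word :=
  ray2 33 24 (T 0) (T 1) ++ ray4 34 26 36 42 (T 2) (T 3) (T 4) (T 5) ++ ray2 38 43 (T 6) (T 7) ++
    ray4 29 41 44 47 (T 8) (T 9) (T 10) (T 11) ++ ray2 39 45 (T 12) (T 13) ++
    ray4 35 31 40 46 (T 14) (T 15) (T 16) (T 17) ++ ray2 37 32 (T 18) (T 19) ++
    ray4 27 25 28 30 (T 20) (T 21) (T 22) (T 23)

/-- the parameters with some of them zero and one of them one -/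
noncomputable def sub (Z : List ℕ) (one : ℕ) (i : ℕ) : Sym.Poly :=
  cond (Z.any (Nat.beq (i / 2))) [] (cond (Nat.beq (i / 2) one) [[]] (Sym.v i))

/-- the parameters of a short word -/
noncomputable def gsub (G : List (ℕ × Sym.Poly × Sym.Poly)) (i : ℕ) : Sym.Poly :=
  match G with
  | [] => []
  | e :: G => cond (Nat.beq (i / 2) e.1) (cond (Nat.beq (i % 2) 0) e.2.1 e.2.2) (gsub G i)

/-- the coordinates of the general element -/
noncomputable def CP : Sym.Word := col (Pw Sym.v)

/-- the word of a conjugate -/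
noncomputable def conjW (G : List (ℕ × Sym.Poly × Sym.Poly)) (Z : List ℕ) (one : ℕ) : Sym.Word :=
  Pw (gsub G) ++ Pw (sub Z one) ++ (Pw (gsub G)).reverse

/-- the variables of a polynomial lie in a list -/
noncomputable def varsIn (S : List ℕ) (p : Sym.Poly) : Bool :=
  p.all fun m => m.all fun x => S.any (Nat.beq x)

/-- the triangular shape of the coordinates -/
noncomputable def triB : List (ℕ × ℕ) → List ℕ → Bool
  | [], _ => true
  | (k, m) :: l, S => varsIn S (Sym.padd (Sym.v m) (Sym.coord k CP)) && triB l ((2 * (m / 2)) :: (2 * (m / 2) + 1) :: S)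

/-- the coordinates determining the parameters -/
def tri : List (ℕ × ℕ) :=
  [(24, 0), (25, 20), (26, 2), (28, 22), (29, 9), (31, 14), (32, 18), (36, 4), (43, 6), (44, 10), (45, 12), (40, 16)]

theorem tri_ok : triB tri [] = true := by decide +kernel

/-- the positive roots of a word -/
noncomputable def posW (w : Sym.Word) : Bool := w.all fun y => Nat.ble 24 y.1 && Nat.blt y.1 48

theorem pos_root : ∀ r < 48, 24 ≤ r → chevF4.IsPosRoot r := by decide +kernel

theorem posW_spec {w : Sym.Word} (h : posW w = true) : ∀ y ∈ w, chevF4.IsPosRoot y.1 := fun y hy => by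
  have := List.all_eq_true.1 h y hy
  simp only [Bool.and_eq_true, Nat.ble_eq, Nat.blt_eq] at this
  exact pos_root _ this.2 this.1

theorem posW_Pw (T : ℕ → Sym.Poly) : posW (Pw T) = true := rfl

theorem posW_append {a b : Sym.Word} (ha : posW a = true) (hb : posW b = true) : posW (a ++ b) = true := by
  unfold posW at *
  rw [List.all_append, ha, hb]; rfl

theorem posW_reverse {a : Sym.Word} (ha : posW a = true) : posW a.reverse = true := by
  unfold posW at *
  rw [List.all_reverse, ha]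

theorem posW_conjW (G : List (ℕ × Sym.Poly × Sym.Poly)) (Z : List ℕ) (one : ℕ) : posW (conjW G Z one) = true :=
  posW_append (posW_append (posW_Pw _) (posW_Pw _)) (posW_reverse (posW_Pw _))

theorem range_pos : ∀ r ∈ List.range' 24 24, chevF4.IsPosRoot r := fun r hr => by
  rw [List.mem_range'_1] at hr
  exact pos_root r (by omega) hr.1

variable {K : Type*} [Field K] (θ : K ≃+* K)

/-- the values of the variables -/
def val (c : ℕ → K) (i : ℕ) : K :=
  if i < 24 then (if i % 2 = 0 then c (i / 2) else θ (c (i / 2)))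
  else θ (if i % 2 = 1 then θ (c ((i - 24) / 2)) else c ((i - 24) / 2))

theorem val_even {c : ℕ → K} {j : ℕ} (hj : j < 12) : val θ c (2 * j) = c j := by
  simp [val, show 2 * j < 24 by omega]

theorem val_odd {c : ℕ → K} {j : ℕ} (hj : j < 12) : val θ c (2 * j + 1) = θ (c j) := by
  simp [val, show 2 * j + 1 < 24 by omega, show (2 * j + 1) / 2 = j by omega]

theorem val_tt {c : ℕ → K} {j : ℕ} : val θ c (25 + 2 * j) = θ (θ (c j)) := by
  simp [val, show ¬ 25 + 2 * j < 24 by omega, show (25 + 2 * j) % 2 = 1 by omega,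
    show (25 + 2 * j - 24) / 2 = j by omega]

/-- the value of a word -/
noncomputable abbrev W (ρ : ℕ → K) (w : Sym.Word) : GL chevF4.Idx K := Sym.wev ρ TF4.C w

/-- the element with given parameters -/
noncomputable def P (c : ℕ → K) : GL chevF4.Idx K := W (val θ c) (Pw Sym.v)

variable [CharP K 2]

theorem col_spec (ρ : ℕ → K) {w : Sym.Word} (hw : posW w = true) : W ρ (col w) = W ρ w :=
  (Sym.collect_spec ρ TF4.C (rowsOK checksF4.rows) TF4.C.keys 200 range_pos w (posW_spec hw)).1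

theorem coord_eq {ρ ρ' : ℕ → K} {a b : Sym.Word} (ha : posW a = true) (hb : posW b = true)
    (la : (col a).map Prod.fst = List.range' 24 24) (lb : (col b).map Prod.fst = List.range' 24 24)
    (e : W ρ a = W ρ' b) (k : ℕ) : Sym.ev ρ (Sym.coord k (col a)) = Sym.ev ρ' (Sym.coord k (col b)) :=
  Sym.coord_unique ρ TF4.C ρ' _ (List.pairwise_lt_range' _) range_pos _ _ la lb
    (by rw [show Sym.wev ρ TF4.C (col a) = W ρ a from col_spec ρ ha,
      show Sym.wev ρ' TF4.C (col b) = W ρ' b from col_spec ρ' hb, e]) k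

theorem W_append (ρ : ℕ → K) (a b : Sym.Word) : W ρ (a ++ b) = W ρ a * W ρ b := Sym.wev_append ρ TF4.C a b

theorem W_reverse (ρ : ℕ → K) {w : Sym.Word} (hw : posW w = true) : W ρ w.reverse = (W ρ w)⁻¹ := by
  induction w with
  | nil => simp [Sym.wev]
  | cons x w ih =>
    have hp := posW_spec hw
    simp only [posW, List.all_cons, Bool.and_eq_true] at hw
    rw [List.reverse_cons, W_append, ih hw.2, show W ρ (x :: w) = Sym.xp ρ TF4.C x * W ρ w from Sym.wev_cons ρ TF4.C x w,
      _root_.mul_inv_rev]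
    congr 1
    simp only [Sym.wev, List.map_cons, List.map_nil, List.prod_cons, List.prod_nil, mul_one]
    rw [Sym.xp_pos ρ TF4.C (hp x List.mem_cons_self)]
    exact (inv_eq_of_mul_eq_one_right (by
      rw [← TF4.C.G.xu_add, CharTwo.add_self_eq_zero, TF4.C.G.xu_zero])).symm

/-- substitution -/
theorem W_subst {T : ℕ → Sym.Poly} {ρ : ℕ → K} {c : ℕ → K} (h : ∀ i < 24, Sym.ev ρ (T i) = val θ c i) :
    W ρ (Pw T) = P θ c := by
  have h' : ∀ i < 24, Sym.ev ρ (T i) = Sym.ev (val θ c) (Sym.v i) := fun i hi => by rw [Sym.ev_v]; exact h i hi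
  simp only [P, W, Sym.wev, Pw, ray2, ray4, List.map_append, List.map_cons, List.map_nil, Sym.xp,
    Sym.ev_padd, Sym.ev_pmul, Sym.ev_ppow]
  simp only [h' 0 (by norm_num), h' 1 (by norm_num), h' 2 (by norm_num), h' 3 (by norm_num), h' 4 (by norm_num),
    h' 5 (by norm_num), h' 6 (by norm_num), h' 7 (by norm_num), h' 8 (by norm_num), h' 9 (by norm_num),
    h' 10 (by norm_num), h' 11 (by norm_num), h' 12 (by norm_num), h' 13 (by norm_num), h' 14 (by norm_num),
    h' 15 (by norm_num), h' 16 (by norm_num), h' 17 (by norm_num), h' 18 (by norm_num), h' 19 (by norm_num),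
    h' 20 (by norm_num), h' 21 (by norm_num), h' 22 (by norm_num), h' 23 (by norm_num)]

/-- some parameters are zero and one is one -/
def Ok (Z : List ℕ) (one : ℕ) (c : ℕ → K) : Prop :=
  (∀ j ∈ Z, c j = 0) ∧ (one < 12 → c one = 1)

theorem ev_sub {Z : List ℕ} {one : ℕ} {c : ℕ → K} (h : Ok Z one c) {i : ℕ} (hi : i < 24) :
    Sym.ev (val θ c) (sub Z one i) = val θ c i := by
  unfold sub
  cases hZ : Z.any (Nat.beq (i / 2)) with
  | true =>
    obtain ⟨j, hj, he⟩ := List.any_eq_true.1 hZ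
    obtain rfl := Nat.eq_of_beq_eq_true he
    simp [Sym.ev_nil, val, hi, h.1 _ hj]
  | false =>
    cases hb : Nat.beq (i / 2) one with
    | true =>
      obtain rfl := Nat.eq_of_beq_eq_true hb
      simp [Sym.ev_one, val, hi, h.2 (by omega)]
    | false => exact Sym.ev_v _ _

theorem P_sub {Z : List ℕ} {one : ℕ} {c : ℕ → K} (h : Ok Z one c) :
    W (val θ c) (Pw (sub Z one)) = P θ c := W_subst θ fun _ hi => ev_sub θ h hi

/-- reading the coordinates of an element with some parameters zero -/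
theorem read {Z : List ℕ} {one : ℕ} {c : ℕ → K} (h : Ok Z one c)
    (l : (col (Pw (sub Z one))).map Prod.fst = List.range' 24 24) (k : ℕ) :
    Sym.ev (val θ c) (Sym.coord k CP) = Sym.ev (val θ c) (Sym.coord k (col (Pw (sub Z one)))) :=
  coord_eq (posW_Pw _) (posW_Pw _) (by decide +kernel) l (P_sub θ h).symm k

theorem ev_congr {ρ ρ' : ℕ → K} {S : List ℕ} (h : ∀ x ∈ S, ρ x = ρ' x) {p : Sym.Poly} (hp : varsIn S p = true) :
    Sym.ev ρ p = Sym.ev ρ' p := by
  unfold Sym.ev
  congr 1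
  refine List.map_congr_left fun m hm => ?_
  unfold Sym.mev
  congr 1
  refine List.map_congr_left fun x hx => ?_
  obtain ⟨y, hy, he⟩ := List.any_eq_true.1 (List.all_eq_true.1 (List.all_eq_true.1 hp m hm) x hx)
  obtain rfl := Nat.eq_of_beq_eq_true he
  exact h _ hy

theorem tri_inj {c c' : ℕ → K} (e : P θ c = P θ c') : ∀ (l : List (ℕ × ℕ)) (S : List ℕ),
    (∀ x ∈ S, val θ c x = val θ c' x) → triB l S = true → (∀ km ∈ l, km.2 < 24) →
    ∀ km ∈ l, c (km.2 / 2) = c' (km.2 / 2) := by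
  intro l
  induction l with
  | nil => intro _ _ _ _ km hkm; cases hkm
  | cons a l ih =>
    obtain ⟨k, m⟩ := a
    intro S hS hl hb km hkm
    simp only [triB, Bool.and_eq_true] at hl
    have hm : m < 24 := hb _ List.mem_cons_self
    have e1 := coord_eq (ρ := val θ c) (ρ' := val θ c') (posW_Pw Sym.v) (posW_Pw Sym.v) (by decide +kernel)
      (by decide +kernel) e k
    have e2 := ev_congr hS hl.1
    rw [Sym.ev_padd, Sym.ev_padd, show Sym.ev (val θ c) (Sym.coord k CP) = Sym.ev (val θ c') (Sym.coord k CP) from e1,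
      Sym.ev_v, Sym.ev_v] at e2
    have e3 := add_right_cancel e2
    have e4 : c (m / 2) = c' (m / 2) := by
      simp only [val, hm, if_true] at e3
      by_cases hmm : m % 2 = 0
      · simpa [hmm] using e3
      · simpa [hmm] using e3
    have hS' : ∀ x ∈ (2 * (m / 2)) :: (2 * (m / 2) + 1) :: S, val θ c x = val θ c' x := by
      intro x hx
      rcases List.mem_cons.1 hx with rfl | hx
      · rw [val_even θ (by omega), val_even θ (by omega), e4]
      · rcases List.mem_cons.1 hx with rfl | hx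
        · rw [val_odd θ (by omega), val_odd θ (by omega), e4]
        · exact hS x hx
    rcases List.mem_cons.1 hkm with rfl | hkm
    · exact e4
    · exact ih _ hS' hl.2 (fun km h => hb km (List.mem_cons_of_mem _ h)) km hkm

theorem P_inj {c c' : ℕ → K} (e : P θ c = P θ c') {j : ℕ} (hj : j < 12) : c j = c' j := by
  have h : ∀ j < 12, ∃ km ∈ tri, km.2 / 2 = j := by decide
  obtain ⟨km, hkm, rfl⟩ := h j hj
  refine tri_inj θ e tri [] (fun x hx => by cases hx) tri_ok ?_ km hkm
  decide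

variable (hsq : ∀ x, θ.symm x = θ x ^ 2)

include hsq

theorem tt_sq (x : K) : θ (θ x) ^ 2 = x := by rw [← hsq, RingEquiv.symm_apply_apply]

omit hsq in
/-- the data of a ray of type A -/
def PairDat (a b : Fin chevF4.nroots) : Prop :=
  graphF4.p.get a.val = b.val ∧ graphF4.p.get b.val = a.val ∧
      graphF4.lam.get a.val = 2 ∧ graphF4.lam.get b.val = 1 ∧
      graphF4.eps.get a.val = false ∧ graphF4.eps.get b.val = false ∧
      b.val ≠ a.val ∧ b.val ≠ chevF4.neg a.val ∧ chevF4.commTerms a.val b.val = []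

theorem pairs_ok : PairDat (TF4.rt 33) (TF4.rt 24) ∧ PairDat (TF4.rt 38) (TF4.rt 43) ∧
    PairDat (TF4.rt 39) (TF4.rt 45) ∧ PairDat (TF4.rt 37) (TF4.rt 32) := by
  unfold PairDat; decide +kernel

theorem quads_ok : TF4.B2Dat (TF4.rt 34) (TF4.rt 26) (TF4.rt 36) (TF4.rt 42) ∧
    TF4.B2Dat (TF4.rt 29) (TF4.rt 41) (TF4.rt 44) (TF4.rt 47) ∧
    TF4.B2Dat (TF4.rt 35) (TF4.rt 31) (TF4.rt 40) (TF4.rt 46) ∧
    TF4.B2Dat (TF4.rt 27) (TF4.rt 25) (TF4.rt 28) (TF4.rt 30) := by
  decide +kernel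

theorem ray2_fix {a b : ℕ} {ha : a < chevF4.nroots} {hb : b < chevF4.nroots}
    (hd : PairDat ⟨a, ha⟩ ⟨b, hb⟩) (ρ : ℕ → K) {T T1 : Sym.Poly} (e : Sym.ev ρ T1 = θ (Sym.ev ρ T)) :
    W ρ (ray2 a b T T1) ∈ (TF4.twist θ hsq).Fix := by
  have := TF4.p2_fix θ hsq hd (Sym.ev ρ T)
  simp only [W, Sym.wev, ray2, List.map_cons, List.map_nil, List.prod_cons, List.prod_nil, mul_one, Sym.xp,
    dif_pos ha, dif_pos hb, e]
  exact this

theorem ray4_fix {a b c d : ℕ} {ha : a < chevF4.nroots} {hb : b < chevF4.nroots} {hc : c < chevF4.nroots}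
    {hd' : d < chevF4.nroots} (hd : TF4.B2Dat ⟨a, ha⟩ ⟨b, hb⟩ ⟨c, hc⟩ ⟨d, hd'⟩) (ρ : ℕ → K)
    {T T1 U U1 : Sym.Poly} (e : Sym.ev ρ T1 = θ (Sym.ev ρ T)) (e' : Sym.ev ρ U1 = θ (Sym.ev ρ U)) :
    W ρ (ray4 a b c d T T1 U U1) ∈ (TF4.twist θ hsq).Fix := by
  have := TF4.b2_fix θ hsq hd (Sym.ev ρ T) (Sym.ev ρ U)
  simp only [TF4.b2, mul_assoc] at this
  simp only [W, Sym.wev, ray4, List.map_cons, List.map_nil, List.prod_cons, List.prod_nil, mul_one, Sym.xp,
    dif_pos ha, dif_pos hb, dif_pos hc, dif_pos hd', Sym.ev_padd, Sym.ev_pmul, Sym.ev_ppow, e, e', ← hsq]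
  exact this

theorem P_fix (c : ℕ → K) : P θ c ∈ (TF4.twist θ hsq).Fix := by
  obtain ⟨p1, p2, p3, p4⟩ := pairs_ok θ hsq
  obtain ⟨q1, q2, q3, q4⟩ := quads_ok θ hsq
  have hv : ∀ j < 12, Sym.ev (val θ c) (Sym.v (2 * j + 1)) = θ (Sym.ev (val θ c) (Sym.v (2 * j))) := fun j hj => by
    rw [Sym.ev_v, Sym.ev_v, val_even θ hj, val_odd θ hj]
  simp only [P, Pw, W_append]
  exact mul_mem (mul_mem (mul_mem (mul_mem (mul_mem (mul_mem (mul_mem
    (ray2_fix θ hsq p1 _ (hv 0 (by norm_num))) (ray4_fix θ hsq q1 _ (hv 1 (by norm_num)) (hv 2 (by norm_num))))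
    (ray2_fix θ hsq p2 _ (hv 3 (by norm_num)))) (ray4_fix θ hsq q2 _ (hv 4 (by norm_num)) (hv 5 (by norm_num))))
    (ray2_fix θ hsq p3 _ (hv 6 (by norm_num)))) (ray4_fix θ hsq q3 _ (hv 7 (by norm_num)) (hv 8 (by norm_num))))
    (ray2_fix θ hsq p4 _ (hv 9 (by norm_num)))) (ray4_fix θ hsq q4 _ (hv 10 (by norm_num)) (hv 11 (by norm_num)))

omit hsq in
theorem W_mem_U (ρ : ℕ → K) {w : Sym.Word} (hw : posW w = true) : W ρ w ∈ chevF4.posUnipotent K := by
  refine list_prod_mem fun g hg => ?_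
  obtain ⟨x, hx, rfl⟩ := List.mem_map.1 hg
  rw [Sym.xp_pos ρ TF4.C (posW_spec hw x hx)]
  exact TF4.C.G.xu_mem_U (posW_spec hw x hx) _

theorem P_mem_inf (c : ℕ → K) : P θ c ∈ (TF4.twist θ hsq).Fix ⊓ chevF4.posUnipotent K :=
  ⟨P_fix θ hsq c, W_mem_U _ (posW_Pw _)⟩

end CfsgLib.Lie.Chev.TF4Invol
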