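import Cfsg.Agent.Lib.Lie.Chev.Tw.InvolF4Count
import Cfsg.Agent.Lib.Lie.Chev.Tits.Main

/-!
# Involution classes of ²F₄(q) and of the Tits group
-/

set_option autoImplicit false
set_option maxRecDepth 100000
set_option maxHeartbeats 1000000
set_option linter.unusedSectionVars false
set_option linter.style.haveILetI false

namespace CfsgLib.Lie.Chev.TF4Invol

open Cfsg.Lie CfsgLib.Lie.CharTwo
open scoped MatrixGroups

/-- a word with parameters one -/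
noncomputable def oneW (L : List ℕ) : Sym.Word := L.map fun r => (r, [[]])

variable {K : Type*} [Field K] [CharP K 2] (θ : K ≃+* K)

theorem oneW_eq (ρ : ℕ → K) (L : List ℕ) : W ρ (oneW L) = Laced.nprod TF4.C L := by
  unfold W Sym.wev oneW Laced.nprod
  rw [List.map_map]
  congr 1
  refine List.map_congr_left fun r _ => ?_
  simp [Sym.xp, Laced.xn, Sym.ev_one]

theorem W_one (θ : K ≃+* K) {Z : List ℕ} {one : ℕ} {L : List ℕ} (hone : one < 12)
    (hZ : ∀ j < 12, j ≠ one → j ∈ Z) (hnot : one ∉ Z) (hL : posW (oneW L) = true)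
    (e : col (Pw (sub Z one)) = col (oneW L)) :
    P θ (fun j => if j = one then 1 else 0) = Laced.nprod TF4.C L := by
  set c : ℕ → K := fun j => if j = one then 1 else 0
  have hc : Ok Z one c := ⟨fun j hj => if_neg (by rintro rfl; exact hnot hj), fun _ => if_pos rfl⟩
  rw [← oneW_eq (val θ c) L, ← P_sub θ hc, ← col_spec _ (posW_Pw _), e, col_spec _ hL]

theorem repA_eq : repA θ = Laced.nprod TF4.C [33, 24] :=
  W_one θ (Z := [1, 2, 3, 4, 5, 6, 7, 8, 9, 10, 11]) (by norm_num) (by decide) (by decide) (by decide +kernel)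
    (by decide +kernel)

theorem repB_eq : repB θ = Laced.nprod TF4.C [28, 30] :=
  W_one θ (Z := [0, 1, 2, 3, 4, 5, 6, 7, 8, 9, 10]) (by norm_num) (by decide) (by decide) (by decide +kernel)
    (by decide +kernel)

theorem rank_reps :
    ((Units.val (repA θ)) - 1).rank = 24 ∧ ((Units.val (repB θ)) - 1).rank = 21 := by
  constructor
  · obtain ⟨B, A, P', Q, h⟩ := rankA
    rw [repA_eq]; exact Laced.rank_eq TF4.C (rowsOK checksF4.rows) h
  · obtain ⟨B, A, P', Q, h⟩ := rankB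
    rw [repB_eq]; exact Laced.rank_eq TF4.C (rowsOK checksF4.rows) h

theorem nprod_rel {L M : List ℕ} (hL : posW (oneW L) = true) (hM : posW (oneW M) = true)
    (e : col (oneW L) = col (oneW M)) : Laced.nprod TF4.C (K := K) L = Laced.nprod TF4.C M := by
  rw [← oneW_eq (fun _ => (0 : K)) L, ← oneW_eq (fun _ => (0 : K)) M, ← col_spec _ hL, e, col_spec _ hM]

variable [Fintype K]

/-- the two classes in the group -/
theorem classes (m : ℕ) (hK : Fintype.card K = 2 ^ (2 * m + 1)) (hθ : ∀ x, θ x = x ^ 2 ^ m)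
    (hsq : ∀ x, θ.symm x = θ x ^ 2) :
    repA θ ∈ twistedF4 K (2 ^ m) ∧ repB θ ∈ twistedF4 K (2 ^ m) ∧ orderOf (repA θ) = 2 ∧ orderOf (repB θ) = 2 ∧
    (¬ ∃ x ∈ twistedF4 K (2 ^ m), x * repA θ * x⁻¹ = repB θ) ∧
    ∀ g ∈ twistedF4 K (2 ^ m), orderOf g = 2 →
      Cj (twistedF4 K (2 ^ m)) g (repA θ) ∨ Cj (twistedF4 K (2 ^ m)) g (repB θ) := by
  classical
  have hP : TwGp (TF4.orbits θ hsq) (twistedF4 K (2 ^ m)) := TF4.twGp θ hsq hθ
  obtain ⟨-, hU, hH, hG, -⟩ := TF4.summary (m := m) hK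
  set q := 2 ^ (2 * m + 1) with hq
  have hqK : Nat.card K = q := by rw [Nat.card_eq_fintype_card, hK]
  have hs := card_params hsq hP hU hqK
  obtain ⟨rA, rB⟩ := rank_reps θ
  have hord : ∀ {g : GL chevF4.Idx K} {L : List ℕ}, g = Laced.nprod TF4.C L → posW (oneW (L ++ L)) = true →
      col (oneW (L ++ L)) = col (oneW []) → 0 < ((Units.val g) - 1).rank → orderOf g = 2 := by
    intro g L hg hp e hr
    haveI : Fact (Nat.Prime 2) := ⟨Nat.prime_two⟩
    refine orderOf_eq_prime ?_ fun h1 => by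
      rw [h1, Units.val_one, sub_self, Matrix.rank_zero] at hr; exact lt_irrefl _ hr
    rw [pow_two, hg]
    have := nprod_rel (K := K) hp rfl e
    rw [← oneW_eq (fun _ => (0 : K)) (L ++ L)] at this
    rw [← oneW_eq (fun _ => (0 : K)) L, ← W_append]
    simpa [oneW, Laced.nprod] using this
  refine ⟨hP.toPre.U_le (P_mem_inf θ hsq _), hP.toPre.U_le (P_mem_inf θ hsq _),
    hord (repA_eq θ) (by decide +kernel) (by decide +kernel) (by omega),
    hord (repB_eq θ) (by decide +kernel) (by decide +kernel) (by omega), ?_, ?_⟩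
  · rintro ⟨x, -, hx⟩
    have := Laced.rank_conj hx
    omega
  intro g hg h
  haveI : Fact (Nat.Prime 2) := ⟨Nat.prime_two⟩
  set S := (chevF4.posUnipotent K ⊓ twistedF4 K (2 ^ m)).subgroupOf (twistedF4 K (2 ^ m))
  have hScard : Nat.card S = q ^ 12 := by
    rw [Nat.card_congr (Subgroup.subgroupOfEquivOfLe inf_le_right).toEquiv, hU]
  have hS : IsPGroup 2 S := IsPGroup.of_card (n := (2 * m + 1) * 12) (by rw [hScard, hq, ← pow_mul])
  have hidx : ¬ 2 ∣ S.index := by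
    have hm := Subgroup.card_mul_index S
    rw [hScard, hG, mul_assoc, mul_assoc, mul_assoc] at hm
    have hq0 : 0 < q ^ 12 := by positivity
    rw [Nat.eq_of_mul_eq_mul_left hq0 hm]
    have hev : Even q := by rw [hq]; exact Nat.even_pow.2 ⟨even_two, by omega⟩
    have h1 : 1 ≤ q := by rw [hq]; exact Nat.one_le_two_pow
    rw [← even_iff_two_dvd, Nat.not_even_iff_odd]
    simp only [Nat.odd_mul]
    refine ⟨Nat.Even.sub_odd h1 hev odd_one, (hev.pow_of_ne_zero (by norm_num)).add_odd odd_one,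
      Nat.Even.sub_odd (Nat.one_le_pow _ _ h1) (hev.pow_of_ne_zero (by norm_num)) odd_one,
      (hev.pow_of_ne_zero (by norm_num)).add_odd odd_one⟩
  set g' : ↥(twistedF4 K (2 ^ m)) := ⟨g, hg⟩
  have hg2 : orderOf g' = 2 := (Subgroup.orderOf_coe g').symm.trans h
  obtain ⟨Q, hQ⟩ := (IsPGroup.of_card (p := 2) (n := 1) (G := ↥(Subgroup.zpowers g'))
    (by rw [Nat.card_zpowers, hg2, pow_one])).exists_le_sylow
  obtain ⟨x, hx⟩ := MulAction.exists_smul_eq ↥(twistedF4 K (2 ^ m)) Q (hS.toSylow hidx)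
  have hmem : x * g' * x⁻¹ ∈
      ((hS.toSylow hidx : Sylow 2 ↥(twistedF4 K (2 ^ m))) : Subgroup ↥(twistedF4 K (2 ^ m))) := by
    rw [← hx, Sylow.coe_subgroup_smul]
    exact Subgroup.smul_mem_pointwise_smul _ (MulAut.conj x) _ (hQ (Subgroup.mem_zpowers g'))
  rw [IsPGroup.toSylow_coe, Subgroup.mem_subgroupOf, hP.U_eq] at hmem
  obtain ⟨c, hc⟩ := hs _ hmem
  have hcj : Cj (twistedF4 K (2 ^ m)) g (P θ c) := ⟨x, x.2, by rw [hc]; rfl⟩
  have hgg : g * g = 1 := by rw [← pow_two, ← h]; exact pow_orderOf_eq_one g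
  refine (type_of_sq hsq hP hs (fun h1 => ?_) (hcj.sq _ hgg)).imp (hcj.trans _) (hcj.trans _)
  obtain ⟨y, -, ey⟩ := hcj
  rw [h1, mul_inv_eq_one, mul_eq_left] at ey
  rw [ey, orderOf_one] at h
  omega

theorem ncard_of_classes {G : Type*} [Group G] (a b : G) (ha : orderOf a = 2) (hb : orderOf b = 2)
    (hab : ¬ IsConj a b) (h : ∀ g : G, orderOf g = 2 → IsConj g a ∨ IsConj g b) :
    (ConjClasses.mk '' {g : G | orderOf g = 2}).ncard = 2 := by
  have hset : ConjClasses.mk '' {g : G | orderOf g = 2} = {ConjClasses.mk a, ConjClasses.mk b} := by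
    ext c
    simp only [Set.mem_image, Set.mem_setOf_eq, Set.mem_insert_iff, Set.mem_singleton_iff]
    constructor
    · rintro ⟨g, hg, rfl⟩
      exact (h g hg).imp ConjClasses.mk_eq_mk_iff_isConj.2 ConjClasses.mk_eq_mk_iff_isConj.2
    · rintro (rfl | rfl)
      exacts [⟨a, ha, rfl⟩, ⟨b, hb, rfl⟩]
  rw [hset, Set.ncard_pair fun e => hab (ConjClasses.mk_eq_mk_iff_isConj.1 e)]

/-- two classes in a subgroup of index two, each centralized by an element outside -/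
theorem index_two_count {G : Type*} [Group G] (Γ : Subgroup G) (N : Subgroup ↥Γ) (hN : N.index = 2) (a b : G)
    (ha : a ∈ Γ) (hb : b ∈ Γ) (ma : (⟨a, ha⟩ : ↥Γ) ∈ N) (mb : (⟨b, hb⟩ : ↥Γ) ∈ N)
    (oa : orderOf a = 2) (ob : orderOf b = 2) (hne : ¬ ∃ x ∈ Γ, x * a * x⁻¹ = b)
    (hcl : ∀ g ∈ Γ, orderOf g = 2 → (∃ x ∈ Γ, x * g * x⁻¹ = a) ∨ (∃ x ∈ Γ, x * g * x⁻¹ = b))
    (za zb : ↥Γ) (hza : za ∉ N) (hzb : zb ∉ N) (ca : za * ⟨a, ha⟩ = ⟨a, ha⟩ * za)
    (cb : zb * ⟨b, hb⟩ = ⟨b, hb⟩ * zb) :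
    (ConjClasses.mk '' {g : ↥N | orderOf g = 2}).ncard = 2 := by
  have fix : ∀ (r z : ↥Γ) (hr : r ∈ N), z ∉ N → z * r = r * z →
      ∀ g : ↥N, (∃ x : ↥Γ, x * (g : ↥Γ) * x⁻¹ = r) → IsConj g ⟨r, hr⟩ := by
    rintro r z hr hz hzr g ⟨x, hx⟩
    by_cases hxm : x ∈ N
    · exact isConj_iff.2 ⟨⟨x, hxm⟩, Subtype.ext hx⟩
    · refine isConj_iff.2 ⟨⟨z * x, (Subgroup.mul_mem_iff_of_index_two hN).2 (iff_of_false hz hxm)⟩, Subtype.ext ?_⟩
      show z * x * (g : ↥Γ) * (z * x)⁻¹ = r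
      calc z * x * (g : ↥Γ) * (z * x)⁻¹ = z * (x * g * x⁻¹) * z⁻¹ := by group
        _ = z * r * z⁻¹ := by rw [hx]
        _ = r := by rw [hzr]; group
  refine ncard_of_classes ⟨_, ma⟩ ⟨_, mb⟩ (by rw [← Subgroup.orderOf_coe, ← Subgroup.orderOf_coe]; exact oa)
    (by rw [← Subgroup.orderOf_coe, ← Subgroup.orderOf_coe]; exact ob) (fun e => ?_) fun g hg => ?_
  · obtain ⟨x, hx⟩ := isConj_iff.1 e
    exact hne ⟨((x : ↥Γ) : G), (x : ↥Γ).2, congrArg Subtype.val (congrArg Subtype.val hx)⟩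
  · rcases hcl _ (g : ↥Γ).2
        ((Subgroup.orderOf_coe (g : ↥Γ)).trans ((Subgroup.orderOf_coe g).trans hg)) with ⟨x, hx, e⟩ | ⟨x, hx, e⟩
    exacts [Or.inl (fix _ za ma hza ca g ⟨⟨x, hx⟩, Subtype.ext e⟩),
      Or.inr (fix _ zb mb hzb cb g ⟨⟨x, hx⟩, Subtype.ext e⟩)]

omit [CharP K 2] in
theorem card_classes (m : ℕ) (hK : Fintype.card K = 2 ^ (2 * m + 1)) :
    (ConjClasses.mk '' {g : ↥(twistedF4 K (2 ^ m)) | orderOf g = 2}).ncard = 2 := by
  obtain ⟨hc, θ, hsq, hθ⟩ := TF4.exists_theta hK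
  obtain ⟨ha, hb, oa, ob, hne, hcl⟩ := classes θ m hK hθ hsq
  refine ncard_of_classes ⟨_, ha⟩ ⟨_, hb⟩ ((Subgroup.orderOf_coe _).symm.trans oa)
    ((Subgroup.orderOf_coe _).symm.trans ob) (fun e => ?_) fun g hg => ?_
  · obtain ⟨x, hx⟩ := isConj_iff.1 e
    exact hne ⟨x, x.2, congrArg Subtype.val hx⟩
  · rcases hcl g g.2 ((Subgroup.orderOf_coe g).trans hg) with ⟨x, hx, e⟩ | ⟨x, hx, e⟩
    exacts [Or.inl (isConj_iff.2 ⟨⟨x, hx⟩, Subtype.ext e⟩), Or.inr (isConj_iff.2 ⟨⟨x, hx⟩, Subtype.ext e⟩)]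

theorem odd_gen {k : ℕ} (hk : k < 12) (h : Tits.kind k = true) : Tits.gΓ k ∉ commutator ↥Tits.Γ := by
  intro hm
  have hb : Tits.gΓ k ∈ Tits.B :=
    Tits.mem_B.2 (by rw [Tits.gΓ_val hk]; exact Tits.g_mem_Ks (Nat.zero_le _) hk)
  have h1 : Tits.χB ⟨_, hb⟩ = 1 := (Tits.main.2.2.2.2 ⟨_, hb⟩).1 hm
  rw [show Tits.χB ⟨_, hb⟩ = Tits.χ0 ⟨Tits.g k, Tits.g_mem_Ks (Nat.zero_le _) hk⟩ from
    congrArg Tits.χ0 (Subtype.ext (Tits.gΓ_val hk)), Tits.χ0_g hk, h] at h1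
  exact Tits.sgn_true_ne h1

theorem kinds_true : Tits.kind 1 = true ∧ Tits.kind 2 = true ∧ Tits.gen 1 = [25, 27, 30] ∧
    Tits.gen 2 = [26, 34, 42] := by decide +kernel

theorem g_eq {k : ℕ} (L : List ℕ) (h : Tits.gen k = L) : Tits.g k = Laced.nprod TF4.C L := by
  unfold Tits.g
  rw [h]
  rfl

/-- the two classes of the Tits group -/
theorem card_classes_tits : (ConjClasses.mk '' {g : Cfsg.Lie.TitsGroup | orderOf g = 2}).ncard = 2 := by
  have hK : Fintype.card (ZMod 2) = 2 ^ (2 * 0 + 1) := by rw [ZMod.card]; norm_num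
  obtain ⟨ha, hb, oa, ob, hne, hcl⟩ :=
    classes Tits.θ0 0 hK (fun x => by simp) Tits.hsq
  rw [pow_zero] at ha hb hne hcl
  have oa' : orderOf (⟨repA Tits.θ0, ha⟩ : ↥Tits.Γ) = 2 := (Subgroup.orderOf_coe _).symm.trans oa
  have ob' : orderOf (⟨repB Tits.θ0, hb⟩ : ↥Tits.Γ) = 2 := (Subgroup.orderOf_coe _).symm.trans ob
  have ma := Tits.involution_mem _ oa'
  have mb := Tits.involution_mem _ ob'
  obtain ⟨k1, k2, g1, g2⟩ := kinds_true
  have ca : Tits.gΓ 2 * ⟨repA Tits.θ0, ha⟩ = ⟨repA Tits.θ0, ha⟩ * Tits.gΓ 2 := Subtype.ext (by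
    rw [Subgroup.coe_mul, Subgroup.coe_mul, Tits.gΓ_val (by norm_num), g_eq _ g2]
    dsimp only
    rw [repA_eq]
    have := nprod_rel (K := ZMod 2) (L := [26, 34, 42] ++ [33, 24]) (M := [33, 24] ++ [26, 34, 42])
      (by decide +kernel) (by decide +kernel) (by decide +kernel)
    simpa [Laced.nprod, mul_assoc] using this)
  have cb : Tits.gΓ 1 * ⟨repB Tits.θ0, hb⟩ = ⟨repB Tits.θ0, hb⟩ * Tits.gΓ 1 := Subtype.ext (by
    rw [Subgroup.coe_mul, Subgroup.coe_mul, Tits.gΓ_val (by norm_num), g_eq _ g1]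
    dsimp only
    rw [repB_eq]
    have := nprod_rel (K := ZMod 2) (L := [25, 27, 30] ++ [28, 30]) (M := [28, 30] ++ [25, 27, 30])
      (by decide +kernel) (by decide +kernel) (by decide +kernel)
    simpa [Laced.nprod, mul_assoc] using this)
  exact index_two_count Tits.Γ (commutator ↥Tits.Γ) Tits.main.1 _ _ ha hb ma mb oa ob hne hcl _ _
    (odd_gen (by norm_num) k2) (odd_gen (by norm_num) k1) ca cb

end CfsgLib.Lie.Chev.TF4Invol
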