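import Cfsg.Agent.S2179
import Cfsg.Agent.Lib.Lie.Chev.ParabCard
import Cfsg.Agent.Lib.Lie.Chev.Tw.InvolF4Main
import Cfsg.Agent.Lib.Lie.Chev.Parab

/-!
# Elements commuting with an involution of ²F₄(q)

Every involution is conjugate in the Chevalley group of type F4 to one of two products of two root elements, whose
centralisers lie in parabolic subgroups with Levi factors of types B2 and A1 × A1.
-/

set_option autoImplicit false
set_option maxRecDepth 100000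
set_option maxHeartbeats 1000000
set_option linter.unusedSectionVars false

namespace CfsgLib.Lie.Chev.TF4Invol

open Cfsg.Lie
open scoped MatrixGroups

variable {K : Type*} [Field K] [CharP K 2]

theorem nw_xu_two (l : List (Fin chevF4.rank)) (s : Fin chevF4.nroots) (t : K) :
    TF4.C.G.nw l * TF4.C.G.xu s t = TF4.C.G.xu (TF4.C.G.pw l s) t * TF4.C.G.nw l := by
  induction l with
  | nil => simp [Good.nw_nil, Good.pw_nil]
  | cons i l ih =>
    rw [Good.nw_cons, mul_assoc, ih, ← mul_assoc, TF4.C.G.nU_xu, Good.pw_cons, Equiv.Perm.mul_apply,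
      Good.sP_apply]
    have h : ((TF4.C.G.eta i (TF4.C.G.pw l s) : ℤ) : K) = 1 := by
      rcases TF4.C.G.eta_unit i (TF4.C.G.pw l s) with e | e <;> rw [e] <;> simp [CharTwo.neg_eq]
    rw [h, one_mul, mul_assoc]

/-- the words moving the two representatives -/
theorem moves_ok :
    wordF fastF4 [2, 1, 2, 3, 1, 2, 0, 1, 2, 1] 33 + wordF fastF4 [2, 1, 2, 3, 1, 2, 0, 1, 2, 1] 24 = 84 ∧
    (wordF fastF4 [2, 1, 2, 3, 1, 2, 0, 1, 2, 1] 33 = 39 ∨ wordF fastF4 [2, 1, 2, 3, 1, 2, 0, 1, 2, 1] 33 = 45) ∧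
    wordF fastF4 [3, 2, 0, 1, 2, 3, 1, 0] 28 + wordF fastF4 [3, 2, 0, 1, 2, 3, 1, 0] 30 = 91 ∧
    (wordF fastF4 [3, 2, 0, 1, 2, 3, 1, 0] 28 = 44 ∨ wordF fastF4 [3, 2, 0, 1, 2, 3, 1, 0] 28 = 47) := by
  decide +kernel

theorem commute_pairs : oddTg chevF4 39 45 = [] ∧ oddTg chevF4 44 47 = [] := by decide +kernel

/-- a product of two root elements is moved to the other by a Weyl representative -/
theorem exists_move (l : List (Fin chevF4.rank)) (a b x y : Fin chevF4.nroots) (hxy : oddTg chevF4 x.val y.val = [])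
    (hx : chevF4.IsPosRoot x.val) (hy : chevF4.IsPosRoot y.val)
    (ha : (TF4.C.G.pw l a = x ∧ TF4.C.G.pw l b = y) ∨ (TF4.C.G.pw l a = y ∧ TF4.C.G.pw l b = x)) :
    ∃ n ∈ chevF4.group K, n * (TF4.C.G.xu a 1 * TF4.C.G.xu b 1) * n⁻¹ =
      TF4.C.G.xu x (1 : K) * TF4.C.G.xu y 1 := by
  refine ⟨TF4.C.G.nw l, TF4.C.G.monomial_le_group (TF4.C.G.nw_mem_monomial l), ?_⟩
  rw [mul_inv_eq_iff_eq_mul, ← mul_assoc, nw_xu_two, mul_assoc, nw_xu_two, ← mul_assoc]
  rcases ha with ⟨e1, e2⟩ | ⟨e1, e2⟩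
  · rw [e1, e2]
  · rw [e1, e2, (TF4.C.commute_of_odd hx hy hxy (1 : K) 1).eq]

theorem neg_simple_PJ (J : Finset (Fin chevF4.rank)) {i : Fin chevF4.rank} (hi : i ∈ J) {r : Fin chevF4.nroots}
    (hr : r.val = chevF4.neg (chevF4.simple i.val)) (t : K) :
    TF4.C.G.xu r t ∈ TF4.C.PJ (K := K) J := by
  have hn : r = TF4.C.G.negr (TF4.C.G.simp' i) :=
    Fin.ext (by rw [hr, TF4.C.G.negr_val, TF4.C.G.simp_val])
  have h1 := TF4.C.G.nU_xu i (TF4.C.G.simp' i) (-t : K)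
  rw [TF4.C.G.w_simp, TF4.C.G.eta_simp, Int.cast_neg, Int.cast_one, neg_one_mul, neg_neg] at h1
  rw [hn, show TF4.C.G.xu (TF4.C.G.negr (TF4.C.G.simp' i)) t =
    TF4.C.G.nU i * TF4.C.G.xu (TF4.C.G.simp' i) (-t) * (TF4.C.G.nU i)⁻¹ by rw [h1]; group]
  have hs : (TF4.C.G.nU i : GL chevF4.Idx K) ∈ TF4.C.PJ (K := K) J :=
    Subgroup.mem_sup_right (Subgroup.subset_closure (Set.mem_image_of_mem _ hi))
  exact mul_mem (mul_mem hs (TF4.C.borel_le_PJ J (Subgroup.mem_sup_left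
    (TF4.C.G.xu_mem_U (TF4.C.G.simp_pos i) _)))) (inv_mem hs)

theorem neg_rootSubgroup_le (J : Finset (Fin chevF4.rank)) {i : Fin chevF4.rank} (hi : i ∈ J)
    (r : Fin chevF4.nroots) (hr : r.val = chevF4.neg (chevF4.simple i.val)) :
    chevF4.rootSubgroup K r.val ≤ TF4.C.PJ (K := K) J := by
  rw [TF4.C.G.rootSubgroup_closure, Subgroup.closure_le]
  rintro g ⟨t, rfl⟩
  exact neg_simple_PJ J hi hr t

theorem pos_rootSubgroup_le (J : Finset (Fin chevF4.rank)) (r : Fin chevF4.nroots) (hr : chevF4.IsPosRoot r.val) :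
    chevF4.rootSubgroup K r.val ≤ TF4.C.PJ (K := K) J := by
  rw [TF4.C.G.rootSubgroup_closure, Subgroup.closure_le]
  rintro g ⟨t, rfl⟩
  exact TF4.C.borel_le_PJ J (Subgroup.mem_sup_left (TF4.C.G.xu_mem_U hr t))

theorem root_facts :
    (14 = chevF4.neg (chevF4.simple 0) ∧ 20 = chevF4.neg (chevF4.simple 1) ∧ 22 = chevF4.neg (chevF4.simple 2) ∧
      23 = chevF4.neg (chevF4.simple 3)) ∧
    chevF4.IsPosRoot 33 ∧ chevF4.IsPosRoot 24 := by
  decide +kernel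

variable [Fintype K]

/-- the centralisers of the two representatives -/
theorem cent_le :
    chevF4.group K ⊓ Subgroup.centralizer {TF4.C.G.xu (TF4.rt 39) (1 : K) * TF4.C.G.xu (TF4.rt 45) 1} ≤
      TF4.C.PJ (K := K) (idxSet chevF4 [0, 3]) ∧
    chevF4.group K ⊓ Subgroup.centralizer {TF4.C.G.xu (TF4.rt 44) (1 : K) * TF4.C.G.xu (TF4.rt 47) 1} ≤
      TF4.C.PJ (K := K) (idxSet chevF4 [1, 2]) := by
  obtain ⟨⟨h14, h20, h22, h23⟩, h33, h24⟩ := root_facts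
  constructor
  · rw [Cfsg.Agent.S2179.centV _ (by rw [Units.val_mul, ← TF4.C.G.x_eq_xu, ← TF4.C.G.x_eq_xu]; rfl)]
    refine sup_le (sup_le (sup_le (sup_le ?_ ?_) ?_) ?_) ?_
    · exact pos_rootSubgroup_le _ (TF4.rt 33) h33
    · exact neg_rootSubgroup_le _ (i := TF4.nd 0) (by decide +kernel) (TF4.rt 14) h14
    · exact pos_rootSubgroup_le _ (TF4.rt 24) h24
    · exact neg_rootSubgroup_le _ (i := TF4.nd 3) (by decide +kernel) (TF4.rt 23) h23
    · rw [Subgroup.closure_le]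
      rintro g ⟨r, c, hr, -, hg⟩
      rw [show g = TF4.C.G.xu ⟨r, hr.1⟩ c from Units.ext (hg.trans (TF4.C.G.x_eq_xu ⟨r, hr.1⟩ c))]
      exact TF4.C.borel_le_PJ _ (Subgroup.mem_sup_left (TF4.C.G.xu_mem_U hr c))
  · rw [(TF4.C.commute_of_odd (r := TF4.rt 44) (a := TF4.rt 47) (by decide +kernel) (by decide +kernel)
      commute_pairs.2 (1 : K) 1).eq,
      Cfsg.Agent.S2179.centW _ (by rw [Units.val_mul, ← TF4.C.G.x_eq_xu, ← TF4.C.G.x_eq_xu]; rfl)]
    refine sup_le (sup_le (le_sup_left.trans (TF4.C.borel_le_PJ _)) ?_) ?_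
    · exact neg_rootSubgroup_le _ (i := TF4.nd 1) (by decide +kernel) (TF4.rt 20) h20
    · exact neg_rootSubgroup_le _ (i := TF4.nd 2) (by decide +kernel) (TF4.rt 22) h22

/-- the prime divisors of the two parabolic subgroups -/
theorem prime_dvd_parab {r : ℕ} (hr : r.Prime) {L : List ℕ} (hL : L = [0, 3] ∨ L = [1, 2])
    (hd : r ∣ Nat.card ↥(TF4.C.PJ (K := K) (idxSet chevF4 L))) :
    r ∣ Fintype.card K * (Fintype.card K ^ 4 - 1) := by
  set q := Fintype.card K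
  have hq : 1 ≤ q := Fintype.card_pos
  have h4 : q ^ 4 - 1 = (q - 1) * ((q + 1) * (q ^ 2 + 1)) := by
    zify [hq, Nat.one_le_pow 4 q hq]; ring
  rw [h4]
  rw [TF4.C.card_PJ_eq (chkSupp_all (by simp)), TF4.C.card_borel, TF4.C.posUnipotent_card] at hd
  rcases hr.dvd_mul.1 hd with h | h
  · rcases hr.dvd_mul.1 h with h | h
    · exact (hr.dvd_of_dvd_pow h).trans (dvd_mul_right _ _)
    · exact (hr.dvd_of_dvd_pow (h.trans TF4.C.card_diagonal_dvd)).trans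
        (dvd_mul_of_dvd_right (dvd_mul_right _ _) _)
  · refine dvd_mul_of_dvd_right (dvd_mul_of_dvd_right ?_ _) _
    rcases hL with rfl | rfl
    · rw [PsumF4_03, add_comm 1 q] at h
      exact ((hr.dvd_mul.1 h).elim id id).trans (dvd_mul_right _ _)
    · rw [PsumF4_12, add_comm 1 q, add_comm 1 (q * q), ← pow_two q] at h
      rcases hr.dvd_mul.1 h with h | h
      · exact ((hr.dvd_mul.1 h).elim id id).trans (dvd_mul_right _ _)
      · exact h.trans (dvd_mul_left _ _)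

/-- the primes of the centraliser of an involution -/
theorem cent_primes (m : ℕ) (hK : Fintype.card K = 2 ^ (2 * m + 1)) (θ : K ≃+* K)
    (hsq : ∀ x, θ.symm x = θ x ^ 2) (hθ : ∀ x, θ x = x ^ 2 ^ m) {a b : GL chevF4.Idx K}
    (ha : a ∈ twistedF4 K (2 ^ m)) (hb : b ∈ twistedF4 K (2 ^ m)) (h2 : orderOf a = 2) (hab : Commute a b)
    {r : ℕ} (hr : r.Prime) (hrb : r ∣ orderOf b) : r ∣ Fintype.card K * (Fintype.card K ^ 4 - 1) := by
  obtain ⟨-, -, -, -, -, hcl⟩ := classes θ m hK hθ hsq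
  have hP : TwGp (TF4.orbits θ hsq) (twistedF4 K (2 ^ m)) := TF4.twGp θ hsq hθ
  have hG : ∀ {x : GL chevF4.Idx K}, x ∈ twistedF4 K (2 ^ m) → x ∈ chevF4.group K := fun hx =>
    (TF4.twist θ hsq).Fix_le (hP.toPre.le hx)
  have key : ∀ (L : List ℕ) (z : GL chevF4.Idx K), (L = [0, 3] ∨ L = [1, 2]) →
      chevF4.group K ⊓ Subgroup.centralizer {z} ≤ TF4.C.PJ (K := K) (idxSet chevF4 L) →
      ∀ x ∈ chevF4.group K, x * a * x⁻¹ = z → r ∣ Fintype.card K * (Fintype.card K ^ 4 - 1) := by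
    intro L z hL hle x hx e
    have hc : x * b * x⁻¹ ∈ TF4.C.PJ (K := K) (idxSet chevF4 L) := by
      refine hle (Subgroup.mem_inf.2 ⟨mul_mem (mul_mem hx (hG hb)) (inv_mem hx), ?_⟩)
      rw [Subgroup.mem_centralizer_singleton_iff, ← e]
      calc x * b * x⁻¹ * (x * a * x⁻¹) = x * (b * a) * x⁻¹ := by group
        _ = x * (a * b) * x⁻¹ := by rw [hab.eq]
        _ = x * a * x⁻¹ * (x * b * x⁻¹) := by group
    refine prime_dvd_parab hr hL ((hrb.trans (dvd_of_eq ?_)).trans (Subgroup.orderOf_dvd_natCard _ hc))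
    exact (orderOf_injective (MulAut.conj x).toMonoidHom (MulAut.conj x).injective b).symm
  obtain ⟨p1, c1, p2, c2⟩ := moves_ok
  have mv : ∀ (l : List (Fin chevF4.rank)) (s t x y : Fin chevF4.nroots),
      wordF fastF4 (l.map Fin.val) s.val + wordF fastF4 (l.map Fin.val) t.val = x.val + y.val →
      (wordF fastF4 (l.map Fin.val) s.val = x.val ∨ wordF fastF4 (l.map Fin.val) s.val = y.val) →
      (TF4.C.G.pw l s = x ∧ TF4.C.G.pw l t = y) ∨ (TF4.C.G.pw l s = y ∧ TF4.C.G.pw l t = x) := by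
    intro l s t x y hsum hor
    simp only [← TF4.C.G.pw_val checksF4] at hsum hor
    rcases hor with h | h
    · exact Or.inl ⟨Fin.ext h, Fin.ext (by omega)⟩
    · exact Or.inr ⟨Fin.ext h, Fin.ext (by omega)⟩
  rcases hcl a ha h2 with ⟨x, hx, e⟩ | ⟨x, hx, e⟩
  · obtain ⟨n, hn, en⟩ := exists_move (K := K)
      [TF4.nd 2, TF4.nd 1, TF4.nd 2, TF4.nd 3, TF4.nd 1, TF4.nd 2, TF4.nd 0, TF4.nd 1, TF4.nd 2, TF4.nd 1]
      (TF4.rt 33) (TF4.rt 24) (TF4.rt 39) (TF4.rt 45) commute_pairs.1 (by decide +kernel) (by decide +kernel)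
      (mv _ _ _ _ _ p1 c1)
    refine key [0, 3] _ (Or.inl rfl) cent_le.1 (n * x) (mul_mem hn (hG hx)) ?_
    rw [show n * x * a * (n * x)⁻¹ = n * (x * a * x⁻¹) * n⁻¹ by group, e, repA_eq, ← en]
    unfold Laced.nprod
    simp [Laced.xn, TF4.rt, Tits.nroots_eq]
  · obtain ⟨n, hn, en⟩ := exists_move (K := K)
      [TF4.nd 3, TF4.nd 2, TF4.nd 0, TF4.nd 1, TF4.nd 2, TF4.nd 3, TF4.nd 1, TF4.nd 0]
      (TF4.rt 28) (TF4.rt 30) (TF4.rt 44) (TF4.rt 47) commute_pairs.2 (by decide +kernel) (by decide +kernel)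
      (mv _ _ _ _ _ p2 c2)
    refine key [1, 2] _ (Or.inr rfl) cent_le.2 (n * x) (mul_mem hn (hG hx)) ?_
    rw [show n * x * a * (n * x)⁻¹ = n * (x * a * x⁻¹) * n⁻¹ by group, e, repB_eq, ← en]
    unfold Laced.nprod
    simp [Laced.xn, TF4.rt, Tits.nroots_eq]

end CfsgLib.Lie.Chev.TF4Invol
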