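import Cfsg.Agent.Lib.Lie.Chev.Tw.InvolF4
import Cfsg.Agent.Lib.Lie.Laced.Rank
import Cfsg.Agent.Lib.Lie.Laced.Classes

/-!
# The two classes of involutions of ²F₄(q)
-/

set_option autoImplicit false
set_option maxRecDepth 100000
set_option maxHeartbeats 1000000
set_option linter.unusedSectionVars false
set_option linter.style.haveILetI false

namespace CfsgLib.Lie.Chev.TF4Invol

open Cfsg.Lie CfsgLib.Lie.CharTwo
open scoped MatrixGroups

theorem rankA : ∃ B A P Q, Laced.chkRank chevF4 fastF4 [33, 24] 24 B A P Q = true :=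
    ⟨[137438953472, 268435456, 32, 2048, 528384, 3171328, 2113536, 16384, 12648448, 8388608, 16777216, 137438953473, 67108864, 268435464, 1073741824, 274877906944, 1657857376256, 1099511627776, 112184545771520, 74766790688768, 149533581377536, 4398046511104, 281474976710656, 2251799813685248],
     [0, 1, 2, 0, 4, 0, 0, 8, 16, 32, 64, 0, 0, 128, 0, 256, 512, 1024, 2048, 0, 192, 0, 512, 0, 0, 4096, 0, 8192, 0, 16384, 0, 32768, 65536, 131072, 262144, 524288, 1048576, 0, 0, 131072, 0, 2097152, 0, 0, 4194304, 2621440, 0, 0, 0, 0, 8388608, 0],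
     [2049, 0, 0, 8194, 0, 4, 0, 0, 0, 0, 96, 8, 16, 0, 128, 0, 768, 0, 0, 0, 0, 192, 0, 512, 1024, 0, 4096, 0, 2, 0, 16384, 0, 0, 196608, 0, 786432, 0, 1, 32768, 0, 131072, 0, 2097152, 1048576, 0, 0, 2621440, 0, 4194304, 0, 0, 8388608],
     [2, 4, 16, 128, 256, 512, 1024, 8192, 32768, 65536, 131072, 262144, 33554432, 134217728, 536870912, 2147483648, 4294967296, 8589934592, 17179869184, 34359738368, 68719476736, 2199023255552, 17592186044416, 1125899906842624], by decide +kernel⟩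

theorem rankB : ∃ B A P Q, Laced.chkRank chevF4 fastF4 [28, 30] 21 B A P Q = true :=
    ⟨[4294967296, 21474836480, 896, 512, 40960, 32768, 393216, 262144, 171966464, 134217728, 22028484614, 6442450946, 19327352832, 111669149696, 68719476736, 2748779069440, 2199023255552, 26388279066624, 17592186044416, 1970324836974592, 1125899906842624],
     [1, 0, 1, 2, 0, 4, 8, 0, 0, 0, 0, 16, 32, 0, 64, 0, 128, 0, 0, 256, 512, 1024, 0, 2048, 1, 0, 4096, 0, 8192, 0, 16384, 0, 0, 0, 0, 0, 0, 32768, 65536, 0, 131072, 0, 262144, 0, 0, 0, 524288, 1048576, 0, 0, 0, 0],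
     [0, 6146, 7168, 0, 0, 0, 0, 12, 0, 8, 0, 0, 0, 48, 0, 32, 0, 192, 128, 0, 0, 0, 768, 0, 0, 0, 0, 512, 0, 0, 0, 4099, 1, 24576, 3, 0, 16384, 0, 0, 98304, 0, 65536, 0, 393216, 262144, 0, 0, 0, 1572864, 0, 1048576, 0],
     [1, 8, 32, 64, 2048, 4096, 16384, 65536, 524288, 1048576, 2097152, 8388608, 67108864, 268435456, 1073741824, 137438953472, 274877906944, 1099511627776, 4398046511104, 70368744177664, 140737488355328], by decide +kernel⟩

/-- the letters with new roots and new variables -/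
noncomputable def relabel (f : ℕ → ℕ) : ℕ → Sym.Word → Sym.Word
  | _, [] => []
  | k, x :: w => (f x.1, Sym.v k) :: relabel f (k + 1) w

/-- the letters with non-zero parameters -/
noncomputable def strip (w : Sym.Word) : Sym.Word := w.filter fun y => !y.2.isEmpty

/-- the action of a product of the distinguished involutions on the roots -/
noncomputable def hopF : List ℕ → ℕ → ℕ
  | [], r => r
  | o :: l, r => digit (orbGraphF4.tab.get o) (hopF l r)

variable {K : Type*} [Field K] [CharP K 2] {θ : K ≃+* K}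

theorem strip_eq (ρ : ℕ → K) : ∀ w : Sym.Word, W ρ (strip w) = W ρ w := by
  intro w
  induction w with
  | nil => rfl
  | cons x w ih =>
    show W ρ (List.filter _ (x :: w)) = W ρ (x :: w)
    by_cases hx : x.2 = []
    · rw [List.filter_cons_of_neg (by simp [hx]), show W ρ (x :: w) = _ * _ from Sym.wev_cons ρ TF4.C x w]
      show W ρ (strip w) = _
      rw [ih]
      have : Sym.xp ρ TF4.C x = 1 := by
        unfold Sym.xp
        split
        · rw [hx, Sym.ev_nil, TF4.C.G.xu_zero]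
        · rfl
      rw [this, one_mul]
    · rw [List.filter_cons_of_pos (by simp [hx])]
      show Sym.wev ρ TF4.C (x :: strip w) = Sym.wev ρ TF4.C (x :: w)
      rw [Sym.wev_cons, Sym.wev_cons]
      exact congrArg _ ih

theorem conj_word (ρ : ℕ → K) {n : GL chevF4.Idx K} (f : ℕ → ℕ) (e : ℕ → K) : ∀ (w : Sym.Word) (pre : List K),
    (∀ x ∈ w, ∀ (h : x.1 < chevF4.nroots) (h' : f x.1 < chevF4.nroots) (t : K),
      n * TF4.C.G.xu ⟨x.1, h⟩ t * n⁻¹ = TF4.C.G.xu ⟨f x.1, h'⟩ (e x.1 * t)) →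
    posW w = true → posW (relabel f pre.length w) = true →
    n * W ρ w * n⁻¹ = W (fun i => (pre ++ w.map fun x => e x.1 * Sym.ev ρ x.2).getD i 0)
      (relabel f pre.length w) := by
  intro w
  induction w with
  | nil => intro pre _ _ _; simp [relabel, Sym.wev]
  | cons x w ih =>
    intro pre he hw hr
    have h := posW_spec hw x List.mem_cons_self
    have h' := posW_spec hr (f x.1, Sym.v pre.length) List.mem_cons_self
    simp only [posW, relabel, List.all_cons, Bool.and_eq_true] at hw hr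
    have ih' := ih (pre ++ [e x.1 * Sym.ev ρ x.2]) (fun y hy => he y (List.mem_cons_of_mem _ hy)) hw.2
      (by rw [List.length_append]; exact hr.2)
    rw [List.length_append, List.append_assoc] at ih'
    simp only [W, relabel, Sym.wev_cons]
    rw [Sym.xp_pos ρ TF4.C h, Sym.xp_pos _ TF4.C h',
      show ∀ a b : GL chevF4.Idx K, n * (a * b) * n⁻¹ = (n * a * n⁻¹) * (n * b * n⁻¹) from fun a b => by group,
      he x List.mem_cons_self h.1 h'.1]
    congr 1
    · congr 1
      simp [Sym.ev_v, List.getD_eq_getElem?_getD]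

variable (hsq : ∀ x, θ.symm x = θ x ^ 2)

include hsq

theorem card_params [Fintype K] {Γ : Subgroup (GL chevF4.Idx K)} (hP : TwGp (TF4.orbits θ hsq) Γ) {n : ℕ}
    (hcard : Nat.card ↥(chevF4.posUnipotent K ⊓ Γ) = n ^ 12) (hn : Nat.card K = n) :
    ∀ g ∈ (TF4.twist θ hsq).Fix ⊓ chevF4.posUnipotent K, ∃ c, P θ c = g := by
  classical
  intro g hg
  let ext : (Fin 12 → K) → ℕ → K := fun c i => if h : i < 12 then c ⟨i, h⟩ else 0
  let ι : (Fin 12 → K) → ↥((TF4.twist θ hsq).Fix ⊓ chevF4.posUnipotent K) := fun c =>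
    ⟨P θ (ext c), P_mem_inf θ hsq _⟩
  have hinj : Function.Injective ι := fun c c' e => funext fun i => by
    have := P_inj θ (congrArg Subtype.val e) i.isLt
    simpa [ext] using this
  have hc : Nat.card (Fin 12 → K) = Nat.card ↥((TF4.twist θ hsq).Fix ⊓ chevF4.posUnipotent K) := by
    rw [← hP.U_eq, hcard, Nat.card_fun, hn, Nat.card_fin]
  obtain ⟨c, hc'⟩ := (hinj.bijective_of_nat_card_le hc.ge).2 ⟨g, hg⟩
  exact ⟨ext c, congrArg Subtype.val hc'⟩

variable [Finite K] {Γ : Subgroup (GL chevF4.Idx K)} (hP : TwGp (TF4.orbits θ hsq) Γ)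
  (hs : ∀ g ∈ (TF4.twist θ hsq).Fix ⊓ chevF4.posUnipotent K, ∃ c, P θ c = g)

include hP hs

theorem transport {Z : List ℕ} {c : ℕ → K} (hc : Ok Z 12 c) {n : GL chevF4.Idx K} (hn : n ∈ Γ) (f : ℕ → ℕ)
    (e : ℕ → K)
    (he : ∀ x ∈ strip (Pw (sub Z 12)), ∀ (h : x.1 < chevF4.nroots) (h' : f x.1 < chevF4.nroots) (t : K),
      n * TF4.C.G.xu ⟨x.1, h⟩ t * n⁻¹ = TF4.C.G.xu ⟨f x.1, h'⟩ (e x.1 * t))
    (hw : posW (strip (Pw (sub Z 12))) = true) (hr : posW (relabel f 0 (strip (Pw (sub Z 12)))) = true)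
    (hl : (col (relabel f 0 (strip (Pw (sub Z 12))))).map Prod.fst = List.range' 24 24) :
    ∃ c', Cj Γ (P θ c) (P θ c') ∧ ∀ k, Sym.ev (val θ c') (Sym.coord k CP) =
      Sym.ev (fun i => ((strip (Pw (sub Z 12))).map fun x => e x.1 * Sym.ev (val θ c) x.2).getD i 0)
        (Sym.coord k (col (relabel f 0 (strip (Pw (sub Z 12)))))) := by
  have h1 := conj_word (val θ c) (n := n) f e _ [] he hw hr
  rw [strip_eq, P_sub θ hc] at h1
  simp only [List.nil_append, List.length_nil] at h1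
  have hmem : n * P θ c * n⁻¹ ∈ (TF4.twist θ hsq).Fix ⊓ chevF4.posUnipotent K :=
    Subgroup.mem_inf.2 ⟨mul_mem (mul_mem (hP.le hn) (P_fix θ hsq c)) (inv_mem (hP.le hn)), by rw [h1]; exact W_mem_U _ hr⟩
  obtain ⟨c', hc'⟩ := hs _ hmem
  refine ⟨c', ⟨n, hn, hc'.symm⟩, fun k => ?_⟩
  exact coord_eq (posW_Pw _) hr (by decide +kernel) hl (hc'.trans h1) k

omit hs in
theorem exists_hop : ∀ l : List ℕ, (∀ o ∈ l, o < orbGraphF4.no) → ∃ n ∈ Γ, ∃ π : Equiv.Perm (Fin chevF4.nroots),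
    TF4.C.G.NPerm n π ∧ ∀ r, (π r).val = hopF l r.val := by
  intro l
  induction l with
  | nil => intro _; exact ⟨1, one_mem _, 1, Good.NPerm.one _, fun r => rfl⟩
  | cons o l ih =>
    intro hl
    obtain ⟨n, hn, π, hπ, e⟩ := ih fun x hx => hl x (List.mem_cons_of_mem _ hx)
    set o' : Fin orbGraphF4.no := ⟨o, hl o List.mem_cons_self⟩
    refine ⟨hP.toPre.nk o' * n, mul_mem (hP.toPre.nk_mem o') hn, _, Good.NPerm.mul _ (hP.toPre.nk_perm o') hπ,
      fun r => ?_⟩
    rw [Equiv.Perm.mul_apply, TF4.wO_val θ hsq o', e r]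
    rfl

/-- moving a leading parameter by a Weyl element -/
theorem hop {Z : List ℕ} {c : ℕ → K} (hc : Ok Z 12 c) (l : List ℕ) (hl : ∀ o ∈ l, o < orbGraphF4.no)
    (k m idx r i : ℕ) (hm : m < 24) (hi : i < 24)
    (hw : posW (strip (Pw (sub Z 12))) = true) (hr : posW (relabel (hopF l) 0 (strip (Pw (sub Z 12)))) = true)
    (hcl : (col (relabel (hopF l) 0 (strip (Pw (sub Z 12))))).map Prod.fst = List.range' 24 24)
    (hidx : (strip (Pw (sub Z 12)))[idx]? = some (r, Sym.v i))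
    (hk : Sym.coord k (col (relabel (hopF l) 0 (strip (Pw (sub Z 12))))) = Sym.v idx)
    (hk0 : Sym.coord k CP = Sym.v m) :
    ∃ c', Cj Γ (P θ c) (P θ c') ∧ (val θ c i ≠ 0 → val θ c' m ≠ 0) ∧
      (Sym.coord 24 (col (relabel (hopF l) 0 (strip (Pw (sub Z 12))))) = [] → c' 0 = 0) := by
  classical
  obtain ⟨n, hn, π, hπ, e⟩ := exists_hop hsq hP l hl
  choose a ha using hπ
  let e' : ℕ → K := fun r => if h : r < chevF4.nroots then (a ⟨r, h⟩ : K) else 0
  obtain ⟨c', hj, hc'⟩ := transport hsq hP hs hc hn (hopF l) e' (fun x _ h h' t => by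
    simp only [e', dif_pos h]
    rw [ha]
    congr 1
    exact Fin.ext (e _)) hw hr hcl
  refine ⟨c', hj, fun h0 => ?_, fun h24 => ?_⟩
  · have h1 := hc' k
    rw [hk, hk0, Sym.ev_v, Sym.ev_v, List.getD_eq_getElem?_getD, List.getElem?_map, hidx] at h1
    simp only [Option.map_some, Option.getD_some, Sym.ev_v] at h1
    rw [h1]
    refine mul_ne_zero ?_ h0
    have hr' : r < chevF4.nroots := (posW_spec hw _ (List.mem_of_getElem? hidx)).1
    simp only [e', dif_pos hr']
    exact Units.ne_zero _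
  · have h1 := hc' 24
    rw [h24, show Sym.coord 24 CP = Sym.v 0 by decide +kernel, Sym.ev_v, Sym.ev_nil] at h1
    exact (val_even θ (c := c') (j := 0) (by norm_num)).symm.trans h1

omit hs in
theorem torA_mem (b : Kˣ) :
    TF4.C.G.hd (TF4.rt 33) (Units.map θ.toMonoidHom b) * TF4.C.G.hd (TF4.rt 24) b ∈ Γ ∧
    TF4.C.G.hd (TF4.rt 27) (Units.map θ.toMonoidHom b) * TF4.C.G.hd (TF4.rt 25) b ∈ Γ := by
  obtain ⟨s0, s1, s2, s3⟩ := TF4.simp_rt
  have hne : TF4.nd 0 ≠ TF4.nd 1 ∧ TF4.nd 0 ≠ TF4.nd 2 ∧ TF4.nd 0 ≠ TF4.nd 3 ∧ TF4.nd 1 ≠ TF4.nd 2 ∧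
      TF4.nd 1 ≠ TF4.nd 3 ∧ TF4.nd 2 ≠ TF4.nd 3 := by decide +kernel
  have key : ∀ (x y : Fin chevF4.rank) (u v : Kˣ) (z : Fin chevF4.rank → Kˣ),
      (∀ j, u ^ (if j = x then (1 : ℤ) else 0) * v ^ (if j = y then (1 : ℤ) else 0) = z j) →
      TF4.C.G.hd (TF4.C.G.simp' x) u * TF4.C.G.hd (TF4.C.G.simp' y) v = TF4.C.G.torθ z := by
    intro x y u v z hz
    rw [TF4.C.G.hd_eq_torθ, TF4.C.G.hd_eq_torθ, ← map_mul]
    congr 1
    funext j
    simp only [Pi.mul_apply, TF4.C.G.coroot_simp]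
    exact hz j
  constructor
  · rw [← s0, ← s3, key (TF4.nd 0) (TF4.nd 3) _ _ (TF4.par θ b 1) (fun j => by
      obtain ⟨v0, v1, v2, v3⟩ := TF4.par_vals θ b 1
      obtain ⟨n1, n2, n3, n4, n5, n6⟩ := hne
      rcases TF4.nd_cases j with rfl | rfl | rfl | rfl <;>
        simp [v0, v1, v2, v3, n1, n2, n3, n4, n5, n6, Ne.symm n1, Ne.symm n2, Ne.symm n3, Ne.symm n4,
          Ne.symm n5, Ne.symm n6])]
    exact hP.H_le ((TF4.twist θ hsq).torθ_mem_Fix (TF4.par_fixed θ hsq b 1))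
  · rw [← s1, ← s2, key (TF4.nd 1) (TF4.nd 2) _ _ (TF4.par θ 1 b) (fun j => by
      obtain ⟨v0, v1, v2, v3⟩ := TF4.par_vals θ 1 b
      obtain ⟨n1, n2, n3, n4, n5, n6⟩ := hne
      rcases TF4.nd_cases j with rfl | rfl | rfl | rfl <;>
        simp [v0, v1, v2, v3, n1, n2, n3, n4, n5, n6, Ne.symm n1, Ne.symm n2, Ne.symm n3, Ne.symm n4,
          Ne.symm n5, Ne.symm n6])]
    exact hP.H_le ((TF4.twist θ hsq).torθ_mem_Fix (TF4.par_fixed θ hsq 1 b))

omit hP hs in
theorem tor_conj (x y : Fin chevF4.nroots) (u v : Kˣ) (q : Fin chevF4.nroots) (t : K) :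
    TF4.C.G.hd x u * TF4.C.G.hd y v * TF4.C.G.xu q t * (TF4.C.G.hd x u * TF4.C.G.hd y v)⁻¹ =
      TF4.C.G.xu q (((u ^ Laced.ip chevF4 x q * v ^ Laced.ip chevF4 y q : Kˣ) : K) * t) := by
  rw [show TF4.C.G.hd x u * TF4.C.G.hd y v * TF4.C.G.xu q t * (TF4.C.G.hd x u * TF4.C.G.hd y v)⁻¹ =
    TF4.C.G.hd x u * (TF4.C.G.hd y v * TF4.C.G.xu q t * (TF4.C.G.hd y v)⁻¹) * (TF4.C.G.hd x u)⁻¹ by group,
    Laced.hd_conj, Laced.hd_conj, Units.val_mul, mul_assoc]

omit hP hs in
theorem r_zero {c : ℕ → K} (h : P θ c * P θ c = 1) : c 10 = 0 := by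
  have := sq_coord (Z := []) (one := 12) ⟨fun j hj => absurd hj List.not_mem_nil, fun h => absurd h (by norm_num)⟩ h (k := 30)
    (p := Sym.pmul (Sym.v 20) (Sym.ppow (Sym.v 21) 2)) (by decide +kernel)
  simpa [Sym.ev_v, Sym.ev_pmul, Sym.ev_ppow, val] using this

theorem typeA {c : ℕ → K} (ha : c 0 ≠ 0) (h : P θ c * P θ c = 1) : Cj Γ (P θ c) (repA θ) := by
  classical
  have hr0 := r_zero hsq h
  have hs0 : c 11 = 0 := by
    have := sq_coord (Z := [10]) (one := 12) (c := c) ⟨by simp [hr0], fun h => absurd h (by norm_num)⟩ h (k := 29)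
      (p := Sym.pmul (Sym.v 0) (Sym.v 22)) (by decide +kernel)
    simpa [Sym.ev_v, Sym.ev_pmul, val, ha] using this
  obtain ⟨y, hy⟩ := (bijective_frobenius K 2).2 (c 0)⁻¹
  rw [frobenius_def] at hy
  have hy0 : y ≠ 0 := by rintro rfl; exact inv_ne_zero ha (by simpa using hy.symm)
  set b := Units.mk0 y hy0 with hb
  let e : ℕ → K := fun r => if hr : r < chevF4.nroots then
    (((Units.map θ.toMonoidHom b) ^ Laced.ip chevF4 (TF4.rt 33) ⟨r, hr⟩ *
      b ^ Laced.ip chevF4 (TF4.rt 24) ⟨r, hr⟩ : Kˣ) : K) else 0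
  obtain ⟨c', hj, hc'⟩ := transport hsq hP hs (Z := [10, 11]) (c := c)
    ⟨by simp [hr0, hs0], fun h => absurd h (by norm_num)⟩ (torA_mem hsq hP b).1 id e
    (fun x _ h h' t => by
      simp only [e, dif_pos h, id_eq]
      exact tor_conj hsq _ _ _ _ _ t)
    (by decide +kernel) (by decide +kernel) (by decide +kernel)
  have h0 : c' 0 = 1 := by
    have h1 := hc' 24
    rw [show Sym.coord 24 (col (relabel id 0 (strip (Pw (sub [10, 11] 12))))) = Sym.v 1 by decide +kernel,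
      show Sym.coord 24 CP = Sym.v 0 by decide +kernel, Sym.ev_v, Sym.ev_v, List.getD_eq_getElem?_getD,
      List.getElem?_map,
      show (strip (Pw (sub [10, 11] 12)))[1]? = some (24, Sym.v 0) by decide +kernel] at h1
    simp only [Option.map_some, Option.getD_some, Sym.ev_v] at h1
    rw [← val_even θ (c := c') (j := 0) (by norm_num), h1,
      show val θ c 0 = c 0 from val_even θ (j := 0) (by norm_num)]
    have hip : Laced.ip chevF4 (TF4.rt 33) (TF4.rt 24) = 0 ∧ Laced.ip chevF4 (TF4.rt 24) (TF4.rt 24) = 2 := by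
      decide +kernel
    have hlt : (24 : ℕ) < chevF4.nroots := (TF4.rt 24).isLt
    simp only [e, dif_pos hlt, show (⟨24, hlt⟩ : Fin chevF4.nroots) = TF4.rt 24 from rfl, hip.1, hip.2,
      zpow_ofNat, pow_zero, one_mul, Units.val_pow_eq_pow_val, hb, Units.val_mk0, hy]
    exact inv_mul_cancel₀ ha
  have h10 : c' 10 = 0 := r_zero hsq (hj.sq Γ h)
  have h11 : c' 11 = 0 := by
    have := sq_coord (Z := [10]) (one := 12) (c := c') ⟨by simp [h10], fun h => absurd h (by norm_num)⟩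
      (hj.sq Γ h) (k := 29) (p := Sym.pmul (Sym.v 0) (Sym.v 22)) (by decide +kernel)
    simpa [Sym.ev_v, Sym.ev_pmul, val, h0] using this
  exact hj.trans Γ (reduceA Γ hsq hP.toPre.U_le hs ⟨by simp [h10, h11], fun _ => h0⟩ (hj.sq Γ h))

theorem typeB {c : ℕ → K} (ha : c 0 = 0) (hs0 : c 11 ≠ 0) (h : P θ c * P θ c = 1) :
    Cj Γ (P θ c) (repA θ) ∨ Cj Γ (P θ c) (repB θ) := by
  classical
  have hr0 := r_zero hsq h
  set b := Units.mk0 (c 11)⁻¹ (inv_ne_zero hs0) with hb
  let e : ℕ → K := fun r => if hr : r < chevF4.nroots then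
    (((Units.map θ.toMonoidHom b) ^ Laced.ip chevF4 (TF4.rt 27) ⟨r, hr⟩ *
      b ^ Laced.ip chevF4 (TF4.rt 25) ⟨r, hr⟩ : Kˣ) : K) else 0
  obtain ⟨c1, j1, hc'⟩ := transport hsq hP hs (Z := [0, 10]) (c := c)
    ⟨by simp [hr0, ha], fun h => absurd h (by norm_num)⟩ (torA_mem hsq hP b).2 id e
    (fun x _ h h' t => by
      simp only [e, dif_pos h, id_eq]
      exact tor_conj hsq _ _ _ _ _ t)
    (by decide +kernel) (by decide +kernel) (by decide +kernel)
  have a1 : c1 0 = 0 := by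
    have h1 := hc' 24
    rw [show Sym.coord 24 (col (relabel id 0 (strip (Pw (sub [0, 10] 12))))) = [] by decide +kernel,
      show Sym.coord 24 CP = Sym.v 0 by decide +kernel, Sym.ev_v, Sym.ev_nil] at h1
    exact (val_even θ (c := c1) (j := 0) (by norm_num)).symm.trans h1
  have s1 : c1 11 = 1 := by
    have h1 := hc' 28
    rw [show Sym.coord 28 (col (relabel id 0 (strip (Pw (sub [0, 10] 12))))) = Sym.v 18 by decide +kernel,
      show Sym.coord 28 CP = Sym.v 22 by decide +kernel, Sym.ev_v, Sym.ev_v, List.getD_eq_getElem?_getD,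
      List.getElem?_map,
      show (strip (Pw (sub [0, 10] 12)))[18]? = some (28, Sym.v 22) by decide +kernel] at h1
    simp only [Option.map_some, Option.getD_some, Sym.ev_v] at h1
    rw [← val_even θ (c := c1) (j := 11) (by norm_num), h1,
      show val θ c 22 = c 11 from val_even θ (j := 11) (by norm_num)]
    have hip : Laced.ip chevF4 (TF4.rt 27) (TF4.rt 28) = 0 ∧ Laced.ip chevF4 (TF4.rt 25) (TF4.rt 28) = 1 := by
      decide +kernel
    have hlt : (28 : ℕ) < chevF4.nroots := (TF4.rt 28).isLt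
    simp only [e, dif_pos hlt, show (⟨28, hlt⟩ : Fin chevF4.nroots) = TF4.rt 28 from rfl, hip.1, hip.2, zpow_zero,
      one_mul, zpow_one, hb, Units.val_mk0]
    exact inv_mul_cancel₀ hs0
  have g1 := j1.sq Γ h
  obtain ⟨c2, j2, h2⟩ := reduceB Γ hsq hP.toPre.U_le hs (c := c1)
    ⟨by simp [a1, r_zero hsq g1], fun _ => s1⟩ g1
  have j12 := j1.trans Γ j2
  have hz : ∀ j < 12, j ≠ 11 → j ≠ 6 → j ∈ [0, 10, 1, 4, 7, 9, 2, 3, 5, 8] := by decide
  by_cases h6 : c2 6 = 0
  · refine Or.inr (j12.trans Γ ⟨1, one_mem _, ?_⟩)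
    rw [one_mul, inv_one, mul_one, repB]
    refine P_congr fun j hj => ?_
    by_cases hj11 : j = 11
    · subst hj11; rw [if_pos rfl]; exact h2.2 (by norm_num)
    · rw [if_neg hj11]
      by_cases hj6 : j = 6
      · subst hj6; exact h6
      · exact h2.1 j (hz j hj hj11 hj6)
  · obtain ⟨c3, j3, h3, -⟩ := hop hsq hP hs (Z := [0, 1, 2, 3, 4, 5, 10]) (c := c2)
      ⟨fun j hj => h2.1 j (by revert j; decide), fun h => absurd h (by norm_num)⟩ [1, 0, 1, 0] (by decide +kernel)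
      24 0 1 45 12 (by norm_num) (by norm_num) (by decide +kernel) (by decide +kernel) (by decide +kernel)
      (by decide +kernel) (by decide +kernel) (by decide +kernel)
    have h30 : c3 0 ≠ 0 := by
      have := h3 (by rw [show val θ c2 12 = c2 6 from val_even θ (j := 6) (by norm_num)]; exact h6)
      rwa [show val θ c3 0 = c3 0 from val_even θ (j := 0) (by norm_num)] at this
    have j13 := j12.trans Γ j3
    exact Or.inl (j13.trans Γ (typeA hsq hP hs h30 (j13.sq Γ h)))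

theorem type_of_sq {c : ℕ → K} (hne : P θ c ≠ 1) (h : P θ c * P θ c = 1) :
    Cj Γ (P θ c) (repA θ) ∨ Cj Γ (P θ c) (repB θ) := by
  by_cases h0 : c 0 ≠ 0
  · exact Or.inl (typeA hsq hP hs h0 h)
  rw [not_not] at h0
  by_cases h11 : c 11 ≠ 0
  · exact typeB hsq hP hs h0 h11 h
  rw [not_not] at h11
  have hr0 := r_zero hsq h
  have nil12 : ∀ {Z : List ℕ}, (∀ j ∈ Z, c j = 0) → Ok Z 12 c := fun hZ => ⟨hZ, fun h => absurd h (by norm_num)⟩
  -- a leading parameter moved to the first ray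
  have toA : ∀ {c' : ℕ → K} {i : ℕ}, Cj Γ (P θ c) (P θ c') → i < 12 → c i ≠ 0 →
      (val θ c (2 * i) ≠ 0 → val θ c' 0 ≠ 0) → Cj Γ (P θ c) (repA θ) := fun {c' i} j hi hci hh => by
    have := hh (by rw [val_even θ hi]; exact hci)
    rw [show val θ c' 0 = c' 0 from val_even θ (j := 0) (by norm_num)] at this
    exact j.trans Γ (typeA hsq hP hs this (j.sq Γ h))
  -- the first parameter of an odd ray is zero
  have noT : ∀ {c' : ℕ → K} {i : ℕ}, Cj Γ (P θ c) (P θ c') → i < 12 →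
      (val θ c (2 * i) ≠ 0 → val θ c' 20 ≠ 0) → c i = 0 := fun {c' i} j hi hh => by
    by_contra hci
    have := hh (by rw [val_even θ hi]; exact hci)
    rw [show val θ c' 20 = c' 10 from val_even θ (j := 10) (by norm_num)] at this
    exact this (r_zero hsq (j.sq Γ h))
  have toB : ∀ {c' : ℕ → K} {i : ℕ}, Cj Γ (P θ c) (P θ c') → i < 12 → c i ≠ 0 →
      (val θ c (2 * i) ≠ 0 → val θ c' 22 ≠ 0) → c' 0 = 0 → Cj Γ (P θ c) (repA θ) ∨ Cj Γ (P θ c) (repB θ) :=
    fun {c' i} j hi hci hh ha => by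
    have := hh (by rw [val_even θ hi]; exact hci)
    rw [show val θ c' 22 = c' 11 from val_even θ (j := 11) (by norm_num)] at this
    exact (typeB hsq hP hs ha this (j.sq Γ h)).imp (j.trans Γ) (j.trans Γ)
  obtain ⟨d, jd, hd, -⟩ := hop hsq hP hs (nil12 (Z := [0, 10]) (by simp [h0, hr0])) [0] (by decide +kernel)
    25 20 1 26 2 (by norm_num) (by norm_num) (by decide +kernel) (by decide +kernel) (by decide +kernel)
    (by decide +kernel) (by decide +kernel) (by decide +kernel)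
  have c1 : c 1 = 0 := noT (i := 1) jd (by norm_num) hd
  obtain ⟨d, jd, hd, hd0⟩ := hop hsq hP hs (nil12 (Z := [0, 10, 1]) (by simp [h0, hr0, c1])) [0] (by decide +kernel)
    28 22 0 36 4 (by norm_num) (by norm_num) (by decide +kernel) (by decide +kernel) (by decide +kernel)
    (by decide +kernel) (by decide +kernel) (by decide +kernel)
  by_cases c2 : c 2 ≠ 0
  · exact toB (i := 2) jd (by norm_num) c2 hd (hd0 (by decide +kernel))
  rw [not_not] at c2
  obtain ⟨d, jd, hd, -⟩ := hop hsq hP hs (nil12 (Z := [0, 10, 1, 2]) (by simp [h0, hr0, c1, c2])) [1, 0]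
    (by decide +kernel) 24 0 1 43 6 (by norm_num) (by norm_num) (by decide +kernel) (by decide +kernel)
    (by decide +kernel) (by decide +kernel) (by decide +kernel) (by decide +kernel)
  by_cases c3 : c 3 ≠ 0
  · exact Or.inl (toA (i := 3) jd (by norm_num) c3 hd)
  rw [not_not] at c3
  obtain ⟨d, jd, hd, -⟩ := hop hsq hP hs (nil12 (Z := [0, 10, 1, 2, 3]) (by simp [h0, hr0, c1, c2, c3])) [0, 1, 0]
    (by decide +kernel) 25 20 1 41 8 (by norm_num) (by norm_num) (by decide +kernel) (by decide +kernel)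
    (by decide +kernel) (by decide +kernel) (by decide +kernel) (by decide +kernel)
  have c4 : c 4 = 0 := noT (i := 4) jd (by norm_num) hd
  obtain ⟨d, jd, hd, hd0⟩ := hop hsq hP hs (nil12 (Z := [0, 10, 1, 2, 3, 4])
    (by simp [h0, hr0, c1, c2, c3, c4])) [0, 1, 0] (by decide +kernel) 28 22 0 44 10 (by norm_num) (by norm_num)
    (by decide +kernel) (by decide +kernel) (by decide +kernel) (by decide +kernel) (by decide +kernel)
    (by decide +kernel)
  by_cases c5 : c 5 ≠ 0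
  · exact toB (i := 5) jd (by norm_num) c5 hd (hd0 (by decide +kernel))
  rw [not_not] at c5
  obtain ⟨d, jd, hd, -⟩ := hop hsq hP hs (nil12 (Z := [0, 10, 1, 2, 3, 4, 5])
    (by simp [h0, hr0, c1, c2, c3, c4, c5])) [1, 0, 1, 0] (by decide +kernel) 24 0 1 45 12 (by norm_num)
    (by norm_num) (by decide +kernel) (by decide +kernel) (by decide +kernel) (by decide +kernel) (by decide +kernel)
    (by decide +kernel)
  by_cases c6 : c 6 ≠ 0
  · exact Or.inl (toA (i := 6) jd (by norm_num) c6 hd)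
  rw [not_not] at c6
  obtain ⟨d, jd, hd, -⟩ := hop hsq hP hs (nil12 (Z := [0, 10, 1, 2, 3, 4, 5, 6])
    (by simp [h0, hr0, c1, c2, c3, c4, c5, c6])) [0, 1, 0, 1, 0] (by decide +kernel) 25 20 1 31 14 (by norm_num)
    (by norm_num) (by decide +kernel) (by decide +kernel) (by decide +kernel) (by decide +kernel) (by decide +kernel)
    (by decide +kernel)
  have c7 : c 7 = 0 := noT (i := 7) jd (by norm_num) hd
  obtain ⟨d, jd, hd, hd0⟩ := hop hsq hP hs (nil12 (Z := [0, 10, 1, 2, 3, 4, 5, 6, 7])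
    (by simp [h0, hr0, c1, c2, c3, c4, c5, c6, c7])) [0, 1, 0, 1, 0] (by decide +kernel) 28 22 0 40 16 (by norm_num)
    (by norm_num) (by decide +kernel) (by decide +kernel) (by decide +kernel) (by decide +kernel) (by decide +kernel)
    (by decide +kernel)
  by_cases c8 : c 8 ≠ 0
  · exact toB (i := 8) jd (by norm_num) c8 hd (hd0 (by decide +kernel))
  rw [not_not] at c8
  obtain ⟨d, jd, hd, -⟩ := hop hsq hP hs (nil12 (Z := [0, 10, 1, 2, 3, 4, 5, 6, 7, 8])
    (by simp [h0, hr0, c1, c2, c3, c4, c5, c6, c7, c8])) [1, 0, 1, 0, 1, 0] (by decide +kernel) 24 0 1 32 18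
    (by norm_num) (by norm_num) (by decide +kernel) (by decide +kernel) (by decide +kernel) (by decide +kernel)
    (by decide +kernel) (by decide +kernel)
  by_cases c9 : c 9 ≠ 0
  · exact Or.inl (toA (i := 9) jd (by norm_num) c9 hd)
  rw [not_not] at c9
  refine absurd ?_ hne
  have hP0 : P θ c = P θ (fun _ => 0) := P_congr fun j hj => by
    interval_cases j <;> assumption
  rw [hP0]
  simp only [P, W, Sym.wev, Pw, ray2, ray4, List.map_append, List.map_cons, List.map_nil, Sym.xp, Sym.ev_padd,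
    Sym.ev_pmul, Sym.ev_ppow, Sym.ev_v]
  simp [val, TF4.C.G.xu_zero]

end CfsgLib.Lie.Chev.TF4Invol
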