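import Cfsg.Agent.Lib.Lie.Chev.Tw.Aut
import Cfsg.Agent.Lib.Lie.Chev.Tw.Card

/-!
# Twists from intertwiners, and normal forms of the orbit groups
-/

set_option autoImplicit false

namespace CfsgLib.Lie.Chev

open Cfsg.Lie
open scoped MatrixGroups

variable {D : ChevalleyDatum} {f : Fast} {E : EmbData}

/-- the checks for a twist -/
noncomputable def chkTwist (D : ChevalleyDatum) (f : Fast) (E : EmbData) (node : Tree ℕ) : Bool :=
  (allLt D.rank fun i => Nat.blt (node.get i) D.rank &&
    Nat.beq (E.p.get (f.simples.get i)) (f.simples.get (node.get i)) &&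
    !(E.eps.get (f.simples.get i)) && !(E.eps.get (f.negs.get (f.simples.get i))) &&
    Nat.beq (E.lam.get (f.negs.get (f.simples.get i))) (E.lam.get (f.simples.get i))) &&
  (allLt D.nroots fun r => Nat.beq (E.p.get (f.negs.get r)) (f.negs.get (E.p.get r)) &&
    cond (Nat.ble (D.nroots / 2) r) (Nat.ble (D.nroots / 2) (E.p.get r))
      (Nat.blt (E.p.get r) (D.nroots / 2))) &&
  (allLt D.nroots fun s => !(allLt D.nroots fun r => !(Nat.beq (E.p.get r) s)))

namespace Emb

variable {G : Good D} (h : Emb G f E) {node : Tree ℕ} (hc : chkTwist D f E node = true)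

include h hc

theorem tw_node (i : Fin D.rank) : node.get i.val < D.rank ∧
    E.p.get (G.simp' i).val = f.simples.get (node.get i.val) ∧
    E.eps.get (G.simp' i).val = false ∧ E.eps.get (G.negr (G.simp' i)).val = false ∧
    E.lam.get (G.negr (G.simp' i)).val = E.lam.get (G.simp' i).val := by
  simp only [chkTwist, Bool.and_eq_true] at hc
  have := allLt_spec hc.1.1 i.val i.isLt
  simp only [Bool.and_eq_true, Nat.blt_eq, Nat.beq_eq, Bool.not_eq_true'] at this
  rw [G.simples_eq' h.checks, (rowsOK h.checks.rows).negs _ (G.simp' i).isLt,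
    show D.negIdx.getD (G.simp' i).val 0 = (G.negr (G.simp' i)).val from (G.negr_val _).symm] at this
  obtain ⟨⟨⟨⟨a, b⟩, c⟩, d⟩, e⟩ := this
  exact ⟨a, b, c, d, e⟩

theorem proot_surj : Function.Surjective h.proot := by
  simp only [chkTwist, Bool.and_eq_true] at hc
  intro s
  have := allLt_spec hc.2 s.val s.isLt
  simp only [Bool.not_eq_true'] at this
  by_contra hne
  simp only [not_exists] at hne
  rw [allLt_eq_true fun r hr => by
    rw [natBeq_false (show E.p.get r ≠ s.val from fun e => hne ⟨r, hr⟩ (Fin.ext e))]; rfl] at this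
  exact Bool.false_ne_true this.symm

/-- the permutation of the roots -/
noncomputable def rootPerm : Equiv.Perm (Fin D.nroots) :=
  Equiv.ofBijective h.proot (Finite.surjective_iff_bijective.1 (h.proot_surj hc))

/-- the permutation of the nodes -/
noncomputable def nodePerm : Equiv.Perm (Fin D.rank) :=
  Equiv.ofBijective (fun i => ⟨node.get i.val, (h.tw_node hc i).1⟩)
    (Finite.injective_iff_bijective.1 fun i j e => G.simp_injective
      ((Finite.injective_iff_surjective.2 (h.proot_surj hc)) (Fin.ext (by
        show E.p.get (G.simp' i).val = E.p.get (G.simp' j).val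
        rw [(h.tw_node hc i).2.1, (h.tw_node hc j).2.1, show node.get i.val = node.get j.val from
          congrArg Fin.val e]))))

/-- the twist from an intertwiner and field automorphisms -/
noncomputable def mkTwist {K : Type*} [Field K] (hm : (E.m : K) = 0)
    (hinj : Function.Injective (h.rtgt hm)) (θ : K ≃+* K) (σ : Fin D.nroots → (K ≃+* K))
    (hσ : ∀ r x, σ r x = θ x ^ E.lam.get r.val) : Twist G K where
  φ := (h.exists_hom hm hinj).choose.comp
    (((fmap D θ.toRingHom).comp (D.group K).subtype).codRestrict (D.group K)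
      fun g => G.fmap_mem_group _ g.2)
  p := h.rootPerm hc
  node := h.nodePerm hc
  σ := σ
  eps r := (sgnB (E.eps.get r.val) : K)
  φ_xu r t := by
    rw [MonoidHom.comp_apply, hσ]
    refine Eq.trans (congrArg _ ?_) ((h.exists_hom hm hinj).choose_spec.1 r (θ t))
    exact Subtype.ext (G.fmap_xu θ.toRingHom r t)
  eps_ne r := left_ne_zero_of_mul_eq_one (b := (sgnB (E.eps.get r.val) : K))
    (by rw [← Int.cast_mul, sgnB_sq, Int.cast_one])
  p_simp i := Fin.ext (by
    show E.p.get (G.simp' i).val = (G.simp' (h.nodePerm hc i)).val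
    rw [(h.tw_node hc i).2.1]
    exact G.simples_eq' h.checks (h.nodePerm hc i))
  p_negr r := Fin.ext (by
    show E.p.get (G.negr r).val = (G.negr (h.proot r)).val
    have hc' := hc
    simp only [chkTwist, Bool.and_eq_true] at hc'
    have := allLt_spec hc'.1.2 r.val r.isLt
    simp only [Bool.and_eq_true, Nat.beq_eq] at this
    have e1 := (rowsOK h.checks.rows).negs r.val r.isLt
    have e2 := (rowsOK h.checks.rows).negs (h.proot r).val (h.proot r).isLt
    rw [e1] at this
    rw [G.negr_val, G.negr_val]
    exact this.1.trans e2)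
  p_pos r := by
    have hc' := hc
    simp only [chkTwist, Bool.and_eq_true] at hc'
    have := allLt_spec hc'.1.2 r.val r.isLt
    simp only [Bool.and_eq_true] at this
    rw [G.pos_iff_half, G.pos_iff_half]
    show D.nroots / 2 ≤ E.p.get r.val ↔ _
    by_cases hr : D.nroots / 2 ≤ r.val
    · rw [Nat.ble_eq_true_of_le hr, cond_true] at this
      exact ⟨fun _ => hr, fun _ => Nat.le_of_ble_eq_true this.2⟩
    · rw [show Nat.ble (D.nroots / 2) r.val = false from Bool.eq_false_iff.2 fun e =>
        hr (Nat.le_of_ble_eq_true e), cond_false] at this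
      have := Nat.blt_eq.mp this.2
      exact ⟨fun h1 => absurd h1 (by omega), fun h1 => absurd h1 hr⟩
  eps_simp i := by rw [(h.tw_node hc i).2.2.1]; simp [sgnB]
  eps_negr i := by rw [(h.tw_node hc i).2.2.2.1]; simp [sgnB]
  σ_negr i := RingEquiv.ext fun x => by rw [hσ, hσ, (h.tw_node hc i).2.2.2.2]

end Emb

namespace Full

variable (C : Full D) {K : Type*} [Field K]

include C

omit C in
theorem prod_map_filter {α M : Type*} [Monoid M] (q : α → Bool) (g : α → M) :
    ∀ l : List α, (∀ a ∈ l, q a = false → g a = 1) → (l.map g).prod = ((l.filter q).map g).prod := by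
  intro l
  induction l with
  | nil => intro _; rfl
  | cons a l ih =>
    intro hl
    have ih' := ih fun b hb => hl b (List.mem_cons_of_mem _ hb)
    cases hq : q a with
    | false => rw [List.filter_cons_of_neg (by simp [hq]), List.map_cons, List.prod_cons,
        hl a List.mem_cons_self hq, one_mul, ih']
    | true => rw [List.filter_cons_of_pos hq, List.map_cons, List.prod_cons, List.map_cons,
        List.prod_cons, ih']

theorem uprod_support {L : List (Fin D.nroots)} (S : Fin D.nroots → Prop) [DecidablePred S]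
    (hL : (List.finRange D.nroots).filter (fun r => decide (D.IsPosRoot r.val ∧ S r)) = L)
    (t : Fin D.nroots → K) (ht : ∀ r : Fin D.nroots, D.IsPosRoot r.val → ¬ S r → t r = 0) :
    C.uprod 0 t = (L.map fun r => C.G.xu r (t r)).prod := by
  classical
  rw [← hL, uprod, prod_map_filter (fun r => decide (D.IsPosRoot r.val ∧ S r)), List.filter_filter]
  · congr 2
    exact List.filter_congr fun r _ => by by_cases hp : D.IsPosRoot r.val <;> by_cases hs : S r <;> simp [hp, hs]
  · intro r hr hq
    simp only [List.mem_filter, decide_eq_true_eq] at hr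
    rw [ht r hr.2.2 fun hs => by simp [hr.2.2, hs] at hq, C.G.xu_zero]

/-- the normal form in an inversion group -/
theorem Uinv_normal {n : GL D.Idx K} {π : Equiv.Perm (Fin D.nroots)} (hn : C.G.NPerm n π)
    {L : List (Fin D.nroots)}
    (hL : (List.finRange D.nroots).filter
      (fun r => decide (D.IsPosRoot r.val ∧ ¬ D.IsPosRoot (π r).val)) = L)
    {g : GL D.Idx K} (hg : g ∈ (Uinv C.G π : Subgroup (GL D.Idx K))) :
    ∃ t : Fin D.nroots → K, g = (L.map fun r => C.G.xu r (t r)).prod := by
  classical
  obtain ⟨t, ht⟩ := C.Uinv_param hn (inv_mem hg)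
  refine ⟨fun r => if D.IsPosRoot (π r).val then 0 else -t r, ?_⟩
  rw [← C.uprod_support (fun r => ¬ D.IsPosRoot (π r).val) hL _ fun r _ h => if_pos (not_not.1 h)]
  exact inv_injective ht

theorem normal_mem {π : Equiv.Perm (Fin D.nroots)} {L : List (Fin D.nroots)}
    (hL : (List.finRange D.nroots).filter
      (fun r => decide (D.IsPosRoot r.val ∧ ¬ D.IsPosRoot (π r).val)) = L) (t : Fin D.nroots → K) :
    (L.map fun r => C.G.xu r (t r)).prod ∈ (Uinv C.G π : Subgroup (GL D.Idx K)) := by
  refine list_prod_mem fun x hx => ?_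
  obtain ⟨r, hr, rfl⟩ := List.mem_map.1 hx
  rw [← hL] at hr
  simp only [List.mem_filter, decide_eq_true_eq] at hr
  exact Subgroup.subset_closure ⟨r, t r, hr.2, rfl⟩

theorem normal_inj {π : Equiv.Perm (Fin D.nroots)} {L : List (Fin D.nroots)}
    (hL : (List.finRange D.nroots).filter
      (fun r => decide (D.IsPosRoot r.val ∧ ¬ D.IsPosRoot (π r).val)) = L) (t u : Fin D.nroots → K)
    (e : (L.map fun r => C.G.xu r (t r)).prod = (L.map fun r => C.G.xu r (u r)).prod)
    {r : Fin D.nroots} (hr : r ∈ L) : t r = u r := by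
  classical
  let ext : (Fin D.nroots → K) → Fin D.nroots → K := fun t r => if D.IsPosRoot (π r).val then 0 else t r
  have key : ∀ t, C.uprod 0 (ext t) = (L.map fun r => C.G.xu r (t r)).prod := fun t => by
    rw [C.uprod_support (fun r => ¬ D.IsPosRoot (π r).val) hL _ fun r _ h => if_pos (not_not.1 h)]
    congr 1
    refine List.map_congr_left fun r hr => ?_
    rw [← hL] at hr
    simp only [List.mem_filter, decide_eq_true_eq] at hr
    simp only [ext, if_neg hr.2.2]
  rw [← hL] at hr
  simp only [List.mem_filter, decide_eq_true_eq] at hr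
  have := C.uprod_inj D.nroots 0 (Nat.zero_add _) (ext t) (ext u) (by rw [key t, key u, e]) r (Nat.zero_le _) hr.2.1
  simpa [ext, hr.2.2] using this

end Full

end CfsgLib.Lie.Chev
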