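import Cfsg.Agent.Lib.Lie.Chev.Tw.Cert
import Cfsg.Agent.Lib.Lie.Chev.GoodG2

/-!
The orbits of `plainG2` and the centraliser of the root permutation in the Weyl group of type G2.
-/

set_option autoImplicit false
set_option maxRecDepth 100000

namespace CfsgLib.Lie.Chev

open Cfsg.Lie

/-- the orbits -/
noncomputable def orbPlainG2 : OrbData where
  no := 2
  P := 0xb000a0009000800070006000500040003000200010000
  orb := (.node 1 (.leaf [0]) (.leaf [1]))
  word := (.node 1 (.leaf [0]) (.leaf [1]))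
  tab := (.node 1 (.leaf 0xb0006000800090004000a000100070002000300050000) (.leaf 0xa000b0009000700080005000600030004000200000001))
  oidx := (.node 1 (.leaf 0) (.leaf 1))

/-- the enumeration -/
noncomputable def enumPlainG2 : EnumData where
  m := 12
  P := (.node 6 (.node 3 (.node 1 (.leaf 0xb000a0009000800070006000500040003000200010000) (.node 2 (.leaf 0xb0006000800090004000a000100070002000300050000) (.leaf 0xa000b0009000700080005000600030004000200000001))) (.node 4 (.leaf 0xa0005000700090003000b000000080002000400060001) (.node 5 (.leaf 0x6000b0008000400090001000a00020007000300000005) (.leaf 0x60001000400080002000b0000000900030007000a0005)))) (.node 9 (.node 7 (.leaf 0x5000a0007000300090000000b00020008000400010006) (.node 8 (.leaf 0x50000000300070002000a0001000900040008000b0006) (.leaf 0x100060004000200080000000b0003000900070005000a))) (.node 10 (.leaf 0x1000000020004000300060005000800070009000b000a) (.node 11 (.leaf 0x50003000200070001000a0004000900080006000b) (.leaf 0x100020003000400050006000700080009000a000b)))))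
  par := (.node 6 (.node 3 (.node 1 (.leaf (0, 0)) (.node 2 (.leaf (0, 0)) (.leaf (1, 0)))) (.node 4 (.leaf (1, 1)) (.node 5 (.leaf (0, 2)) (.leaf (0, 3))))) (.node 9 (.node 7 (.leaf (1, 4)) (.node 8 (.leaf (1, 5)) (.leaf (0, 6)))) (.node 10 (.leaf (0, 7)) (.node 11 (.leaf (1, 8)) (.leaf (1, 9))))))
  ch := (.node 6 (.node 3 (.node 1 (.leaf [1, 2]) (.node 2 (.leaf [0, 3]) (.leaf [4, 0]))) (.node 4 (.leaf [5, 1]) (.node 5 (.leaf [2, 6]) (.leaf [3, 7])))) (.node 9 (.node 7 (.leaf [8, 4]) (.node 8 (.leaf [9, 5]) (.leaf [6, 10]))) (.node 10 (.leaf [7, 11]) (.node 11 (.leaf [11, 8]) (.leaf [10, 9])))))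
  ord := (.node 6 (.node 3 (.node 1 (.leaf 0) (.node 2 (.leaf 1) (.leaf 2))) (.node 4 (.leaf 3) (.node 5 (.leaf 4) (.leaf 5)))) (.node 9 (.node 7 (.leaf 6) (.node 8 (.leaf 7) (.leaf 8))) (.node 10 (.leaf 9) (.node 11 (.leaf 10) (.leaf 11)))))
  rk := (.node 6 (.node 3 (.node 1 (.leaf 0) (.node 2 (.leaf 1) (.leaf 2))) (.node 4 (.leaf 3) (.node 5 (.leaf 4) (.leaf 5)))) (.node 9 (.node 7 (.leaf 6) (.node 8 (.leaf 7) (.leaf 8))) (.node 10 (.leaf 9) (.node 11 (.leaf 10) (.leaf 11)))))
  len := (.node 6 (.node 3 (.node 1 (.leaf 0) (.node 2 (.leaf 1) (.leaf 1))) (.node 4 (.leaf 2) (.node 5 (.leaf 2) (.leaf 3)))) (.node 9 (.node 7 (.leaf 3) (.node 8 (.leaf 4) (.leaf 4))) (.node 10 (.leaf 5) (.node 11 (.leaf 5) (.leaf 6)))))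

theorem chkOrb_plainG2 : chkOrb chevG2 fastG2 orbPlainG2 = true := by decide +kernel

theorem chkEnum_plainG2 : chkEnum chevG2 orbPlainG2 enumPlainG2 = true := by decide +kernel

/-- the lengths, counted -/
theorem lens_plainG2 : ((List.range enumPlainG2.m).map fun k => enumPlainG2.len.get k).Perm
    (List.replicate 1 0 ++ List.replicate 2 1 ++ List.replicate 2 2 ++ List.replicate 2 3 ++ List.replicate 2 4 ++ List.replicate 2 5 ++ List.replicate 1 6) := by decide +kernel

end CfsgLib.Lie.Chev
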