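import Cfsg.Agent.Lib.Lie.Chev.Tw.Root

/-!
# The centraliser of a diagram permutation in the Weyl group

It is generated by the longest elements of the orbits on the nodes, with additive lengths.
-/

set_option autoImplicit false

namespace CfsgLib.Lie.Chev

open Cfsg.Lie

variable {D : ChevalleyDatum}

/-- the orbits of a root permutation on the fundamental roots, with their longest elements -/
structure Orbits (G : Good D) (p : Equiv.Perm (Fin D.nroots)) (ι : Type) where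
  /-- the nodes of an orbit -/
  J : ι → Finset (Fin D.rank)
  /-- a word for the longest element of an orbit -/
  wl : ι → List (Fin D.rank)
  wl_mem : ∀ k, ∀ i ∈ wl k, i ∈ J k
  wl_simp : ∀ k, ∀ j ∈ J k, ∃ j' ∈ J k, G.pw (wl k) (G.simp' j) = G.negr (G.simp' j')
  nonempty : ∀ k, (J k).Nonempty
  cover : ∀ i, ∃ k, i ∈ J k
  disjoint : ∀ k k' i, i ∈ J k → i ∈ J k' → k = k'
  comm : ∀ k, p * G.pw (wl k) = G.pw (wl k) * p
  pos : ∀ r, D.IsPosRoot (p r).val ↔ D.IsPosRoot r.val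
  trans : ∀ k, ∀ a ∈ J k, ∀ b ∈ J k, ∃ n : ℕ, (p ^ n) (G.simp' a) = G.simp' b

variable {G : Good D} {p : Equiv.Perm (Fin D.nroots)} {ι : Type}

/-- the elements of the Weyl group commuting with the permutation -/
def Wp (G : Good D) (p : Equiv.Perm (Fin D.nroots)) : Subgroup (Equiv.Perm (Fin D.nroots)) :=
  G.Wg ⊓ Subgroup.centralizer {p}

theorem mem_Wp {π : Equiv.Perm (Fin D.nroots)} :
    π ∈ Wp G p ↔ π ∈ G.Wg ∧ p * π = π * p := by
  simp [Wp, Subgroup.mem_inf, Subgroup.mem_centralizer_singleton_iff, eq_comm]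

namespace Orbits

variable (O : Orbits G p ι)

include O

/-- the longest element of an orbit -/
def wO (k : ι) : Equiv.Perm (Fin D.nroots) := G.pw (O.wl k)

theorem wO_mem (k : ι) : O.wO k ∈ Wp G p := mem_Wp.2 ⟨G.pw_mem _, O.comm k⟩

theorem wO_simp_neg {k : ι} {j : Fin D.rank} (hj : j ∈ O.J k) :
    ¬ D.IsPosRoot (O.wO k (G.simp' j)).val := by
  obtain ⟨j', -, e⟩ := O.wl_simp k j hj
  rw [show O.wO k (G.simp' j) = _ from e]
  exact G.negr_simp_not_pos j'

theorem wO_pos_iff {k : ι} {r : Fin D.nroots} (hr : D.IsPosRoot r.val) :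
    D.IsPosRoot (O.wO k r).val ↔ ¬ InJ G (O.J k) r :=
  ⟨fun h hin => G.neg_posJ (fun _ hj => O.wO_simp_neg hj) hin hr h,
    G.pos_pw_of_not_inJ (O.wl_mem k) hr⟩

theorem wO_ne_one (k : ι) : O.wO k ≠ 1 := fun h => by
  obtain ⟨j, hj⟩ := O.nonempty k
  have := O.wO_simp_neg hj
  rw [h] at this
  exact this (G.simp_pos j)

theorem ninv_wO_pos (k : ι) : 0 < ninv G (O.wO k) := by
  obtain ⟨j, hj⟩ := O.nonempty k
  exact Finset.card_pos.2 ⟨G.simp' j, Finset.mem_filter.2
    ⟨Finset.mem_univ _, G.simp_pos j, O.wO_simp_neg hj⟩⟩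

theorem wO_mul_self (k : ι) : O.wO k * O.wO k = 1 := by
  rw [Orbits.wO, ← G.pw_append]
  refine G.pw_eq_one_of_posJ (O.J k) _ _ rfl (fun i hi => ?_) fun j hj => ?_
  · rcases List.mem_append.1 hi with h | h <;> exact O.wl_mem k i h
  · rw [G.pw_append, Equiv.Perm.mul_apply]
    obtain ⟨j', hj', e⟩ := O.wl_simp k j hj
    rw [e, G.pw_negr, G.negr_pos_iff]
    exact O.wO_simp_neg hj'

theorem wO_inv (k : ι) : (O.wO k)⁻¹ = O.wO k := inv_eq_of_mul_eq_one_right (O.wO_mul_self k)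

theorem comm_apply {π : Equiv.Perm (Fin D.nroots)} (h : π ∈ Wp G p) (n : ℕ) (r : Fin D.nroots) :
    π ((p ^ n) r) = (p ^ n) (π r) := by
  have e : Commute (p ^ n) π := Commute.pow_left (mem_Wp.1 h).2 n
  exact (DFunLike.congr_fun e.eq r).symm

theorem pos_pow (n : ℕ) (r : Fin D.nroots) :
    D.IsPosRoot ((p ^ n) r).val ↔ D.IsPosRoot r.val := by
  induction n with
  | zero => rfl
  | succ n ih => rw [pow_succ', Equiv.Perm.mul_apply, O.pos, ih]

/-- an element of the centraliser has one sign on each orbit -/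
theorem sign_orbit {π : Equiv.Perm (Fin D.nroots)} (h : π ∈ Wp G p) {k : ι} {a b : Fin D.rank}
    (ha : a ∈ O.J k) (hb : b ∈ O.J k) :
    D.IsPosRoot (π (G.simp' a)).val ↔ D.IsPosRoot (π (G.simp' b)).val := by
  obtain ⟨n, e⟩ := O.trans k a ha b hb
  rw [← e, O.comm_apply h, O.pos_pow]

/-- the orbit is negated, and it is kept after multiplication by its longest element -/
theorem neg_iff {π : Equiv.Perm (Fin D.nroots)} (h : π ∈ Wp G p) {k : ι} {j : Fin D.rank}
    (hj : j ∈ O.J k) :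
    D.IsPosRoot ((π * O.wO k) (G.simp' j)).val ↔ ¬ D.IsPosRoot (π (G.simp' j)).val := by
  obtain ⟨j', hj', e⟩ := O.wl_simp k j hj
  rw [Equiv.Perm.mul_apply, show O.wO k (G.simp' j) = _ from e, G.Wg_negr (mem_Wp.1 h).1,
    G.negr_pos_iff, O.sign_orbit h hj' hj]

theorem exists_neg {π : Equiv.Perm (Fin D.nroots)} (h : π ∈ Wp G p) (h1 : π ≠ 1) :
    ∃ k, ∀ j ∈ O.J k, ¬ D.IsPosRoot (π (G.simp' j)).val := by
  obtain ⟨l, rfl⟩ := G.exists_pw (mem_Wp.1 h).1
  by_contra hc
  simp only [not_exists, not_forall, not_not] at hc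
  refine h1 (G.pw_eq_one_of_pos l.length l rfl fun i => ?_)
  obtain ⟨k, hk⟩ := O.cover i
  obtain ⟨j, hj, hp⟩ := hc k
  exact (O.sign_orbit h hk hj).2 hp

theorem ninv_mul_wO {π : Equiv.Perm (Fin D.nroots)} (h : π ∈ Wp G p) {k : ι}
    (hk : ∀ j ∈ O.J k, D.IsPosRoot (π (G.simp' j)).val) :
    ninv G (π * O.wO k) = ninv G π + ninv G (O.wO k) := by
  obtain ⟨l, rfl⟩ := G.exists_pw (mem_Wp.1 h).1
  exact G.ninv_mul hk (O.wl_mem k)

/-- induction along the lengths -/
theorem induction_on {P : Equiv.Perm (Fin D.nroots) → Prop} {π : Equiv.Perm (Fin D.nroots)}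
    (h : π ∈ Wp G p) (h1 : P 1)
    (hstep : ∀ π' ∈ Wp G p, ∀ k, (∀ j ∈ O.J k, D.IsPosRoot (π' (G.simp' j)).val) →
      ninv G (π' * O.wO k) = ninv G π' + ninv G (O.wO k) → P π' → P (π' * O.wO k)) : P π := by
  induction hn : ninv G π using Nat.strong_induction_on generalizing π with
  | _ n ih =>
    by_cases e : π = 1
    · exact e ▸ h1
    obtain ⟨k, hk⟩ := O.exists_neg h e
    have h' : π * O.wO k ∈ Wp G p := mul_mem h (O.wO_mem k)
    have hpos : ∀ j ∈ O.J k, D.IsPosRoot ((π * O.wO k) (G.simp' j)).val :=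
      fun j hj => (O.neg_iff h hj).2 (hk j hj)
    have hadd := O.ninv_mul_wO h' hpos
    have hback : π * O.wO k * O.wO k = π := by rw [mul_assoc, O.wO_mul_self, mul_one]
    have hlt : ninv G (π * O.wO k) < n := by
      have := O.ninv_wO_pos k
      rw [hback, hn] at hadd
      omega
    have := hstep _ h' k hpos hadd (ih _ hlt h' rfl)
    rwa [hback] at this

/-- the elements of the centraliser in the Weyl group of an orbit -/
theorem eq_one_or_wO {π : Equiv.Perm (Fin D.nroots)} (h : π ∈ Wp G p) {k : ι}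
    (hJ : π ∈ WJ G (O.J k)) : π = 1 ∨ π = O.wO k := by
  obtain ⟨l, hl, rfl⟩ := G.exists_pwJ hJ
  obtain ⟨j, hj⟩ := O.nonempty k
  by_cases hp : D.IsPosRoot (G.pw l (G.simp' j)).val
  · exact Or.inl (G.pw_eq_one_of_posJ _ l.length l rfl hl fun i hi => (O.sign_orbit h hi hj).2 hp)
  · right
    have hn : ∀ i ∈ O.J k, D.IsPosRoot ((G.pw l * O.wO k) (G.simp' i)).val := fun i hi =>
      (O.neg_iff h hi).2 fun hh => hp ((O.sign_orbit h hi hj).1 hh)
    have e : G.pw (l ++ O.wl k) = 1 := by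
      refine G.pw_eq_one_of_posJ (O.J k) _ _ rfl (fun i hi => ?_) fun i hi => ?_
      · rcases List.mem_append.1 hi with h | h
        exacts [hl i h, O.wl_mem k i h]
      · rw [G.pw_append]; exact hn i hi
    rw [G.pw_append] at e
    exact (eq_inv_of_mul_eq_one_left e).trans (O.wO_inv k)

theorem wO_injective : Function.Injective O.wO := fun k k' e => by
  obtain ⟨j, hj⟩ := O.nonempty k
  by_contra hne
  have hneg := O.wO_simp_neg hj
  rw [e, O.wO_pos_iff (G.simp_pos j), not_not] at hneg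
  have h1 := hneg j fun h => hne (O.disjoint k k' j hj h)
  rw [G.rho_simp, Pi.single_eq_same] at h1
  exact one_ne_zero h1

end Orbits

end CfsgLib.Lie.Chev
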