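import Cfsg.Agent.Lib.Lie.Chev.Tw.Aut
import Cfsg.Agent.Lib.Lie.Chev.Tw.Tools2

/-!
# Tools for the Suzuki and Ree twists
-/

set_option autoImplicit false

namespace CfsgLib.Lie.Chev

open Cfsg.Lie
open scoped MatrixGroups

variable {D : ChevalleyDatum} {f : Fast} {E : EmbData} {K : Type*} [Field K]

namespace Emb

/-- faithfulness of the target block on a simple group with a witness -/
theorem rtgt_injective_of_witness {G : Good D} (h : Emb G f E) [IsSimpleGroup ↥(D.group K)]
    [CharP K E.m] (r : Fin D.nroots) (a b : D.Idx) (hw : Witness D E r a b) :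
    Function.Injective (h.rtgt (CharP.cast_eq_zero K E.m)) := by
  obtain ⟨hab, hTa, hTb, he, hdvd⟩ := hw
  have hm : ((E.m : ℕ) : K) = 0 := CharP.cast_eq_zero K _
  have hne : xg K r 1 a b ≠ 0 := by
    rw [xg_apply, if_neg hab]
    simp only [one_pow, one_mul, zero_add, ← Int.cast_add]
    exact fun e => hdvd ((CharP.intCast_eq_zero_iff K E.m _).1 e)
  have hab' : (⟨a, hTa⟩ : TIdx D E) ≠ ⟨b, hTb⟩ := fun e => hab (congrArg Subtype.val e)
  refine h.rtgt_injective_of_simple hm (r := h.proot r) hab' ?_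
  have := h.xg_block hm r (1 : K) ⟨a, hTa⟩ ⟨b, hTb⟩
  rw [he, show sgnB false = 1 from rfl, Int.cast_one, one_mul, one_pow] at this
  rw [this]
  refine mul_ne_zero (mul_ne_zero ?_ ?_) hne <;>
    exact left_ne_zero_of_mul_eq_one (Emb.sg_mul_self _)

end Emb

namespace Good

variable (G : Good D)

include G

theorem orbit_mem_LJ {p : Equiv.Perm (Fin D.nroots)} {ι : Type} (O : Orbits G p ι) {k : ι}
    {r : Fin D.nroots} (hr : D.IsPosRoot r.val) (hneg : ¬ D.IsPosRoot (O.wO k r).val) (t : K) :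
    G.xu r t ∈ (LJ G (O.J k) : Subgroup (GL D.Idx K)) ∧
      G.xu (G.negr r) t ∈ (LJ G (O.J k) : Subgroup (GL D.Idx K)) := by
  have h : InJ G (O.J k) r := not_not.1 fun h => hneg ((O.wO_pos_iff hr).2 h)
  exact ⟨Subgroup.subset_closure ⟨r, t, h, rfl⟩, Subgroup.subset_closure ⟨_, t, G.inJ_negr h, rfl⟩⟩

end Good

end CfsgLib.Lie.Chev
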