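import Cfsg.Agent.Lib.Lie.Chev.Tw.Orbits

/-!
# Twisting endomorphisms of a Chevalley group
-/

set_option autoImplicit false

namespace CfsgLib.Lie.Chev

open Cfsg.Lie
open scoped MatrixGroups

variable {D : ChevalleyDatum}

/-- an endomorphism permuting the root subgroups by a diagram symmetry, with field automorphisms -/
structure Twist (G : Good D) (K : Type*) [Field K] where
  /-- the endomorphism -/
  φ : ↥(D.group K) →* ↥(D.group K)
  /-- the permutation of the roots -/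
  p : Equiv.Perm (Fin D.nroots)
  /-- the permutation of the nodes -/
  node : Equiv.Perm (Fin D.rank)
  /-- the field automorphisms -/
  σ : Fin D.nroots → (K ≃+* K)
  /-- the signs -/
  eps : Fin D.nroots → K
  φ_xu : ∀ r t, φ ⟨G.xu r t, G.xu_mem r t⟩ = ⟨G.xu (p r) (eps r * σ r t), G.xu_mem _ _⟩
  eps_ne : ∀ r, eps r ≠ 0
  p_simp : ∀ i, p (G.simp' i) = G.simp' (node i)
  p_negr : ∀ r, p (G.negr r) = G.negr (p r)
  p_pos : ∀ r, D.IsPosRoot (p r).val ↔ D.IsPosRoot r.val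
  eps_simp : ∀ i, eps (G.simp' i) = 1
  eps_negr : ∀ i, eps (G.negr (G.simp' i)) = 1
  σ_negr : ∀ i, σ (G.negr (G.simp' i)) = σ (G.simp' i)

namespace Twist

variable {G : Good D} {K : Type*} [Field K] (T : Twist G K)

include T

/-- the fixed elements -/
noncomputable def Fix : Subgroup (GL D.Idx K) :=
  (MonoidHom.eqLocus T.φ (MonoidHom.id _)).map (D.group K).subtype

theorem mem_Fix {g : GL D.Idx K} : g ∈ T.Fix ↔ ∃ h : g ∈ D.group K, T.φ ⟨g, h⟩ = ⟨g, h⟩ := by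
  constructor
  · rintro ⟨x, hx, rfl⟩; exact ⟨x.2, hx⟩
  · rintro ⟨h, e⟩; exact ⟨⟨g, h⟩, e, rfl⟩

theorem Fix_le : T.Fix ≤ D.group K := fun _ hg => ((T.mem_Fix).1 hg).1

theorem fix_eq {g : GL D.Idx K} (hg : g ∈ T.Fix) (h : g ∈ D.group K) :
    (T.φ ⟨g, h⟩ : GL D.Idx K) = g := by
  obtain ⟨_, e⟩ := (T.mem_Fix).1 hg
  exact congrArg Subtype.val e

theorem φ_nU (i : Fin D.rank) :
    T.φ ⟨G.nU i, G.nU_mem_group i⟩ = ⟨G.nU (T.node i), G.nU_mem_group _⟩ := by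
  rw [show (⟨G.nU i, G.nU_mem_group i⟩ : ↥(D.group K)) =
    ⟨G.xu (G.simp' i) 1, G.xu_mem _ _⟩ * ⟨G.xu (G.negr (G.simp' i)) (-1), G.xu_mem _ _⟩ *
      ⟨G.xu (G.simp' i) 1, G.xu_mem _ _⟩ from rfl]
  rw [map_mul, map_mul, T.φ_xu, T.φ_xu, T.eps_simp, T.eps_negr, map_one, map_neg, map_one]
  apply Subtype.ext
  simp only [T.p_negr, T.p_simp, one_mul]
  rfl

theorem φ_hd (i : Fin D.rank) (c : Kˣ) :
    T.φ ⟨G.hd (G.simp' i) c, G.diagonal_le_group (G.hd_mem_H _ _)⟩ =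
      ⟨G.hd (G.simp' (T.node i)) (Units.map (T.σ (G.simp' i)).toMonoidHom c),
        G.diagonal_le_group (G.hd_mem_H _ _)⟩ := by
  have e : ∀ (j : Fin D.rank) (u : Kˣ),
      (⟨G.hd (G.simp' j) u, G.diagonal_le_group (G.hd_mem_H _ _)⟩ : ↥(D.group K)) =
        (⟨G.xu (G.simp' j) (u : K), G.xu_mem _ _⟩ *
          ⟨G.xu (G.negr (G.simp' j)) (-(u : K)⁻¹), G.xu_mem _ _⟩ *
          ⟨G.xu (G.simp' j) (u : K), G.xu_mem _ _⟩) *
        (⟨G.xu (G.simp' j) (-1), G.xu_mem _ _⟩ *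
          ⟨G.xu (G.negr (G.simp' j)) (-(-1)⁻¹), G.xu_mem _ _⟩ *
          ⟨G.xu (G.simp' j) (-1), G.xu_mem _ _⟩) := fun j u =>
    Subtype.ext (G.hE_eq _ u).symm
  rw [e, e]
  simp only [map_mul, T.φ_xu, T.eps_simp, T.eps_negr, T.σ_negr, T.p_negr, T.p_simp, one_mul,
    map_neg, map_one, map_inv₀]
  rfl

/-- the action on the parameters of the torus -/
noncomputable def σT (c : Fin D.rank → Kˣ) : Fin D.rank → Kˣ :=
  fun j => Units.map (T.σ (G.simp' (T.node.symm j))).toMonoidHom (c (T.node.symm j))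

theorem φ_torθ (c : Fin D.rank → Kˣ) (h : G.torθ c ∈ D.group K) :
    (T.φ ⟨G.torθ c, h⟩ : GL D.Idx K) = G.torθ (T.σT c) := by
  classical
  let f : (Fin D.rank → Kˣ) →* ↥(D.group K) :=
    (G.torθ (K := K)).codRestrict (D.group K) fun c =>
      G.diagonal_le_group ((G.diagonal_eq_range (K := K)).symm ▸ ⟨c, rfl⟩)
  let τ : (Fin D.rank → Kˣ) →* (Fin D.rank → Kˣ) :=
    { toFun := T.σT
      map_one' := funext fun j => by simp [σT]
      map_mul' := fun a b => funext fun j => by simp [σT] }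
  suffices T.φ.comp f = f.comp τ from congrArg Subtype.val (DFunLike.congr_fun this c)
  refine MonoidHom.pi_ext fun i u => ?_
  show T.φ (f (Pi.mulSingle i u)) = f (T.σT (Pi.mulSingle i u))
  have e1 : f (Pi.mulSingle i u) = ⟨G.hd (G.simp' i) u, G.diagonal_le_group (G.hd_mem_H _ _)⟩ :=
    Subtype.ext (G.torθ_single i u)
  rw [e1, T.φ_hd]
  apply Subtype.ext
  show G.hd _ _ = G.torθ _
  rw [← G.torθ_single]
  congr 1
  funext j
  by_cases hj : j = T.node i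
  · subst hj; simp [σT]
  · have : T.node.symm j ≠ i := fun e => hj (e ▸ (T.node.apply_symm_apply j).symm)
    simp [σT, hj, this]

theorem φ_mem_H {g : GL D.Idx K} (hg : g ∈ D.diagonalSubgroup K) (h : g ∈ D.group K) :
    (T.φ ⟨g, h⟩ : GL D.Idx K) ∈ D.diagonalSubgroup K := by
  obtain ⟨c, rfl⟩ := (G.diagonal_eq_range (K := K) ▸ hg : g ∈ (G.torθ (K := K)).range)
  rw [T.φ_torθ c h, G.diagonal_eq_range]
  exact ⟨_, rfl⟩

theorem φ_mem_of_gens (P Q : Fin D.nroots → Prop) (hPQ : ∀ r, P r → Q (T.p r)) {g : GL D.Idx K}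
    (hg : g ∈ Subgroup.closure {g : GL D.Idx K | ∃ r t, P r ∧ g = G.xu r t}) :
    ∀ h : g ∈ D.group K, (T.φ ⟨g, h⟩ : GL D.Idx K) ∈
      Subgroup.closure {g : GL D.Idx K | ∃ r t, Q r ∧ g = G.xu r t} := by
  intro h
  have hle : Subgroup.closure {g : GL D.Idx K | ∃ r t, P r ∧ g = G.xu r t} ≤
      ((Subgroup.closure {g : GL D.Idx K | ∃ r t, Q r ∧ g = G.xu r t}).comap
        ((D.group K).subtype.comp T.φ)).map (D.group K).subtype := by
    rw [Subgroup.closure_le]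
    rintro x ⟨r, t, hr, rfl⟩
    refine ⟨⟨_, G.xu_mem r t⟩, ?_, rfl⟩
    rw [SetLike.mem_coe, Subgroup.mem_comap, MonoidHom.comp_apply, Subgroup.coe_subtype, T.φ_xu]
    exact Subgroup.subset_closure ⟨T.p r, _, hPQ r hr, rfl⟩
  obtain ⟨y, hy, e⟩ := hle hg
  exact (Subtype.ext e : y = ⟨g, h⟩) ▸ hy

theorem φ_mem_U {g : GL D.Idx K} (hg : g ∈ D.posUnipotent K) (h : g ∈ D.group K) :
    (T.φ ⟨g, h⟩ : GL D.Idx K) ∈ D.posUnipotent K := by
  rw [G.posUnipotent_eq_closure] at hg ⊢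
  exact T.φ_mem_of_gens _ _ (fun r hr => (T.p_pos r).2 hr) hg h

theorem φ_mem_B {g : GL D.Idx K} (hg : g ∈ D.borelSubgroup K) (h : g ∈ D.group K) :
    (T.φ ⟨g, h⟩ : GL D.Idx K) ∈ D.borelSubgroup K := by
  obtain ⟨u, hu, d, hd, rfl⟩ := G.mem_borel_iff.1 hg
  rw [show (⟨u * d, h⟩ : ↥(D.group K)) =
    ⟨u, G.posUnipotent_le_group hu⟩ * ⟨d, G.diagonal_le_group hd⟩ from rfl, map_mul]
  exact mul_mem (Subgroup.mem_sup_left (T.φ_mem_U hu _)) (Subgroup.mem_sup_right (T.φ_mem_H hd _))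

theorem φ_mem_N {g : GL D.Idx K} (hg : g ∈ D.monomialSubgroup K) (h : g ∈ D.group K) :
    (T.φ ⟨g, h⟩ : GL D.Idx K) ∈ D.monomialSubgroup K := by
  have hle : D.monomialSubgroup K ≤
      ((D.monomialSubgroup K).comap ((D.group K).subtype.comp T.φ)).map (D.group K).subtype := by
    refine le_of_eq_of_le G.monomial_eq (sup_le (fun x hx => ⟨⟨x, G.diagonal_le_group hx⟩,
      Subgroup.mem_sup_left (T.φ_mem_H hx _), rfl⟩) ((Subgroup.closure_le _).2 ?_))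
    rintro x ⟨i, rfl⟩
    refine ⟨⟨_, G.nU_mem_group i⟩, ?_, rfl⟩
    rw [SetLike.mem_coe, Subgroup.mem_comap, MonoidHom.comp_apply, Subgroup.coe_subtype, T.φ_nU]
    exact G.nU_mem_monomial _
  obtain ⟨y, hy, e⟩ := hle hg
  exact (Subtype.ext e : y = ⟨g, h⟩) ▸ hy

theorem nPerm_φ {g : GL D.Idx K} (hgN : g ∈ D.monomialSubgroup K)
    {π : Equiv.Perm (Fin D.nroots)} (hn : G.NPerm g π) (h : g ∈ D.group K) :
    G.NPerm (T.φ ⟨g, h⟩ : GL D.Idx K) (T.p * π * T.p⁻¹) := by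
  obtain ⟨l, hl⟩ := G.exists_nPerm (T.φ_mem_N hgN h)
  suffices G.pw l = T.p * π * T.p⁻¹ from this ▸ hl
  ext s : 1
  obtain ⟨r, rfl⟩ := T.p.surjective s
  obtain ⟨c, hc⟩ := hn r
  obtain ⟨d, hd⟩ := hl (T.p r)
  have h1 : (⟨g, h⟩ * ⟨G.xu r 1, G.xu_mem _ _⟩ * ⟨g, h⟩⁻¹ : ↥(D.group K)) =
      ⟨G.xu (π r) ((c : K) * 1), G.xu_mem _ _⟩ := Subtype.ext (hc 1)
  have h2 := congrArg Subtype.val (congrArg T.φ h1)
  rw [map_mul, map_mul, map_inv, T.φ_xu, T.φ_xu] at h2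
  simp only [Subgroup.coe_mul, Subgroup.coe_inv, hd] at h2
  rw [show (T.p * π * T.p⁻¹) (T.p r) = T.p (π r) by simp]
  exact G.xu_eq_xu h2 (by
    simp [T.eps_ne, d.ne_zero])

end Twist

end CfsgLib.Lie.Chev
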